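import Groth.Agent.RGCore.FlatAtPoint
import Groth.Agent.FlatModel.Open

/-!
Openness of the flat locus and local finite presentation of finite modules over finite type algebras.
-/

set_option autoImplicit false
set_option linter.unusedSectionVars false

universe u

open TensorProduct

namespace Groth.Agent.RGCore

attribute [local instance] Algebra.TensorProduct.rightAlgebra

section Glue

variable {S : Type u} [CommRing S] (N : Type u) [AddCommGroup N] [Module S N]

/-- `N` is covered by a finitely presented module with kernel killed by powers of `h`. -/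
def FPAway (h : S) : Prop :=
  ∃ (N₀ : Type u) (_ : AddCommGroup N₀) (_ : Module S N₀) (π : N₀ →ₗ[S] N),
    Module.FinitePresentation S N₀ ∧ Function.Surjective π ∧ ∀ x, π x = 0 → ∃ k : ℕ, h ^ k • x = 0

theorem exists_finset_mem_radical (g : S) (P : S → Prop) (hloc : ∀ (q : Ideal S) [q.IsPrime], g ∉ q → ∃ h ∉ q, P h) :
    ∃ H : Finset S, (∀ h ∈ H, P h) ∧ g ∈ (Ideal.span (H : Set S)).radical := by
  classical
  have hg : g ∈ (Ideal.span {h | P h}).radical := by
    rw [Ideal.radical_eq_sInf, Submodule.mem_sInf]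
    rintro q ⟨hle, hq⟩
    by_contra hgq
    obtain ⟨h, hh, hP⟩ := @hloc q hq hgq
    exact hh (hle (Ideal.subset_span hP))
  obtain ⟨k, hk⟩ := hg
  obtain ⟨H, hH, hkH⟩ := Submodule.mem_span_finite_of_mem_span hk
  exact ⟨H, hH, k, hkH⟩

variable [Module.Finite S N]

/-- Finite presentation glues. -/
theorem fpAway_of_local (g : S) (hloc : ∀ (q : Ideal S) [q.IsPrime], g ∉ q → ∃ h ∉ q, FPAway N h) : FPAway N g := by
  classical
  obtain ⟨H, hH, hg⟩ := exists_finset_mem_radical g (FPAway N) hloc
  obtain ⟨a, π, hπ⟩ := Module.Finite.exists_fin' S N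
  have hK : ∀ h ∈ H, ∃ K : Submodule S (Fin a → S), K.FG ∧ K ≤ LinearMap.ker π ∧
      ∀ x ∈ LinearMap.ker π, ∃ k : ℕ, h ^ k • x ∈ K := by
    intro h hh
    obtain ⟨N₀, _, _, π₀, _, hπ₀, hker⟩ := hH h hh
    obtain ⟨b, ρ, hρ⟩ := Module.Finite.exists_fin' S N₀
    obtain ⟨G, hG⟩ := Module.FinitePresentation.fg_ker ρ hρ
    choose v hv using fun j : Fin b => hπ (π₀ (ρ (Pi.single j 1)))
    let β : (Fin b → S) →ₗ[S] (Fin a → S) := Fintype.linearCombination S v
    have hβ : π ∘ₗ β = π₀ ∘ₗ ρ := by
      refine (Pi.basisFun S (Fin b)).ext fun j => ?_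
      simp [β, Fintype.linearCombination_apply_single, hv]
    choose c hc using fun i : Fin a => (hπ₀.comp hρ) (π (Pi.single i 1))
    let γ : (Fin a → S) →ₗ[S] (Fin b → S) := Fintype.linearCombination S c
    have hγ : (π₀ ∘ₗ ρ) ∘ₗ γ = π := by
      refine (Pi.basisFun S (Fin a)).ext fun i => ?_
      simp only [LinearMap.comp_apply, Pi.basisFun_apply, γ, Fintype.linearCombination_apply_single, one_smul]
      exact hc i
    let K : Submodule S (Fin a → S) :=
      Submodule.span S ((G.image β : Finset (Fin a → S)) ∪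
        (Finset.univ.image fun i => Pi.single i (1 : S) - β (γ (Pi.single i 1)) : Finset (Fin a → S)) : Set (Fin a → S))
    refine ⟨K, ?_, ?_, fun x hx => ?_⟩
    · exact ⟨G.image β ∪ Finset.univ.image fun i => Pi.single i (1 : S) - β (γ (Pi.single i 1)), by rw [Finset.coe_union]⟩
    · refine Submodule.span_le.2 ?_
      rintro y (hy | hy)
      · obtain ⟨r, hr, rfl⟩ := Finset.mem_image.1 hy
        show π (β r) = 0
        rw [← LinearMap.comp_apply, hβ, LinearMap.comp_apply,
          LinearMap.mem_ker.1 (hG.le (Submodule.subset_span hr)), map_zero]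
      · obtain ⟨i, -, rfl⟩ := Finset.mem_image.1 hy
        show π (_ - β (γ _)) = 0
        rw [map_sub, ← LinearMap.comp_apply, hβ, ← LinearMap.comp_apply, hγ, sub_self]
    · have hsub : ∀ y, y - β (γ y) ∈ K := by
        intro y
        rw [← Finset.univ_sum_single y, map_sum, map_sum, ← Finset.sum_sub_distrib]
        refine Submodule.sum_mem _ fun i _ => ?_
        have : Pi.single i (y i) = y i • Pi.single i (1 : S) := by rw [← Pi.single_smul, smul_eq_mul, mul_one]
        rw [this, map_smul, map_smul, ← smul_sub]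
        exact Submodule.smul_mem _ _ (Submodule.subset_span (Or.inr (Finset.mem_image_of_mem _ (Finset.mem_univ i))))
      have h0 : π₀ (ρ (γ x)) = 0 := (LinearMap.congr_fun hγ x).trans hx
      obtain ⟨k, hk⟩ := hker _ h0
      refine ⟨k, ?_⟩
      have h1 : h ^ k • β (γ x) ∈ K := by
        rw [← map_smul]
        have hmem : h ^ k • γ x ∈ Submodule.span S (G : Set (Fin b → S)) := by
          rw [hG, LinearMap.mem_ker, map_smul, hk]
        have hle : Submodule.span S (G : Set (Fin b → S)) ≤ K.comap β := Submodule.span_le.2 fun r hr =>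
          Submodule.subset_span (Or.inl (Finset.mem_image_of_mem β hr))
        exact hle hmem
      have := add_mem (K.smul_mem (h ^ k) (hsub x)) h1
      rwa [← smul_add, sub_add_cancel] at this
  choose! K hKfg hKle hK using hK
  let K₁ := H.sup K
  have hK₁fg : K₁.FG := Finset.sup_induction Submodule.fg_bot (fun _ h₁ _ h₂ => h₁.sup h₂) hKfg
  let π₁ := K₁.liftQ π (Finset.sup_le hKle)
  refine ⟨(Fin a → S) ⧸ K₁, inferInstance, inferInstance, π₁,
    Module.finitePresentation_of_surjective K₁.mkQ (Submodule.mkQ_surjective _) (by rw [Submodule.ker_mkQ]; exact hK₁fg),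
    fun y => ?_, fun z hz => ?_⟩
  · obtain ⟨x, rfl⟩ := hπ y
    exact ⟨K₁.mkQ x, rfl⟩
  · obtain ⟨x, rfl⟩ := Submodule.Quotient.mk_surjective K₁ z
    let I : Ideal S := K₁.comap (LinearMap.toSpanSingleton S _ x)
    have hle : Ideal.span (H : Set S) ≤ I.radical := Ideal.span_le.2 fun h hh => by
      obtain ⟨k, hk⟩ := hK h hh x hz
      exact ⟨k, (Finset.le_sup hh : K h ≤ K₁) hk⟩
    obtain ⟨k, hk⟩ := (Ideal.radical_mono hle).trans (Ideal.radical_idem I).le hg
    exact ⟨k, (Submodule.Quotient.mk_eq_zero K₁).2 hk⟩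

variable {N}

/-- A cover over which the kernel is killed by powers of `g` gives finite presentation after inverting `g`. -/
theorem FPAway.finitePresentation {g : S} (h : FPAway N g) :
    Module.FinitePresentation (Localization.Away g) (LocalizedModule (Submonoid.powers g) N) := by
  obtain ⟨N₀, _, _, π, _, hπ, hker⟩ := h
  have := isLocalizedModule_comp_surjective (Submonoid.powers g) (LocalizedModule.mkLinearMap (Submonoid.powers g) N) π hπ
    fun x hx => (hker x hx).elim fun k hk => ⟨g ^ k, ⟨k, rfl⟩, hk⟩
  exact FinitePresentation.of_isBaseChange (LocalizedModule.mkLinearMap (Submonoid.powers g) N ∘ₗ π)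
    ((isLocalizedModule_iff_isBaseChange (Submonoid.powers g) (Localization.Away g) _).mp this)

theorem FPAway.finitePresentation_of_one (h : FPAway N (1 : S)) : Module.FinitePresentation S N := by
  obtain ⟨N₀, _, _, π, _, hπ, hker⟩ := h
  refine Module.FinitePresentation.of_equiv (LinearEquiv.ofBijective π ⟨?_, hπ⟩)
  rw [injective_iff_map_eq_zero]
  intro x hx
  obtain ⟨k, hk⟩ := hker x hx
  simpa using hk

omit [Module.Finite S N] in
/-- Flatness glues. -/
theorem flat_away_of_local {A : Type u} [CommRing A] [Algebra A S] [Module A N] [IsScalarTower A S N] (g : S)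
    (hloc : ∀ (q : Ideal S) [q.IsPrime], g ∉ q → Module.Flat A (LocalizedModule q.primeCompl N))
    (W : Submonoid S) (hW : g ∈ W) : Module.Flat A (LocalizedModule W N) := by
  rw [FlatModel.flat_localized_iff W (LocalizedModule.mkLinearMap W N)]
  intro J z hz
  let I : Ideal S := LinearMap.ker (LinearMap.toSpanSingleton S (N ⊗[A] J) z)
  have hg : g ∈ I.radical := by
    rw [Ideal.radical_eq_sInf, Submodule.mem_sInf]
    rintro q ⟨hle, hq⟩
    by_contra hgq
    have : Ideal.IsPrime q := hq
    obtain ⟨s, hs, hsz⟩ := (FlatModel.flat_localized_iff (Ideal.primeCompl q) (LocalizedModule.mkLinearMap (Ideal.primeCompl q) N)).1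
      (hloc q hgq) J z hz
    exact hs (hle hsz)
  obtain ⟨k, hk⟩ := hg
  exact ⟨g ^ k, pow_mem hW k, hk⟩

end Glue

section WeakAssFinite

variable {A : Type u} [CommRing A] {n : ℕ}

theorem weakAss_finite_of_isDomain [IsDomain A] : (FlatCA.weakAss A A).Finite := by
  refine (Set.finite_singleton (⊥ : Ideal A)).subset ?_
  rintro p ⟨m, hm⟩
  by_cases hm0 : m = 0
  · exfalso
    refine hm.1.1.ne_top (top_le_iff.1 fun x _ => hm.1.2 ?_)
    rw [Submodule.mem_annihilator_span_singleton, hm0, smul_zero]
  · have hann : (Submodule.span A {m}).annihilator = ⊥ := by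
      rw [eq_bot_iff]
      intro x hx
      rw [Submodule.mem_annihilator_span_singleton, smul_eq_mul] at hx
      exact (mul_eq_zero.1 hx).resolve_right hm0
    rw [hann] at hm
    exact le_antisymm (hm.2 ⟨Ideal.isPrime_bot, le_rfl⟩ bot_le) bot_le

/-- Over a base with finitely many weakly associated primes, flatness and finite presentation spread out. -/
theorem exists_flat_fp_nhd_poly (hA : (FlatCA.weakAss A A).Finite) (y : Ideal (MvPolynomial (Fin n) A)) [y.IsPrime]
    {N : Type u} [AddCommGroup N] [Module A N] [Module (MvPolynomial (Fin n) A) N]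
    [IsScalarTower A (MvPolynomial (Fin n) A) N] [Module.Finite (MvPolynomial (Fin n) A) N]
    (hflat : Module.Flat A (LocalizedModule y.primeCompl N)) :
    ∃ h ∉ y, FPAway N h ∧ ∀ W : Submonoid (MvPolynomial (Fin n) A), h ∈ W → Module.Flat A (LocalizedModule W N) := by
  classical
  let P := MvPolynomial (Fin n) A
  let p := y.comap (MvPolynomial.C : A →+* P)
  obtain ⟨-, -, N₀, _, _, _, _, π, _, hπ, hker⟩ := finite_at_poly y p rfl (LocalizedModule.mkLinearMap y.primeCompl N)
    fun w hw => exists_smul_eq_zero_of_lTensor y.primeCompl _ w hw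
  have hl := isLocalizedModule_comp_surjective y.primeCompl (LocalizedModule.mkLinearMap y.primeCompl N) π hπ hker
  have hflat₀ : Module.Flat A (LocalizedModule y.primeCompl N₀) :=
    (FlatModel.flat_localized_iff y.primeCompl (LocalizedModule.mkLinearMap y.primeCompl N₀)).2
      ((FlatModel.flat_localized_iff y.primeCompl (LocalizedModule.mkLinearMap y.primeCompl N ∘ₗ π)).1 hflat)
  obtain ⟨g, hg, hgflat⟩ := FlatModel.exists_flat_nhd N₀ y hflat₀
  have hQflat : ∀ (Q : Ideal P) [Q.IsPrime], g ∉ Q → Module.Flat A (LocalizedModule Q.primeCompl N₀) := fun Q _ hgQ =>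
    hgflat Q.primeCompl hgQ
  let F : Set (Ideal P) := {Q | Q ∈ FlatCA.weakAss P N₀ ∧ g ∉ Q}
  have hfin : F.Finite := by
    have hsub : F ⊆ ⋃ r ∈ FlatCA.weakAss A A, {Q | ∃ (_ : r.IsPrime), Q ∈ FlatCA.ass P (FlatCA.fiberMod r P N₀)} := by
      rintro Q ⟨hQ, hgQ⟩
      have : Q.IsPrime := hQ.choose_spec.1.1
      let e := AlgebraTensorModule.rid A P N₀
      have hQ' : Q ∈ FlatCA.weakAss P (N₀ ⊗[A] A) :=
        WeakAss.weakAss_subset_of_injective e.symm.toLinearMap e.symm.injective hQ
      obtain ⟨hr, hfib⟩ := (mem_weakAss_tensor_iff_of_flatAt N₀ (Q.under A) Q (hQflat Q hgQ) A).1 hQ'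
      exact Set.mem_biUnion hr ⟨inferInstance, (fibAss_iff_mem_ass (Q.under A) Q).1
        ((fibAss_iff_fiberIdeal (Q.under A) Q).2 hfib)⟩
    refine (hA.biUnion fun r hr => ?_).subset hsub
    have : r.IsPrime := hr.choose_spec.1.1
    have : IsNoetherianRing (r.Fiber P) := Algebra.FiniteType.isNoetherianRing r.ResidueField _
    have : Module.Finite (r.Fiber P) (FlatCA.fiberMod r P N₀) :=
      inferInstanceAs (Module.Finite (r.Fiber P) ((r.Fiber P) ⊗[P] N₀))
    refine Set.Finite.subset (s := FlatCA.ass P (FlatCA.fiberMod r P N₀)) ?_ fun Q hQ => hQ.2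
    rw [AssFiber.ass_fiberMod_eq]
    exact ((associatedPrimes.finite (r.Fiber P) (FlatCA.fiberMod r P N₀)).subset
      fun I hI => (mem_associatedPrimes_iff_mem_ass I).2 hI).image _
  have hsel : ∀ Q : Ideal P, ∃ a, a ∉ y ∧ (¬ Q ≤ y → a ∈ Q) := fun Q => by
    by_cases hQ : Q ≤ y
    · exact ⟨1, fun h1 => ‹y.IsPrime›.ne_top ((Ideal.eq_top_iff_one y).2 h1), fun h => absurd hQ h⟩
    · obtain ⟨a, haQ, hay⟩ := SetLike.not_le_iff_exists.1 hQ
      exact ⟨a, hay, fun _ => haQ⟩
  choose a ha ha' using hsel
  let g' := ∏ Q ∈ hfin.toFinset, a Q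
  have hg' : g' ∉ y := fun h' => by
    obtain ⟨Q, -, hQ⟩ := (Ideal.IsPrime.prod_mem_iff (hp := ‹y.IsPrime›)).1 h'
    exact ha Q hQ
  have hkill : ∀ x, π x = 0 → ∃ k : ℕ, (g * g') ^ k • x = 0 := by
    intro x hx
    obtain ⟨t, ht, htx⟩ := hker x hx
    suffices g * g' ∈ (WeakAss.annEl P x).radical by
      obtain ⟨k, hk⟩ := this
      exact ⟨k, WeakAss.mem_annEl.1 hk⟩
    rw [← Ideal.sInf_minimalPrimes, Submodule.mem_sInf]
    intro (Q : Ideal P) hQ
    have : Q.IsPrime := hQ.1.1
    by_contra hmem
    have hgQ : g ∉ Q := fun h => hmem (Q.mul_mem_right _ h)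
    have hQF : Q ∈ F := ⟨⟨x, hQ⟩, hgQ⟩
    have hnle : ¬ Q ≤ y := fun hle => ht (hle (hQ.1.2 (WeakAss.mem_annEl.2 htx)))
    exact hmem (Q.mul_mem_left _ (Ideal.mem_of_dvd Q (Finset.dvd_prod_of_mem a (hfin.mem_toFinset.2 hQF)) (ha' Q hnle)))
  refine ⟨g * g', Ideal.IsPrime.mul_notMem ‹_› hg hg', ⟨N₀, inferInstance, inferInstance, π, inferInstance, hπ, hkill⟩,
    fun W hW => ?_⟩
  have := isLocalizedModule_comp_surjective W (LocalizedModule.mkLinearMap W N) π hπ
    fun x hx => (hkill x hx).elim fun k hk => ⟨(g * g') ^ k, pow_mem hW k, hk⟩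
  rw [FlatModel.flat_localized_iff W (LocalizedModule.mkLinearMap W N ∘ₗ π)]
  intro J z hz
  obtain ⟨s, ⟨k, rfl⟩, hsz⟩ := (FlatModel.flat_localized_iff (Submonoid.powers g)
    (LocalizedModule.mkLinearMap (Submonoid.powers g) N₀)).1 (hgflat _ (Submonoid.mem_powers g)) J z hz
  refine ⟨(g * g') ^ k, pow_mem hW k, ?_⟩
  rw [mul_pow, mul_comm, mul_smul, hsz, smul_zero]

end WeakAssFinite

section FiniteTypeOpen

variable {A S : Type u} [CommRing A] [CommRing S] [Algebra A S] [Algebra.FiniteType A S]
  {N : Type u} [AddCommGroup N] [Module A N] [Module S N] [IsScalarTower A S N] [Module.Finite S N]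

/-- Over a base with finitely many weakly associated primes, flatness and relative finite presentation spread
out, for finite modules over finite type algebras. -/
theorem exists_flat_fp_nhd (hA : (FlatCA.weakAss A A).Finite) (q : Ideal S) [q.IsPrime]
    (hflat : Module.Flat A (LocalizedModule q.primeCompl N)) :
    ∃ g ∉ q, (∀ W : Submonoid S, g ∈ W → Module.Flat A (LocalizedModule W N)) ∧ FPAway N g ∧
      FlatCA.RelFinitePresentation A (Localization.Away g) (LocalizedModule (Submonoid.powers g) N) := by
  obtain ⟨n, φ, hφ⟩ := Algebra.FiniteType.iff_quotient_mvPolynomial''.1 ‹Algebra.FiniteType A S›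
  let P := MvPolynomial (Fin n) A
  let : Algebra P S := φ.toRingHom.toAlgebra
  let : Module P N := Module.compHom N φ.toRingHom
  have : IsScalarTower P S N := .of_algebraMap_smul fun _ _ => rfl
  have : IsScalarTower A P N := .of_algebraMap_smul fun a x => by
    show φ (algebraMap A _ a) • x = a • x
    rw [AlgHom.commutes, algebraMap_smul]
  have : IsScalarTower A P S := .of_algebraMap_eq fun a => (φ.commutes a).symm
  have : Module.Finite P S := Module.Finite.of_surjective (Algebra.linearMap P S) hφ
  have : Module.Finite P N := Module.Finite.trans S N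
  let y := q.comap φ.toRingHom
  obtain ⟨h, hh, hfpa, hW⟩ := exists_flat_fp_nhd_poly hA y (flat_comap_of_flatAt φ hφ (fun _ _ => rfl) q hflat)
  refine ⟨φ h, hh, fun W hgW => ?_, ?_, ?_⟩
  · have h1 := hW (W.comap φ.toRingHom) hgW
    rw [FlatModel.flat_localized_iff W (LocalizedModule.mkLinearMap W N)]
    intro J z hz
    obtain ⟨t, ht, htz⟩ := (FlatModel.flat_localized_iff (W.comap φ.toRingHom)
      (LocalizedModule.mkLinearMap (W.comap φ.toRingHom) N)).1 h1 J z hz
    refine ⟨φ t, ht, Eq.trans ?_ htz⟩
    clear htz hz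
    induction z using TensorProduct.induction_on with
    | zero => simp
    | add a b ha hb => simp only [smul_add, ha, hb]
    | tmul a x => rfl
  · obtain ⟨N₀, _, _, π, _, hπ, hker⟩ := hfpa
    let π' : S ⊗[P] N₀ →ₗ[S] N := π.liftBaseChange S
    have hone : ∀ x, π' ((1 : S) ⊗ₜ x) = π x := fun x => one_smul S (π x)
    refine ⟨S ⊗[P] N₀, inferInstance, inferInstance, π', inferInstance, fun x => ?_, fun z hz => ?_⟩
    · obtain ⟨x, rfl⟩ := hπ x
      exact ⟨_, hone x⟩
    · obtain ⟨x, rfl⟩ : ∃ x : N₀, (1 : S) ⊗ₜ[P] x = z := by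
        clear hz
        induction z using TensorProduct.induction_on with
        | zero => exact ⟨0, tmul_zero _ _⟩
        | add a b ha hb =>
          obtain ⟨a, rfl⟩ := ha; obtain ⟨b, rfl⟩ := hb
          exact ⟨a + b, tmul_add _ _ _⟩
        | tmul s x =>
          obtain ⟨t, rfl⟩ := hφ s
          refine ⟨t • x, ?_⟩
          rw [← smul_tmul, show t • (1 : S) = φ t from mul_one _]
      rw [hone] at hz
      obtain ⟨k, hk⟩ := hker x hz
      refine ⟨k, ?_⟩
      rw [smul_tmul', smul_eq_mul, mul_one, ← map_pow, show φ (h ^ k) = (h ^ k) • (1 : S) from (mul_one _).symm,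
        smul_tmul, hk, tmul_zero]
  · let Ph := Localization.Away h
    let Sg := Localization.Away (φ h)
    let Ng := LocalizedModule (Submonoid.powers (φ h)) N
    let ψ : Ph →ₐ[A] Sg :=
      { toRingHom := IsLocalization.Away.map Ph Sg φ.toRingHom h
        commutes' := fun a => by
          rw [IsScalarTower.algebraMap_apply A P Ph, IsScalarTower.algebraMap_apply A S Sg]
          show IsLocalization.Away.map Ph Sg φ.toRingHom h (algebraMap P Ph (algebraMap A P a)) = _
          rw [IsLocalization.Away.map, IsLocalization.map_eq]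
          congr 1
          exact φ.commutes a }
    have hψP : ∀ t : P, ψ (algebraMap P Ph t) = algebraMap S Sg (φ t) := fun t => by
      show IsLocalization.Away.map Ph Sg φ.toRingHom h (algebraMap P Ph t) = _
      rw [IsLocalization.Away.map, IsLocalization.map_eq]
      rfl
    have hψ : Function.Surjective ψ := fun z => by
      obtain ⟨⟨a, s⟩, has⟩ := IsLocalization.surj (Submonoid.powers (φ h)) z
      obtain ⟨k, hk⟩ := s.2
      obtain ⟨t, rfl⟩ := hφ a
      have hu : IsUnit (algebraMap P Ph (h ^ k)) := IsLocalization.map_units Ph (⟨h ^ k, k, rfl⟩ : Submonoid.powers h)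
      refine ⟨algebraMap P Ph t * ↑hu.unit⁻¹, ?_⟩
      have h1 : ψ ↑hu.unit⁻¹ * algebraMap S Sg s = 1 := by
        rw [← hk]; simp only []; rw [show φ h ^ k = φ (h ^ k) from (map_pow φ h k).symm, ← hψP, ← map_mul, IsUnit.val_inv_mul, map_one]
      rw [map_mul, hψP]
      calc algebraMap S Sg (φ t) * ψ ↑hu.unit⁻¹ = z * (ψ ↑hu.unit⁻¹ * algebraMap S Sg s) := by rw [← has]; ring
        _ = z := by rw [h1, mul_one]
    let : Module Ph Ng := Module.compHom Ng ψ.toRingHom
    have htower : IsScalarTower P Ph Ng := .of_algebraMap_smul fun t z => by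
      show ψ (algebraMap P Ph t) • z = t • z
      rw [hψP, algebraMap_smul]
      induction z using LocalizedModule.induction_on with
      | _ x s => rw [LocalizedModule.smul'_mk, LocalizedModule.smul'_mk]; rfl
    obtain ⟨N₀, _, _, π, _, hπ, hker⟩ := hfpa
    let lg : N →ₗ[P] Ng := (LocalizedModule.mkLinearMap (Submonoid.powers (φ h)) N).restrictScalars P
    have : IsLocalizedModule (Submonoid.powers h) lg :=
      { map_units := fun s => by
          rw [Module.End.isUnit_iff]
          have hu : IsUnit (algebraMap P Ph (s : P)) := IsLocalization.map_units Ph s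
          have hb := hu.smul_bijective (β := Ng)
          have he : (fun z : Ng => algebraMap P Ph (s : P) • z) = fun z => (s : P) • z :=
            funext fun z => algebraMap_smul Ph _ z
          rw [he] at hb
          exact hb
        surj := fun z => by
          obtain ⟨⟨x, ⟨_, k, rfl⟩⟩, hx⟩ := IsLocalizedModule.surj (Submonoid.powers (φ h))
            (LocalizedModule.mkLinearMap (Submonoid.powers (φ h)) N) z
          refine ⟨⟨x, ⟨h ^ k, k, rfl⟩⟩, Eq.trans ?_ hx⟩
          show (h ^ k) • z = (φ h ^ k) • z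
          rw [← map_pow]
          exact (algebraMap_smul S (h ^ k) z).symm
        exists_of_eq := fun {x z} hxz => by
          obtain ⟨⟨_, k, rfl⟩, hc⟩ := IsLocalizedModule.exists_of_eq (S := Submonoid.powers (φ h))
            (f := LocalizedModule.mkLinearMap (Submonoid.powers (φ h)) N) hxz
          refine ⟨⟨h ^ k, k, rfl⟩, ?_⟩
          show φ (h ^ k) • x = φ (h ^ k) • z
          rw [map_pow]
          exact hc }
    have hlπ := isLocalizedModule_comp_surjective (Submonoid.powers h) lg π hπ
      fun x hx => (hker x hx).elim fun k hk => ⟨h ^ k, ⟨k, rfl⟩, hk⟩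
    have : Module.FinitePresentation Ph Ng :=
      FinitePresentation.of_isBaseChange (lg ∘ₗ π) ((isLocalizedModule_iff_isBaseChange (Submonoid.powers h) Ph _).mp hlπ)
    have : Algebra.FinitePresentation P Ph := IsLocalization.Away.finitePresentation h
    have : Algebra.FinitePresentation A Ph := Algebra.FinitePresentation.trans A P Ph
    obtain ⟨m, χ, _, hχ, hact, hfp⟩ := exists_presentation (A := A) (B := Ph) Ng
    refine ⟨m, ψ.comp χ, hψ.comp hχ, ?_⟩
    convert hfp using 1
    exact Module.ext' _ _ fun t z => (hact t z).symm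

end FiniteTypeOpen

section Dense

/-- A finite flat module which is finitely presented over a schematically dense open is finitely presented. -/
theorem fpAway_of_dense {A B : Type u} [CommRing A] [CommRing B] [Algebra A B] [Algebra.FinitePresentation A B]
    {N : Type u} [AddCommGroup N] [Module B N] [Module A N] [IsScalarTower A B N] [Module.Finite B N] [Module.Flat A N]
    {n : ℕ} (f : Fin n → A) (hdense : Function.Injective (RingHom.pi (fun i => algebraMap A (Localization.Away (f i)))))
    (hfp : ∀ i, Module.FinitePresentation (Localization.Away (algebraMap A B (f i)))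
      (LocalizedModule (Submonoid.powers (algebraMap A B (f i))) N)) (q : Ideal B) [q.IsPrime] :
    ∃ h ∉ q, FPAway N h := by
  classical
  have hflatq : Module.Flat A (LocalizedModule q.primeCompl N) := flat_localizedModule q.primeCompl N
  obtain ⟨-, -, ⟨N₀, _, _, π, _, hπ, hker⟩, -⟩ := finite_at (q.under A) q
    (LocalizedModule.mkLinearMap q.primeCompl N) (fibre_killed_of_localized (q.under A) q)
  let : Module A N₀ := Module.compHom N₀ (algebraMap A B)
  have : IsScalarTower A B N₀ := .of_algebraMap_smul fun _ _ => rfl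
  have hl := isLocalizedModule_comp_surjective q.primeCompl (LocalizedModule.mkLinearMap q.primeCompl N) π hπ hker
  have hflat₀ : Module.Flat A (LocalizedModule q.primeCompl N₀) :=
    (FlatModel.flat_localized_iff q.primeCompl (LocalizedModule.mkLinearMap q.primeCompl N₀)).2
      ((FlatModel.flat_localized_iff q.primeCompl (LocalizedModule.mkLinearMap q.primeCompl N ∘ₗ π)).1 hflatq)
  obtain ⟨g, hg, hgflat⟩ := FlatModel.exists_flat_nhd N₀ q hflat₀
  -- a common annihilator of the kernels over the open
  have hann : ∀ i, ∃ g' ∉ q, ∀ x, π x = 0 → ∃ k : ℕ, algebraMap A B (f i) ^ k • g' • x = 0 := by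
    intro i
    let s := algebraMap A B (f i)
    let l₀ := LocalizedModule.mkLinearMap (Submonoid.powers s) N₀
    let lN := LocalizedModule.mkLinearMap (Submonoid.powers s) N
    let πs := IsLocalizedModule.mapExtendScalars (Submonoid.powers s) l₀ lN (Localization.Away s) π
    have := hfp i
    have : Module.Finite (Localization.Away s) (LocalizedModule (Submonoid.powers s) N₀) :=
      Module.Finite.of_isLocalizedModule (Submonoid.powers s) l₀
    have hsurj : Function.Surjective πs := fun z => by
      obtain ⟨w, hw⟩ := IsLocalizedModule.map_surjective (Submonoid.powers s) l₀ lN π hπ z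
      exact ⟨w, hw⟩
    obtain ⟨G, hG⟩ := Module.FinitePresentation.fg_ker πs hsurj
    have hz : ∀ z ∈ G, ∃ t ∉ q, (t : B) • z = 0 := by
      intro z hz
      obtain ⟨⟨x, c⟩, hx⟩ := IsLocalizedModule.surj (Submonoid.powers s) l₀ z
      have h0 : lN (π x) = 0 := by
        rw [← IsLocalizedModule.map_apply (Submonoid.powers s) l₀ lN π, ← hx, Submonoid.smul_def, map_smul]
        have hz0 : IsLocalizedModule.map (Submonoid.powers s) l₀ lN π z = 0 := hG.le (Submodule.subset_span hz)
        rw [hz0, smul_zero]
      obtain ⟨c', hc'⟩ := (IsLocalizedModule.eq_zero_iff (Submonoid.powers s) lN).1 h0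
      obtain ⟨t, ht, htx⟩ := hker ((c' : B) • x) (by rw [map_smul]; exact hc')
      refine ⟨t, ht, IsLocalizedModule.smul_injective l₀ (c' * c) ?_⟩
      show ((c' * c : Submonoid.powers s) : B) • t • z = ((c' * c : Submonoid.powers s) : B) • (0 : LocalizedModule _ N₀)
      rw [smul_zero, Submonoid.coe_mul, mul_smul, smul_comm (c : B) t, show (c : B) • z = l₀ x from hx, ← map_smul,
        ← map_smul, smul_comm, htx, map_zero]
    choose! t ht htz using hz
    refine ⟨∏ z ∈ G, t z, fun h' => ?_, fun x hx => ?_⟩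
    · obtain ⟨z, hz, hzq⟩ := (Ideal.IsPrime.prod_mem_iff (hp := ‹q.IsPrime›)).1 h'
      exact ht z hz hzq
    · have hmem : l₀ x ∈ LinearMap.ker πs := by
        show IsLocalizedModule.map (Submonoid.powers s) l₀ lN π (l₀ x) = 0
        rw [IsLocalizedModule.map_apply, hx, map_zero]
      rw [← hG] at hmem
      have hkill : ∀ w ∈ Submodule.span (Localization.Away s) (G : Set (LocalizedModule (Submonoid.powers s) N₀)),
          (∏ z ∈ G, t z) • w = 0 := fun w hw => by
        induction hw using Submodule.span_induction with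
        | mem z hz => rw [← Finset.prod_erase_mul _ _ hz, mul_smul, htz z hz, smul_zero]
        | zero => rw [smul_zero]
        | add a b _ _ ha hb => rw [smul_add, ha, hb, add_zero]
        | smul r a _ ha => rw [smul_comm, ha, smul_zero]
      have h0 : l₀ ((∏ z ∈ G, t z) • x) = 0 := by rw [map_smul, hkill _ hmem]
      obtain ⟨⟨_, k, rfl⟩, hk⟩ := (IsLocalizedModule.eq_zero_iff (Submonoid.powers s) l₀).1 h0
      exact ⟨k, hk⟩
  choose g' hg' hkill using hann
  refine ⟨g * ∏ i, g' i, ?_, N₀, inferInstance, inferInstance, π, inferInstance, hπ, fun x hx => ?_⟩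
  · refine Ideal.IsPrime.mul_notMem ‹_› hg fun h' => ?_
    obtain ⟨i, -, hi⟩ := (Ideal.IsPrime.prod_mem_iff (hp := ‹q.IsPrime›)).1 h'
    exact hg' i hi
  · let h := g * ∏ i, g' i
    let L := LocalizedModule (Submonoid.powers g) N₀
    have : Module.Flat A L := hgflat _ (Submonoid.mem_powers g)
    let xL : L := LocalizedModule.mkLinearMap (Submonoid.powers g) N₀ ((∏ i, g' i) • x)
    have hzero : ∀ i, ∃ k : ℕ, f i ^ k • xL = 0 := fun i => by
      obtain ⟨k, hk⟩ := hkill i x hx
      refine ⟨k, ?_⟩
      rw [← algebraMap_smul B (f i ^ k), map_pow, ← map_smul, ← Finset.prod_erase_mul _ _ (Finset.mem_univ i), mul_smul,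
        smul_comm, hk, smul_zero, map_zero]
    have hx0 : xL = 0 := by
      let D : A →ₗ[A] ((i : Fin n) → Localization.Away (f i)) := LinearMap.pi fun i => Algebra.linearMap A (Localization.Away (f i))
      have hD : Function.Injective D := hdense
      have h2 : (TensorProduct.piRight A A L _) (D.lTensor L (xL ⊗ₜ[A] (1 : A))) = 0 := by
        funext i
        rw [LinearMap.lTensor_tmul, TensorProduct.piRight_apply, TensorProduct.piRightHom_tmul]
        show xL ⊗ₜ[A] algebraMap A (Localization.Away (f i)) 1 = 0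
        obtain ⟨k, hk⟩ := hzero i
        have hu : IsUnit (algebraMap A (Localization.Away (f i)) (f i ^ k)) :=
          IsLocalization.map_units (Localization.Away (f i)) (⟨f i ^ k, k, rfl⟩ : Submonoid.powers (f i))
        rw [map_one, ← IsUnit.mul_val_inv hu, ← Algebra.smul_def, tmul_smul, smul_tmul', hk, zero_tmul]
      have h3 : xL ⊗ₜ[A] (1 : A) = (0 : L ⊗[A] A) :=
        Module.Flat.lTensor_preserves_injective_linearMap (M := L) D hD (by
          rw [map_zero]
          exact (LinearEquiv.map_eq_zero_iff _).1 h2)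
      simpa using congr(TensorProduct.rid A L $h3)
    obtain ⟨⟨_, m, rfl⟩, hm⟩ := (IsLocalizedModule.eq_zero_iff (Submonoid.powers g)
      (LocalizedModule.mkLinearMap (Submonoid.powers g) N₀)).1 hx0
    have hm' : g ^ m • (∏ i, g' i) • x = 0 := hm
    refine ⟨m + 1, ?_⟩
    have : (g * ∏ i, g' i) ^ (m + 1) • x = ((∏ i, g' i) ^ m * g) • (g ^ m • (∏ i, g' i) • x) := by
      rw [smul_smul, smul_smul]
      congr 1
      ring
    rw [this, hm', smul_zero]

end Dense

end Groth.Agent.RGCore

namespace Groth.Agent.RGCore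

/-- Relative finite presentation of a localised algebra is finite presentation. -/
theorem algebra_finitePresentation_of_relFP {A S : Type u} [CommRing A] [CommRing S] [Algebra A S] (g : S)
    (h : FlatCA.RelFinitePresentation A (Localization.Away g) (LocalizedModule (Submonoid.powers g) S)) :
    Algebra.FinitePresentation A (Localization.Away g) := by
  obtain ⟨n, φ, hφ, hfp⟩ := h
  let P := MvPolynomial (Fin n) A
  let : Algebra P (Localization.Away g) := φ.toRingHom.toAlgebra
  let : Module P (LocalizedModule (Submonoid.powers g) S) := Module.compHom _ φ.toRingHom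
  have : IsScalarTower P (Localization.Away g) (LocalizedModule (Submonoid.powers g) S) := .of_algebraMap_smul fun _ _ => rfl
  have : Module.FinitePresentation P (LocalizedModule (Submonoid.powers g) S) := hfp
  have : Module.FinitePresentation P (Localization.Away g) := Module.FinitePresentation.of_equiv
    ((LinearEquiv.extendScalarsOfIsLocalization (Submonoid.powers g) (Localization.Away g)
      (IsLocalizedModule.iso (Submonoid.powers g) (Algebra.linearMap S (Localization.Away g)))).restrictScalars P)
  exact Algebra.FinitePresentation.of_surjective hφ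
    (Module.FinitePresentation.fg_ker (Algebra.linearMap P (Localization.Away g)) hφ)

end Groth.Agent.RGCore
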