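import Groth.Agent.RGCore.Openness

/-!
Flat finite type algebras which are finitely presented over a dense family of basic opens of the base, and
the scheme versions.
-/

set_option autoImplicit false
set_option linter.unusedSectionVars false

universe u

open CategoryTheory

namespace Groth.Agent.RGCore

/-- A flat finite type algebra finitely presented over a schematically dense open is finitely presented. -/
theorem algebra_finitePresentation_of_dense {A B : Type u} [CommRing A] [CommRing B] [Algebra A B]
    [Algebra.FiniteType A B] [Module.Flat A B] {n : ℕ} (f : Fin n → A)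
    (hdense : Function.Injective (RingHom.pi (fun i => algebraMap A (Localization.Away (f i)))))
    (hfp : ∀ i, Algebra.FinitePresentation A (Localization.Away (algebraMap A B (f i)))) :
    Algebra.FinitePresentation A B := by
  obtain ⟨m, φ, hφ⟩ := Algebra.FiniteType.iff_quotient_mvPolynomial''.1 ‹Algebra.FiniteType A B›
  let P := MvPolynomial (Fin m) A
  let : Algebra P B := φ.toRingHom.toAlgebra
  have : IsScalarTower A P B := .of_algebraMap_eq fun a => (φ.commutes a).symm
  have : Module.Finite P B := Module.Finite.of_surjective (Algebra.linearMap P B) hφ
  have : Module.FinitePresentation P B := by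
    refine (fpAway_of_local B (1 : P) fun q _ _ => fpAway_of_dense f hdense (fun i => ?_) q).finitePresentation_of_one
    let s := algebraMap A P (f i)
    let Ps := Localization.Away s
    let Bs := Localization.Away (algebraMap A B (f i))
    have hs : φ s = algebraMap A B (f i) := φ.commutes (f i)
    let l : B →ₗ[P] Bs := (IsScalarTower.toAlgHom P B Bs).toLinearMap
    have : IsLocalizedModule (Submonoid.powers s) l := by
      refine (isLocalizedModule_iff_isLocalization (R := P) (A := B) (Aₛ := Bs)).2 ?_
      rw [Algebra.algebraMapSubmonoid, Submonoid.map_powers]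
      show IsLocalization (Submonoid.powers (φ s)) Bs
      rw [hs]
      infer_instance
    let ψ : Ps →+* Bs := IsLocalization.Away.lift s (g := algebraMap P Bs) (by
      rw [IsScalarTower.algebraMap_apply P B Bs, show algebraMap P B s = algebraMap A B (f i) from hs]
      exact IsLocalization.map_units Bs (⟨_, 1, pow_one _⟩ : Submonoid.powers (algebraMap A B (f i))))
    let : Algebra Ps Bs := ψ.toAlgebra
    have : IsScalarTower P Ps Bs := .of_algebraMap_eq fun t => (IsLocalization.Away.lift_eq s _ t).symm
    have : IsScalarTower A Ps Bs := .of_algebraMap_eq fun a => by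
      rw [IsScalarTower.algebraMap_apply A P Ps, ← IsScalarTower.algebraMap_apply P Ps Bs, ← IsScalarTower.algebraMap_apply A P Bs]
    have : Algebra.FinitePresentation A Ps := by
      have : Algebra.FinitePresentation P Ps := IsLocalization.Away.finitePresentation s
      exact Algebra.FinitePresentation.trans A P Ps
    have hsurj : Function.Surjective ψ := fun z => by
      obtain ⟨⟨b, ⟨_, k, rfl⟩⟩, hb⟩ := IsLocalizedModule.surj (Submonoid.powers s) l z
      obtain ⟨t, rfl⟩ := hφ b
      have hu : IsUnit (algebraMap P Ps (s ^ k)) := IsLocalization.map_units Ps (⟨_, k, rfl⟩ : Submonoid.powers s)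
      have hb' : algebraMap P Bs (s ^ k) * z = algebraMap P Bs t := by
        rw [← Algebra.smul_def, IsScalarTower.algebraMap_apply P B Bs t]
        exact hb
      refine ⟨algebraMap P Ps t * ↑hu.unit⁻¹, ?_⟩
      show algebraMap Ps Bs (algebraMap P Ps t * ↑hu.unit⁻¹) = z
      rw [map_mul, ← IsScalarTower.algebraMap_apply, ← hb', IsScalarTower.algebraMap_apply P Ps Bs (s ^ k),
        mul_comm _ z, mul_assoc, ← map_mul, IsUnit.mul_val_inv, map_one, mul_one]
    have : Algebra.FinitePresentation A Bs := hfp i
    have hker : (LinearMap.ker (Algebra.linearMap Ps Bs)).FG :=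
      Algebra.FinitePresentation.ker_fG_of_surjective (IsScalarTower.toAlgHom A Ps Bs) hsurj
    have : Module.FinitePresentation Ps Bs := Module.finitePresentation_of_surjective (Algebra.linearMap Ps Bs) hsurj hker
    exact Module.FinitePresentation.of_equiv (LinearEquiv.extendScalarsOfIsLocalization (Submonoid.powers s) Ps
      (IsLocalizedModule.linearEquiv (Submonoid.powers s) l (LocalizedModule.mkLinearMap (Submonoid.powers s) B)))
  exact Algebra.FinitePresentation.of_surjective hφ (Module.FinitePresentation.fg_ker (Algebra.linearMap P B) hφ)

end Groth.Agent.RGCore
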