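import Groth.Agent.RGCore.Reduce
import Groth.Agent.AssFiber.Basic

/-!
Weakly associated primes of `N ⊗ Z` for a module `N` which is flat over the base and relatively finitely
presented at the prime.
-/

set_option autoImplicit false
set_option linter.unusedSectionVars false

universe u

open TensorProduct

namespace Groth.Agent.RGCore

attribute [local instance] Algebra.TensorProduct.rightAlgebra

section FibAss

variable {A S : Type u} [CommRing A] [CommRing S] [Algebra A S] (p : Ideal A) [p.IsPrime]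
  {N : Type u} [AddCommGroup N] [Module S N] [Module A N] [IsScalarTower A S N]

variable (N) in
/-- `Q` is the annihilator of an element of the fibre of `N` at `p`, formulated inside `N`. -/
def FibAss (Q : Ideal S) : Prop :=
  ∃ n : N, ∀ t : S, t ∈ Q ↔ ∃ r ∉ p, r • t • n ∈ p • (⊤ : Submodule A N)

theorem toFiberMod_eq_zero_iff (n : N) :
    FlatCA.toFiberMod p (S := S) N n = 0 ↔ ∃ r ∉ p, r • n ∈ p • (⊤ : Submodule A N) := by
  constructor
  · intro h
    obtain ⟨r, hr, hmem⟩ := AssFiber.exists_smul_mem_of_toFiberMod_eq_zero p (S := S) N h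
    rw [algebraMap_smul] at hmem
    exact ⟨r, hr, AssFiber.mem_smul_top_of_mem_pN p (S := S) N hmem⟩
  · rintro ⟨r, hr, hmem⟩
    have h0 := AssFiber.toFiberMod_eq_zero_of_mem p (S := S) N (AssFiber.smul_mem_pN p (S := S) N hmem)
    rw [← algebraMap_smul S r n, map_smul] at h0
    have := AssFiber.isLocalizedModule_quotToFiber p (S := S) N
    exact (Module.End.isUnit_iff _).1 (IsLocalizedModule.map_units (AssFiber.quotToFiber p (S := S) N)
      (⟨algebraMap A S r, r, hr, rfl⟩ : Algebra.algebraMapSubmonoid S p.primeCompl)) |>.1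
        (h0.trans (map_zero _).symm)

theorem annEl_toFiberMod (n : N) (t : S) :
    t ∈ WeakAss.annEl S (FlatCA.toFiberMod p (S := S) N n) ↔ ∃ r ∉ p, r • t • n ∈ p • (⊤ : Submodule A N) := by
  rw [WeakAss.mem_annEl, ← map_smul, toFiberMod_eq_zero_iff]

theorem fibAss_iff_mem_ass (Q : Ideal S) [Q.IsPrime] :
    FibAss p N Q ↔ Q ∈ FlatCA.ass S (FlatCA.fiberMod p S N) := by
  rw [WeakAss.mem_ass_iff]
  constructor
  · rintro ⟨n, hn⟩
    refine ⟨‹_›, FlatCA.toFiberMod p (S := S) N n, ?_⟩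
    ext t
    rw [hn, annEl_toFiberMod]
  · rintro ⟨-, y, hy⟩
    have := AssFiber.isLocalizedModule_quotToFiber p (S := S) N
    obtain ⟨⟨m, s⟩, hm⟩ := IsLocalizedModule.surj (Algebra.algebraMapSubmonoid S p.primeCompl)
      (AssFiber.quotToFiber p (S := S) N) y
    obtain ⟨n, rfl⟩ := Submodule.Quotient.mk_surjective _ m
    have hm' : (s : S) • y = FlatCA.toFiberMod p (S := S) N n := hm
    have hinj := ((Module.End.isUnit_iff _).1
      (IsLocalizedModule.map_units (AssFiber.quotToFiber p (S := S) N) s)).1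
    refine ⟨n, fun t => ?_⟩
    rw [← annEl_toFiberMod, ← hm', hy, WeakAss.mem_annEl, WeakAss.mem_annEl, smul_comm t]
    exact ⟨fun h => by rw [h, smul_zero], fun h => hinj (h.trans (map_zero _).symm)⟩

theorem mem_associatedPrimes_iff_mem_ass {F M : Type u} [CommRing F] [IsNoetherianRing F] [AddCommGroup M]
    [Module F M] (I : Ideal F) : I ∈ associatedPrimes F M ↔ I ∈ FlatCA.ass F M := by
  have hcolon : ∀ m : M, (⊥ : Submodule F M).colon {m} = WeakAss.annEl F m := fun m => by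
    ext r; rw [Submodule.mem_colon_singleton, Submodule.mem_bot, WeakAss.mem_annEl]
  constructor
  · rintro ⟨hI, m, hm⟩
    rw [hcolon] at hm
    refine WeakAss.mem_ass_of_mem_weakAss_of_fg (IsNoetherian.noetherian I) ⟨m, ⟨hI, ?_⟩, fun J hJ _ => ?_⟩
    · rw [hm]; exact Ideal.le_radical
    · rw [hm]; exact hJ.1.radical_le_iff.2 hJ.2
  · rintro ⟨hI, m, hm⟩
    exact ⟨hI, m, by rw [hcolon, show WeakAss.annEl F m = I from hm.symm, hI.radical]⟩

theorem fibAss_iff_fiberIdeal [Algebra.FiniteType A S] (q : Ideal S) [q.IsPrime] [q.LiesOver p] :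
    FibAss p N q ↔ FlatCA.fiberIdeal p q ∈ associatedPrimes (p.Fiber S) (FlatCA.fiberMod p S N) := by
  have : IsNoetherianRing (p.Fiber S) := Algebra.FiniteType.isNoetherianRing p.ResidueField _
  let ι := (Algebra.TensorProduct.includeRight (R := A) (A := p.ResidueField) (B := S)).toRingHom
  rw [mem_associatedPrimes_iff_mem_ass, fibAss_iff_mem_ass, AssFiber.ass_fiberMod_eq]
  have hmap : ∀ J : Ideal (p.Fiber S), (J.comap ι).map ι = J := by
    intro J
    refine le_antisymm Ideal.map_comap_le fun b hb => ?_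
    obtain ⟨r, hr, s, hs⟩ := AssFiber.exists_smul_eq_includeRight p b
    have hu : IsUnit ((1 : p.ResidueField) ⊗ₜ[A] algebraMap A S r : p.Fiber S) := by
      rw [Algebra.algebraMap_eq_smul_one, ← smul_tmul, ← Algebra.algebraMap_eq_smul_one]
      have hne : algebraMap A p.ResidueField r ≠ 0 := fun h => hr (Ideal.algebraMap_residueField_eq_zero.1 h)
      exact (isUnit_iff_ne_zero.2 hne).map
        (Algebra.TensorProduct.includeLeftRingHom (R := A) (A := p.ResidueField) (B := S))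
    rw [← Ideal.unit_mul_mem_iff_mem _ hu, hs]
    refine Ideal.mem_map_of_mem ι ?_
    show (1 : p.ResidueField) ⊗ₜ[A] s ∈ J
    rw [← hs]
    exact J.mul_mem_left _ hb
  have hcomap : (q.map ι).comap ι = q := by
    refine le_antisymm (fun x hx => ?_) Ideal.le_comap_map
    let g : p.Fiber S →ₐ[A] q.ResidueField := Algebra.TensorProduct.productMap
      (Ideal.ResidueField.mapₐ p q (Algebra.ofId A S) (q.over_def p)) (IsScalarTower.toAlgHom A S q.ResidueField)
    have hg : ∀ y, g (ι y) = algebraMap S q.ResidueField y := fun y => by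
      show g ((1 : p.ResidueField) ⊗ₜ[A] y) = _
      simp [g]
    have hle : q.map ι ≤ RingHom.ker g.toRingHom := Ideal.map_le_iff_le_comap.2 fun y hy => by
      show g (ι y) = 0
      rw [hg, Ideal.algebraMap_residueField_eq_zero.2 hy]
    have := hle hx
    rw [RingHom.mem_ker] at this
    exact Ideal.algebraMap_residueField_eq_zero.1 ((hg x).symm.trans this)
  constructor
  · rintro ⟨J, hJ, hJq⟩
    show q.map ι ∈ _
    rw [← hJq, hmap]
    exact hJ
  · exact fun h => ⟨_, h, hcomap⟩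

theorem fibAss_of_minimal [Algebra.FiniteType A S] (Q : Ideal S) [Q.IsPrime] (n : N)
    (hle : ∀ t : S, ∀ r ∉ p, r • t • n ∈ p • (⊤ : Submodule A N) → t ∈ Q)
    (hpow : ∀ a ∈ Q, ∃ k : ℕ, ∃ t ∉ Q, ∃ r ∉ p, r • (t * a ^ k) • n ∈ p • (⊤ : Submodule A N)) :
    FibAss p N Q := by
  have : IsNoetherianRing (p.Fiber S) := Algebra.FiniteType.isNoetherianRing p.ResidueField _
  let ι := (Algebra.TensorProduct.includeRight (R := A) (A := p.ResidueField) (B := S)).toRingHom
  let y := FlatCA.toFiberMod p (S := S) N n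
  have hcomap : WeakAss.annEl S y = (WeakAss.annEl (p.Fiber S) y).comap ι := by
    ext s
    rw [Ideal.mem_comap, WeakAss.mem_annEl, WeakAss.mem_annEl]
    exact Iff.of_eq congr($(AssFiber.algebraMap_smul_fiberMod p N s y) = 0).symm
  have hmin : Q ∈ (WeakAss.annEl S y).minimalPrimes := by
    refine ⟨⟨‹_›, fun t ht => ?_⟩, fun J hJ hJQ a ha => ?_⟩
    · obtain ⟨r, hr, h⟩ := (annEl_toFiberMod p n t).1 ht
      exact hle t r hr h
    · obtain ⟨k, t, ht, h⟩ := hpow a ha
      exact hJ.1.mem_of_pow_mem k ((hJ.1.mem_or_mem (hJ.2 ((annEl_toFiberMod p n _).2 h))).resolve_left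
        fun h' => ht (hJQ h'))
  rw [hcomap] at hmin
  obtain ⟨J, hJ, hJc⟩ := Ideal.exists_minimalPrimes_comap_eq ι Q hmin
  rw [fibAss_iff_mem_ass, AssFiber.ass_fiberMod_eq]
  exact ⟨J, WeakAss.mem_ass_of_mem_weakAss_of_fg (IsNoetherian.noetherian J) ⟨y, hJ⟩, hJc⟩

end FibAss

section Poly

variable {A : Type u} [CommRing A] {n : ℕ} (Q : Ideal (MvPolynomial (Fin n) A)) [Q.IsPrime]
  {N : Type u} [AddCommGroup N] [Module A N] [Module (MvPolynomial (Fin n) A) N]
  [IsScalarTower A (MvPolynomial (Fin n) A) N]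

theorem one_notMem : (1 : MvPolynomial (Fin n) A) ∉ Q :=
  (Ideal.ne_top_iff_one Q).1 (Ideal.IsPrime.ne_top ‹_›)

theorem algebraMap_mem_iff (a : A) :
    algebraMap A (MvPolynomial (Fin n) A) a ∈ Q ↔ a ∈ Q.comap MvPolynomial.C := Iff.rfl

theorem C_smul (a : A) (m : N) : (algebraMap A (MvPolynomial (Fin n) A) a) • m = a • m := algebraMap_smul _ _ _

/-- Maximal submodules through which an element of `N_Q ⊗ Z` does not factor. -/
theorem mem_range_of_smul_eq_zero [Module.Flat A (LocalizedModule Q.primeCompl N)] {Z : Type u} [AddCommGroup Z]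
    [Module A Z] (a : A) (v : LocalizedModule Q.primeCompl N ⊗[A] Z)
    (h : (LinearMap.lsmul A Z a).lTensor _ v = 0) :
    v ∈ LinearMap.range ((LinearMap.ker (LinearMap.lsmul A Z a)).subtype.lTensor (LocalizedModule Q.primeCompl N)) :=
  (Module.Flat.lTensor_exact (LocalizedModule Q.primeCompl N)
    (LinearMap.exact_subtype_ker_map (LinearMap.lsmul A Z a)) _).1 h

theorem lTensor_lsmul {E Z : Type u} [AddCommGroup E] [Module A E] [AddCommGroup Z] [Module A Z] (a : A)
    (v : E ⊗[A] Z) : (LinearMap.lsmul A Z a).lTensor E v = a • v := by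
  induction v with
  | zero => simp
  | add y z hy hz => simp only [map_add, smul_add, hy, hz]
  | tmul m x => simp

theorem mem_smul_top_of_tmul_one (I : Ideal A) (m : N) (h : m ⊗ₜ[A] (1 : A ⧸ I) = 0) :
    m ∈ I • (⊤ : Submodule A N) := by
  rw [← TensorProduct.tensorQuotEquivQuotSMul_symm_mk] at h
  exact (Submodule.Quotient.mk_eq_zero _).1 ((LinearEquiv.map_eq_zero_iff _).1 h)

theorem fibAss_of_content [Module.Flat A (LocalizedModule Q.primeCompl N)]
    {N₀ : Type u} [AddCommGroup N₀] [Module A N₀] [Module (MvPolynomial (Fin n) A) N₀]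
    [IsScalarTower A (MvPolynomial (Fin n) A) N₀] [Module.FinitePresentation (MvPolynomial (Fin n) A) N₀]
    (l₀ : N₀ →ₗ[MvPolynomial (Fin n) A] LocalizedModule Q.primeCompl N) [IsLocalizedModule Q.primeCompl l₀]
    {Z : Type u} [AddCommGroup Z] [Module A Z] (v : LocalizedModule Q.primeCompl N ⊗[A] Z)
    (hne : ∀ t ∉ Q, t • v ≠ 0) (hpow : ∀ a ∈ Q, ∃ k, ∃ t ∉ Q, t • a ^ k • v = 0) :
    FibAss (Q.comap MvPolynomial.C) N Q := by
  let p := Q.comap (MvPolynomial.C : A →+* MvPolynomial (Fin n) A)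
  let E := LocalizedModule Q.primeCompl N
  let lN := LocalizedModule.mkLinearMap Q.primeCompl N
  have hflat₀ := flat_localized_of_flat Q.primeCompl l₀ Q fun t ht => ht
  have hv0 : v ≠ 0 := fun h => hne 1 (one_notMem Q) (by rw [h, smul_zero])
  obtain ⟨Z'', hZ'', hmax⟩ := exists_maximal_not_mem v hv0
  let π := AlgebraTensorModule.lTensor (MvPolynomial (Fin n) A) E Z''.mkQ
  let v' : E ⊗[A] (Z ⧸ Z'') := π v
  have hker : LinearMap.ker (Z''.mkQ.lTensor E) = LinearMap.range (Z''.subtype.lTensor E) :=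
    (lTensor_exact E (LinearMap.exact_subtype_mkQ Z'') (Submodule.mkQ_surjective _)).linearMap_ker_eq
  have hv' : v' ≠ 0 := fun h0 => hZ'' (hker ▸ LinearMap.mem_ker.2 h0)
  have hne' : ∀ t ∉ Q, t • v' ≠ 0 := fun t ht h0 => by
    have hu := IsLocalizedModule.map_units (AlgebraTensorModule.rTensor (A := MvPolynomial (Fin n) A) A
      (Z ⧸ Z'') lN) (⟨t, ht⟩ : Q.primeCompl)
    exact hv' (((Module.End.isUnit_iff _).1 hu).1 (h0.trans (map_zero _).symm))
  have hpow' : ∀ a ∈ Q, ∃ k, ∃ t ∉ Q, t • a ^ k • v' = 0 := fun a ha => by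
    obtain ⟨k, t, ht, h⟩ := hpow a ha
    exact ⟨k, t, ht, by rw [← map_smul, ← map_smul, h, map_zero]⟩
  have hY : ∀ Y : Submodule A (Z ⧸ Z''), Y ≠ ⊥ → v' ∈ LinearMap.range (Y.subtype.lTensor E) := by
    intro Y hY
    have hlt : Z'' < Y.comap Z''.mkQ := by
      refine lt_of_le_of_ne (fun z hz => ?_) fun h => hY ?_
      · show Z''.mkQ z ∈ Y
        rw [show Z''.mkQ z = 0 from (Submodule.Quotient.mk_eq_zero Z'').2 hz]
        exact Y.zero_mem
      · rw [eq_bot_iff]
        intro y hy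
        obtain ⟨z, rfl⟩ := Z''.mkQ_surjective y
        exact (Submodule.mem_bot A).2 ((Submodule.Quotient.mk_eq_zero Z'').2 (h ▸ hy : z ∈ Z''))
    obtain ⟨y, hy⟩ := hmax _ hlt
    have hc : ∀ z : Y.comap Z''.mkQ, Z''.mkQ.comp (Y.comap Z''.mkQ).subtype z ∈ Y := fun z => z.2
    refine ⟨((Z''.mkQ.comp (Y.comap Z''.mkQ).subtype).codRestrict Y hc).lTensor E y, ?_⟩
    rw [← LinearMap.lTensor_comp_apply, LinearMap.subtype_comp_codRestrict, LinearMap.lTensor_comp_apply, hy]
    rfl
  obtain ⟨x, hx, hcont⟩ := exists_content_localized Q.primeCompl l₀ Q (fun t ht => ht) hflat₀ _ v' hne' hpow'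
  have hx0 : x ≠ 0 := fun h0 => hx 1 (by rw [Ideal.mem_comap, map_one]; exact one_notMem Q) (by rw [h0, smul_zero])
  have hpx : ∀ a ∈ p, a • x = 0 := by
    intro a ha
    by_contra hax
    obtain ⟨s, hs, hsx⟩ := hcont (Submodule.span A {a • x}) 1 (one_notMem Q)
      (by rw [one_smul]; exact hY _ (by rwa [Ne, Submodule.span_singleton_eq_bot]))
    obtain ⟨r, hr⟩ := Submodule.mem_span_singleton.1 hsx
    refine hx (s - r * a) (fun h => hs ?_) (by rw [sub_smul, mul_smul, hr, sub_self])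
    have := p.add_mem h (p.mul_mem_left r ha)
    rwa [sub_add_cancel] at this
  let e : (A ⧸ p) →ₗ[A] (Z ⧸ Z'') := Submodule.liftQ p (LinearMap.toSpanSingleton A _ x) fun a ha => hpx a ha
  have he : Function.Injective e := by
    rw [injective_iff_map_eq_zero]
    intro r hr
    obtain ⟨r, rfl⟩ := Submodule.Quotient.mk_surjective p r
    rw [Submodule.Quotient.mk_eq_zero]
    by_contra hrp
    exact hx r hrp hr
  have hgen : ∀ y : E ⊗[A] (Submodule.span A {x}), ∃ m : E,
      (Submodule.span A {x}).subtype.lTensor E y = m ⊗ₜ x := by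
    intro y
    induction y with
    | zero => exact ⟨0, by simp⟩
    | tmul m z =>
      obtain ⟨r, hr⟩ := Submodule.mem_span_singleton.1 z.2
      exact ⟨r • m, by rw [LinearMap.lTensor_tmul, Submodule.subtype_apply, ← hr, tmul_smul, smul_tmul']⟩
    | add a b ha hb =>
      obtain ⟨m, hm⟩ := ha
      obtain ⟨m', hm'⟩ := hb
      exact ⟨m + m', by rw [map_add, hm, hm', add_tmul]⟩
  obtain ⟨y, hy⟩ := hY (Submodule.span A {x}) (by rwa [Ne, Submodule.span_singleton_eq_bot])
  obtain ⟨m, hm⟩ := hgen y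
  obtain ⟨⟨m₁, t₁⟩, hm₁⟩ := IsLocalizedModule.surj Q.primeCompl lN m
  have hv'm : (t₁ : MvPolynomial (Fin n) A) • v' = lN m₁ ⊗ₜ[A] x := by
    rw [← hy, hm, TensorProduct.smul_tmul']
    exact congrArg (· ⊗ₜ[A] x) hm₁
  refine fibAss_of_minimal p Q m₁ (fun t r hr hmem => ?_) fun a ha => ?_
  · by_contra ht
    refine hne' (algebraMap A _ r * t * t₁) (Ideal.IsPrime.mul_notMem ‹_› (Ideal.IsPrime.mul_notMem ‹_› hr ht) t₁.2) ?_
    rw [mul_smul, hv'm, TensorProduct.smul_tmul', ← map_smul, mul_smul, C_smul]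
    have : ∀ w ∈ p • (⊤ : Submodule A N), lN w ⊗ₜ[A] x = 0 := fun w hw => by
      induction hw using Submodule.smul_induction_on' with
      | smul b hb w _ => rw [LinearMap.map_smul_of_tower, TensorProduct.smul_tmul, hpx b hb, tmul_zero]
      | add w₁ _ w₂ _ h₁ h₂ => rw [map_add, add_tmul, h₁, h₂, add_zero]
    exact this _ hmem
  · obtain ⟨k, t, ht, h⟩ := hpow' a ha
    have h1 : lN ((t * a ^ k) • m₁) ⊗ₜ[A] (1 : A ⧸ p) = 0 := by
      apply Module.Flat.lTensor_preserves_injective_linearMap (M := E) e he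
      rw [LinearMap.lTensor_tmul, map_zero, show e 1 = x from one_smul A x, map_smul, ← TensorProduct.smul_tmul',
        ← hv'm, smul_comm, mul_smul, h, smul_zero]
    let F := AlgebraTensorModule.rTensor (A := MvPolynomial (Fin n) A) A (A ⧸ p) lN
    obtain ⟨c, hc⟩ := (IsLocalizedModule.eq_zero_iff Q.primeCompl F).1
      (show F (((t * a ^ k) • m₁) ⊗ₜ[A] (1 : A ⧸ p)) = 0 from h1)
    refine ⟨k, c * t, Ideal.IsPrime.mul_notMem ‹_› c.2 ht, 1,
      by rw [Ideal.mem_comap, map_one]; exact one_notMem Q, ?_⟩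
    rw [one_smul]
    have hc' : ((c : MvPolynomial (Fin n) A) • (t * a ^ k) • m₁) ⊗ₜ[A] (1 : A ⧸ p) = 0 := by
      rw [← TensorProduct.smul_tmul']; exact hc
    have := mem_smul_top_of_tmul_one _ _ hc'
    rwa [mul_assoc, mul_smul]

theorem weakAss_left_of_content [Module.Flat A (LocalizedModule Q.primeCompl N)]
    {N₀ : Type u} [AddCommGroup N₀] [Module A N₀] [Module (MvPolynomial (Fin n) A) N₀]
    [IsScalarTower A (MvPolynomial (Fin n) A) N₀] [Module.FinitePresentation (MvPolynomial (Fin n) A) N₀]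
    (l₀ : N₀ →ₗ[MvPolynomial (Fin n) A] LocalizedModule Q.primeCompl N) [IsLocalizedModule Q.primeCompl l₀]
    {Z : Type u} [AddCommGroup Z] [Module A Z] (v : LocalizedModule Q.primeCompl N ⊗[A] Z)
    (hne : ∀ t ∉ Q, t • v ≠ 0) (hpow : ∀ a ∈ Q, ∃ k, ∃ t ∉ Q, t • a ^ k • v = 0) :
    Q.comap MvPolynomial.C ∈ FlatCA.weakAss A Z := by
  obtain ⟨x, hx, hcont⟩ := exists_content_localized Q.primeCompl l₀ Q (fun t ht => ht)
    (flat_localized_of_flat Q.primeCompl l₀ Q fun t ht => ht) _ v hne hpow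
  refine ⟨x, ⟨Ideal.IsPrime.comap _, fun a ha => ?_⟩, fun J hJ hJp a ha => ?_⟩
  · by_contra hap
    exact hx a hap (WeakAss.mem_annEl.1 ha)
  · obtain ⟨k, t, ht, h⟩ := hpow (algebraMap A _ a) ha
    have h' : (LinearMap.lsmul A Z (a ^ k)).lTensor _ (t • v) = 0 := by
      rw [lTensor_lsmul, ← algebraMap_smul (MvPolynomial (Fin n) A) (a ^ k) (t • v), map_pow, smul_comm]
      exact h
    obtain ⟨s, hs, hsx⟩ := hcont _ t ht (mem_range_of_smul_eq_zero Q _ _ h')
    have hmem : a ^ k * s ∈ J := hJ.2 (WeakAss.mem_annEl.2 (by rw [mul_smul]; exact hsx))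
    exact hJ.1.mem_of_pow_mem k ((hJ.1.mem_or_mem hmem).resolve_right fun h => hs (hJp h))

/-- In an ideal generated by finitely many elements, a multiple of an element is killed. -/
theorem exists_killed {Z : Type u} [AddCommGroup Z] [Module A Z] (p : Ideal A) [p.IsPrime] (G : Finset A) :
    ∀ x : Z, (∀ g ∈ G, g ∈ p) → p ∈ (WeakAss.annEl A x).minimalPrimes →
      ∃ x' : Z, p ∈ (WeakAss.annEl A x').minimalPrimes ∧ ∀ g ∈ G, ∃ s ∉ p, s • g • x' = 0 := by
  classical
  induction G using Finset.induction with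
  | empty => exact fun x _ hx => ⟨x, hx, fun g hg => absurd hg (Finset.notMem_empty g)⟩
  | insert g G hgG ih =>
    intro x hG hx
    obtain ⟨x', hx', hkill⟩ := ih x (fun g' hg' => hG g' (Finset.mem_insert_of_mem hg')) hx
    obtain ⟨s, hs, k, hk⟩ := WeakAss.exists_mul_pow_mem hx' (hG g (Finset.mem_insert_self g G))
    have hex : ∃ k : ℕ, ∃ s ∉ p, s • g ^ k • x' = 0 := ⟨k, s, hs, by rw [smul_smul]; exact WeakAss.mem_annEl.1 hk⟩
    obtain ⟨s, hs, hsk⟩ := Nat.find_spec hex
    have hk0 : Nat.find hex ≠ 0 := fun h0 => by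
      rw [h0, pow_zero, one_smul] at hsk
      exact hs (hx'.1.2 (WeakAss.mem_annEl.2 hsk))
    let x'' := g ^ (Nat.find hex - 1) • x'
    refine ⟨x'', ⟨⟨‹_›, fun a ha => ?_⟩, fun J hJ hJp => hx'.2 ⟨hJ.1, fun a ha => hJ.2 ?_⟩ hJp⟩, fun g' hg' => ?_⟩
    · by_contra hap
      exact Nat.find_min hex (Nat.sub_one_lt hk0) ⟨a, hap, WeakAss.mem_annEl.1 ha⟩
    · exact WeakAss.mem_annEl.2 (by rw [smul_comm, WeakAss.mem_annEl.1 ha, smul_zero])
    · rcases Finset.mem_insert.1 hg' with rfl | hg'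
      · refine ⟨s, hs, ?_⟩
        rw [smul_smul g', ← pow_succ', Nat.sub_add_cancel (Nat.one_le_iff_ne_zero.2 hk0)]
        exact hsk
      · obtain ⟨s', hs', h'⟩ := hkill g' hg'
        refine ⟨s', hs', ?_⟩
        rw [smul_comm g', smul_comm s', h', smul_zero]

theorem mem_weakAss_of_fibAss [hfl : Module.Flat A (LocalizedModule Q.primeCompl N)]
    {Z : Type u} [AddCommGroup Z] [Module A Z] (hp : Q.comap MvPolynomial.C ∈ FlatCA.weakAss A Z)
    (hN : FibAss (Q.comap MvPolynomial.C) N Q) :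
    Q ∈ FlatCA.weakAss (MvPolynomial (Fin n) A) (N ⊗[A] Z) := by
  classical
  let p := Q.comap (MvPolynomial.C : A →+* MvPolynomial (Fin n) A)
  obtain ⟨x₀, hx₀⟩ := hp
  obtain ⟨m, hm⟩ := hN
  obtain ⟨G, hGQ, hG⟩ := exists_finset_generate Q p rfl
  have hcoef : ∀ g ∈ G, ∃ (r : A) (_ : r ∉ p) (c : Finset A), (∀ a ∈ c, a ∈ p) ∧
      r • g • m ∈ (Ideal.span (c : Set A)) • (⊤ : Submodule A N) := by
    intro g hg
    obtain ⟨r, hr, hmem⟩ := (hm g).1 (hGQ g hg)
    suffices H : ∀ w ∈ p • (⊤ : Submodule A N), ∃ c : Finset A, (∀ a ∈ c, a ∈ p) ∧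
        w ∈ (Ideal.span (c : Set A)) • (⊤ : Submodule A N) from ⟨r, hr, H _ hmem⟩
    intro w hw
    induction hw using Submodule.smul_induction_on' with
    | smul b hb w _ =>
      exact ⟨{b}, fun a ha => Finset.mem_singleton.1 ha ▸ hb,
        Submodule.smul_mem_smul (Ideal.subset_span (Finset.mem_singleton_self b)) trivial⟩
    | add w₁ _ w₂ _ h₁ h₂ =>
      obtain ⟨c₁, hc₁, hw₁⟩ := h₁
      obtain ⟨c₂, hc₂, hw₂⟩ := h₂
      refine ⟨c₁ ∪ c₂, fun a ha => (Finset.mem_union.1 ha).elim (hc₁ a) (hc₂ a), add_mem ?_ ?_⟩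
      · exact Submodule.smul_mono_left (Ideal.span_mono fun a ha => Finset.mem_union_left _ ha) hw₁
      · exact Submodule.smul_mono_left (Ideal.span_mono fun a ha => Finset.mem_union_right _ ha) hw₂
  choose! r hr c hc hmem using hcoef
  obtain ⟨x, hx, hkill⟩ := exists_killed p (G.biUnion c) x₀
    (fun a ha => let ⟨g, hg, hag⟩ := Finset.mem_biUnion.1 ha; hc g hg a hag) hx₀
  let v : N ⊗[A] Z := m ⊗ₜ x
  have hne : ∀ t ∉ Q, t • v ≠ 0 := by
    intro t ht h
    let e := (WeakAss.annEl A x).liftQ (LinearMap.toSpanSingleton A Z x) fun a ha => WeakAss.mem_annEl.1 ha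
    have he : Function.Injective e := by
      rw [injective_iff_map_eq_zero]
      intro a ha
      obtain ⟨a, rfl⟩ := Submodule.Quotient.mk_surjective _ a
      exact (Submodule.Quotient.mk_eq_zero _).2 (WeakAss.mem_annEl.2 ha)
    let lN := LocalizedModule.mkLinearMap Q.primeCompl N
    have h1 : lN (t • m) ⊗ₜ[A] (1 : A ⧸ WeakAss.annEl A x) = 0 := by
      apply Module.Flat.lTensor_preserves_injective_linearMap (M := LocalizedModule Q.primeCompl N) e he
      rw [LinearMap.lTensor_tmul, map_zero, show e 1 = x from one_smul A x]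
      show AlgebraTensorModule.rTensor (A := MvPolynomial (Fin n) A) A Z lN ((t • m) ⊗ₜ x) = 0
      rw [← TensorProduct.smul_tmul', h, map_zero]
    let F := AlgebraTensorModule.rTensor (A := MvPolynomial (Fin n) A) A (A ⧸ WeakAss.annEl A x) lN
    obtain ⟨d, hd⟩ := (IsLocalizedModule.eq_zero_iff Q.primeCompl F).1
      (show F ((t • m) ⊗ₜ[A] (1 : A ⧸ WeakAss.annEl A x)) = 0 from h1)
    have hd' : ((d : MvPolynomial (Fin n) A) • t • m) ⊗ₜ[A] (1 : A ⧸ WeakAss.annEl A x) = 0 := by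
      rw [← TensorProduct.smul_tmul']; exact hd
    have hq := mem_smul_top_of_tmul_one _ _ hd'
    refine Ideal.IsPrime.mul_notMem ‹Q.IsPrime› d.2 ht ((hm _).2
      ⟨1, by rw [Ideal.mem_comap, map_one]; exact one_notMem Q, ?_⟩)
    rw [one_smul, mul_smul]
    exact Submodule.smul_mono_left hx.1.2 hq
  let J : Ideal (MvPolynomial (Fin n) A) :=
    { carrier := {a | ∃ k, ∃ t ∉ Q, t • a ^ k • v = 0}
      add_mem' := by
        rintro a b ⟨k, t, ht, h⟩ ⟨k', t', ht', h'⟩
        refine ⟨k + k', t * t', Ideal.IsPrime.mul_notMem ‹_› ht ht', ?_⟩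
        rw [smul_smul, add_pow, Finset.mul_sum, Finset.sum_smul]
        refine Finset.sum_eq_zero fun i _ => ?_
        rcases le_or_gt k i with hi | hi
        · obtain ⟨j, rfl⟩ := Nat.exists_eq_add_of_le hi
          rw [show t * t' * (a ^ (k + j) * b ^ (k + k' - (k + j)) * ((k + k').choose (k + j) : MvPolynomial (Fin n) A)) =
            (t' * a ^ j * b ^ (k + k' - (k + j)) * ((k + k').choose (k + j) : MvPolynomial (Fin n) A)) * (t * a ^ k) by ring,
            mul_smul, mul_smul t, h, smul_zero]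
        · obtain ⟨j, hj⟩ := Nat.exists_eq_add_of_le (show k' ≤ k + k' - i by omega)
          rw [hj, show t * t' * (a ^ i * b ^ (k' + j) * ((k + k').choose i : MvPolynomial (Fin n) A)) =
            (t * a ^ i * b ^ j * ((k + k').choose i : MvPolynomial (Fin n) A)) * (t' * b ^ k') by ring,
            mul_smul, mul_smul t', h', smul_zero]
      zero_mem' := ⟨1, 1, one_notMem Q, by simp⟩
      smul_mem' := by
        rintro c a ⟨k, t, ht, h⟩
        refine ⟨k, t, ht, ?_⟩
        rw [smul_smul, smul_eq_mul, mul_pow, show t * (c ^ k * a ^ k) = c ^ k * (t * a ^ k) by ring, mul_smul,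
          mul_smul, h, smul_zero] }
  have hQJ : Q ≤ J := by
    intro a ha
    obtain ⟨s, hs, hsa⟩ := hG a ha
    have : Ideal.span (G : Set _) ⊔ p.map MvPolynomial.C ≤ J := by
      refine sup_le (Ideal.span_le.2 fun g hg => ?_) (Ideal.map_le_iff_le_comap.2 fun b hb => ?_)
      · have hkill' : ∀ w ∈ (Ideal.span (c g : Set A)) • (⊤ : Submodule A N),
            ∃ s ∉ p, s • (w ⊗ₜ[A] x) = 0 := by
          intro w hw
          induction hw using Submodule.smul_induction_on' with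
          | smul b hb w _ =>
            induction hb using Submodule.span_induction with
            | mem b hb =>
              obtain ⟨s, hs, hsb⟩ := hkill b (Finset.mem_biUnion.2 ⟨g, hg, hb⟩)
              exact ⟨s, hs, by rw [TensorProduct.smul_tmul, ← tmul_smul, hsb, tmul_zero]⟩
            | zero => exact ⟨1, by rw [Ideal.mem_comap, map_one]; exact one_notMem Q, by simp⟩
            | add b b' _ _ hb hb' =>
              obtain ⟨s, hs, h⟩ := hb
              obtain ⟨s', hs', h'⟩ := hb'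
              refine ⟨s * s', Ideal.IsPrime.mul_notMem inferInstance hs hs', ?_⟩
              rw [add_smul, add_tmul, smul_add, mul_smul, mul_smul, h', smul_zero, smul_comm s, h, smul_zero,
                add_zero]
            | smul a b _ hb =>
              obtain ⟨s, hs, h⟩ := hb
              exact ⟨s, hs, by rw [smul_eq_mul, mul_smul, ← TensorProduct.smul_tmul' a, smul_comm, h, smul_zero]⟩
          | add w _ w' _ h h' =>
            obtain ⟨s, hs, h⟩ := h
            obtain ⟨s', hs', h'⟩ := h'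
            refine ⟨s * s', Ideal.IsPrime.mul_notMem inferInstance hs hs', ?_⟩
            rw [add_tmul, smul_add, mul_smul, mul_smul, h', smul_zero, smul_comm s, h, smul_zero, add_zero]
        obtain ⟨s, hs, h⟩ := hkill' _ (hmem g hg)
        refine ⟨1, algebraMap A _ (s * r g), fun h' => ?_, ?_⟩
        · exact Ideal.IsPrime.mul_notMem inferInstance hs (hr g hg) h'
        · rw [pow_one, algebraMap_smul, mul_smul, TensorProduct.smul_tmul', TensorProduct.smul_tmul']
          exact h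
      · obtain ⟨s, hs, k, hk⟩ := WeakAss.exists_mul_pow_mem hx hb
        refine ⟨k, algebraMap A _ s, hs, ?_⟩
        rw [show (MvPolynomial.C b : MvPolynomial (Fin n) A) = algebraMap A _ b from rfl, ← map_pow,
          algebraMap_smul, algebraMap_smul, smul_smul, ← tmul_smul, WeakAss.mem_annEl.1 hk, tmul_zero]
    obtain ⟨k, t, ht, h⟩ := this hsa
    refine ⟨k, t * MvPolynomial.C s ^ k, Ideal.IsPrime.mul_notMem ‹_› ht
      (fun h' => hs (‹Q.IsPrime›.mem_of_pow_mem k h')), ?_⟩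
    rw [smul_smul, mul_assoc, ← mul_pow, mul_smul]
    exact h
  refine ⟨v, ⟨‹_›, fun t ht => ?_⟩, fun I hI hIQ a ha => ?_⟩
  · by_contra htQ
    exact hne t htQ (WeakAss.mem_annEl.1 ht)
  · obtain ⟨k, t, ht, h⟩ := hQJ ha
    have hm' : t * a ^ k ∈ I := hI.2 (WeakAss.mem_annEl.2 (by rw [mul_smul]; exact h))
    exact hI.1.mem_of_pow_mem k ((hI.1.mem_or_mem hm').resolve_left fun h' => ht (hIQ h'))

theorem mem_weakAss_tensor_iff_poly [Module.Flat A (LocalizedModule Q.primeCompl N)]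
    {N₀ : Type u} [AddCommGroup N₀] [Module A N₀] [Module (MvPolynomial (Fin n) A) N₀]
    [IsScalarTower A (MvPolynomial (Fin n) A) N₀] [Module.FinitePresentation (MvPolynomial (Fin n) A) N₀]
    (l₀ : N₀ →ₗ[MvPolynomial (Fin n) A] LocalizedModule Q.primeCompl N) [IsLocalizedModule Q.primeCompl l₀]
    (Z : Type u) [AddCommGroup Z] [Module A Z] :
    Q ∈ FlatCA.weakAss (MvPolynomial (Fin n) A) (N ⊗[A] Z) ↔
      (Q.comap MvPolynomial.C ∈ FlatCA.weakAss A Z ∧ FibAss (Q.comap MvPolynomial.C) N Q) := by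
  refine ⟨fun ⟨z, hz⟩ => ?_, fun h => mem_weakAss_of_fibAss Q h.1 h.2⟩
  let L := AlgebraTensorModule.rTensor (A := MvPolynomial (Fin n) A) A Z (LocalizedModule.mkLinearMap Q.primeCompl N)
  have hne : ∀ t ∉ Q, t • L z ≠ 0 := by
    intro t ht h
    rw [← map_smul] at h
    obtain ⟨c, hc⟩ := (IsLocalizedModule.eq_zero_iff Q.primeCompl L).1 h
    exact Ideal.IsPrime.mul_notMem ‹_› c.2 ht (hz.1.2 (WeakAss.mem_annEl.2 (by rw [mul_smul]; exact hc)))
  have hpow : ∀ a ∈ Q, ∃ k, ∃ t ∉ Q, t • a ^ k • L z = 0 := fun a ha => by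
    obtain ⟨s, hs, k, hk⟩ := WeakAss.exists_mul_pow_mem hz ha
    exact ⟨k, s, hs, by rw [← map_smul, ← map_smul, smul_smul, WeakAss.mem_annEl.1 hk, map_zero]⟩
  exact ⟨weakAss_left_of_content Q l₀ (L z) hne hpow, fibAss_of_content Q l₀ (L z) hne hpow⟩

end Poly

end Groth.Agent.RGCore
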