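import Groth.Agent.RGCore.Content
import Groth.Agent.AssFiber.Basic
import Groth.Agent.FlatModel.Local
import Groth.Agent.FlatMisc.ValuationLocalFP

/-!
A linear map from a finite module into a flat module which is injective on a fibre at a point is injective
on the fibres at all generisations of the point (valuation ring argument).
-/

set_option autoImplicit false
set_option linter.unusedSectionVars false

universe u

open TensorProduct IsLocalRing

namespace Groth.Agent.RGCore

section TauModule

variable {R B S : Type u} [CommRing R] [CommRing B] [CommRing S] [Algebra R B] [Algebra R S]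

/-- The action of `B ⊗ S` on `B ⊗ X`. -/
noncomputable def tauHom (K X : Type u) [AddCommGroup K] [Module R K] [Module B K] [IsScalarTower R B K]
    [AddCommGroup X] [Module R X] [Module S X] [IsScalarTower R S X] :
    B ⊗[R] S →+* Module.End R (K ⊗[R] X) where
  toFun := tau K X
  map_one' := LinearMap.ext fun z => by
    induction z with
    | zero => simp
    | add a b ha hb => simp only [map_add, ha, hb]
    | tmul k x => simp [Algebra.TensorProduct.one_def, tau_tmul]
  map_mul' t t' := LinearMap.ext fun z => tau_mul t t' z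
  map_zero' := map_zero _
  map_add' := map_add _

/-- `B ⊗ X` as a module over `B ⊗ S`. -/
noncomputable abbrev tauModule (K X : Type u) [AddCommGroup K] [Module R K] [Module B K] [IsScalarTower R B K]
    [AddCommGroup X] [Module R X] [Module S X] [IsScalarTower R S X] : Module (B ⊗[R] S) (K ⊗[R] X) :=
  Module.compHom _ (tauHom K X)

end TauModule

/-- Injectivity on a fibre persists after extending the field. -/
theorem fibre_injective_extend {A S : Type u} [CommRing A] [CommRing S] [Algebra A S] (y : Ideal S) [y.IsPrime]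
    {N M : Type u} [AddCommGroup N] [Module A N] [Module S N] [IsScalarTower A S N]
    [AddCommGroup M] [Module A M] [Module S M] [IsScalarTower A S M] (u : N →ₗ[S] M)
    {κ k : Type u} [Field κ] [Algebra A κ] [Field k] [Algebra A k] [Algebra κ k] [IsScalarTower A κ k]
    (h : ∀ w : κ ⊗[A] N, (u.restrictScalars A).lTensor κ w = 0 →
      ∃ t ∉ y, ((LinearMap.lsmul S N t).restrictScalars A).lTensor κ w = 0)
    (w : k ⊗[A] N) (hw : (u.restrictScalars A).lTensor k w = 0) :
    ∃ t ∉ y, ((LinearMap.lsmul S N t).restrictScalars A).lTensor k w = 0 := by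
  classical
  let b := Module.Free.chooseBasis κ k
  let e := (b.repr.restrictScalars A)
  let E : ∀ (X : Type u) [AddCommGroup X] [Module A X], k ⊗[A] X ≃ₗ[A] _ →₀ (κ ⊗[A] X) := fun X _ _ =>
    (LinearEquiv.rTensor X e).trans (TensorProduct.finsuppLeft A A κ X _)
  have nat : ∀ (X Y : Type u) [AddCommGroup X] [Module A X] [AddCommGroup Y] [Module A Y] (f : X →ₗ[A] Y)
      (w : k ⊗[A] X) i, E Y (f.lTensor k w) i = f.lTensor κ (E X w i) := by
    intro X Y _ _ _ _ f w i
    induction w with
    | zero => simp
    | add a b ha hb => simp only [map_add, Finsupp.add_apply, ha, hb]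
    | tmul c x => simp [E, TensorProduct.finsuppLeft_apply_tmul_apply]
  have hcomp : ∀ i, ∃ t ∉ y, ((LinearMap.lsmul S N t).restrictScalars A).lTensor κ (E N w i) = 0 := fun i =>
    h _ (by rw [← nat, hw, map_zero, Finsupp.zero_apply])
  choose t hty ht using hcomp
  refine ⟨∏ i ∈ (E N w).support, t i, fun hmem => ?_, ?_⟩
  · obtain ⟨i, -, hi⟩ := (Ideal.IsPrime.prod_mem_iff (hp := ‹y.IsPrime›)).1 hmem
    exact hty i hi
  · apply (E N).injective
    rw [map_zero]
    ext i
    rw [nat, Finsupp.zero_apply]
    by_cases hi : i ∈ (E N w).support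
    · rw [← Finset.prod_erase_mul _ _ hi, show ((LinearMap.lsmul S N ((∏ j ∈ (E N w).support.erase i, t j) * t i)).restrictScalars A) =
          ((LinearMap.lsmul S N (∏ j ∈ (E N w).support.erase i, t j)).restrictScalars A).comp
            ((LinearMap.lsmul S N (t i)).restrictScalars A) from LinearMap.ext fun x => mul_smul _ _ _,
        LinearMap.lTensor_comp_apply, ht, map_zero]
    · rw [Finsupp.notMem_support_iff.1 hi, map_zero]

/-- Over a valuation ring: a map from a finite module to a flat module which modulo the maximal ideal is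
injective at a prime over the maximal ideal is injective at the prime. -/
theorem injective_of_injective_residue_valuation {V C : Type u} [CommRing V] [IsDomain V] [ValuationRing V]
    [CommRing C] [Algebra V C] [Algebra.FiniteType V C]
    {G MV : Type u} [AddCommGroup G] [Module C G] [Module V G] [IsScalarTower V C G] [Module.Finite C G]
    [AddCommGroup MV] [Module C MV] [Module V MV] [IsScalarTower V C MV] [Module.Flat V MV]
    (uV : G →ₗ[C] MV) (yV : Ideal C) [yV.IsPrime] (hyVm : ∀ v ∈ maximalIdeal V, algebraMap V C v ∈ yV)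
    (hres : ∀ z : G, uV z = 0 → ∃ t ∉ yV, ∃ a ∈ maximalIdeal V, ∃ g : G, t • z = a • g)
    (z : G) (hz : uV z = 0) : ∃ t ∉ yV, t • z = 0 := by
  let lM := LocalizedModule.mkLinearMap yV.primeCompl MV
  let ul : G →ₗ[C] LocalizedModule yV.primeCompl MV := lM ∘ₗ uV
  let H := LinearMap.range ul
  have : Module.Flat V (LocalizedModule yV.primeCompl MV) := by
    rw [FlatModel.flat_localized_iff yV.primeCompl lM]
    intro J z hz
    exact ⟨1, one_mem _, by
      rw [one_smul]
      exact Module.Flat.lTensor_preserves_injective_linearMap J.subtype Subtype.val_injective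
        (hz.trans (map_zero _).symm)⟩
  have htf : ∀ (v : V) (z : LocalizedModule yV.primeCompl MV), v ≠ 0 → v • z = 0 → z = 0 := by
    intro v z hv hz
    have : z ∈ Submodule.torsion V (LocalizedModule yV.primeCompl MV) :=
      ⟨⟨v, mem_nonZeroDivisors_of_ne_zero hv⟩, hz⟩
    rwa [Module.Flat.torsion_eq_bot, Submodule.mem_bot] at this
  have : Module.Flat V H := by
    rw [Module.Flat.flat_iff_torsion_eq_bot_of_isBezout, eq_bot_iff]
    rintro z ⟨⟨v, hv⟩, hz⟩
    rw [Submodule.mem_bot]
    exact Subtype.ext (htf v z.1 (nonZeroDivisors.ne_zero hv) (congrArg Subtype.val hz))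
  have : Module.FinitePresentation C H := FlatMisc.ValuationLocalFP.finitePresentation (A := V)
  have hIfg : (LinearMap.ker ul).FG := by
    rw [← LinearMap.ker_rangeRestrict]
    exact Module.FinitePresentation.fg_ker _ ul.surjective_rangeRestrict
  have hI : ∀ i ∈ LinearMap.ker ul, ∃ t ∉ yV, ∃ a ∈ maximalIdeal V, ∃ g ∈ LinearMap.ker ul, t • i = a • g := by
    intro i hi
    obtain ⟨t₁, ht₁⟩ := (IsLocalizedModule.eq_zero_iff yV.primeCompl lM).1 hi
    obtain ⟨t, ht, a, ha, g, hg⟩ := hres ((t₁ : C) • i) (by rw [map_smul]; exact ht₁)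
    rw [smul_smul] at hg
    refine ⟨t * t₁, Ideal.IsPrime.mul_notMem ‹_› ht t₁.2, ?_⟩
    by_cases ha0 : a = 0
    · exact ⟨0, zero_mem _, 0, zero_mem _, by rw [hg, ha0, zero_smul, zero_smul]⟩
    · refine ⟨a, ha, g, ?_, hg⟩
      refine LinearMap.mem_ker.2 (htf a _ ha0 ?_)
      rw [← LinearMap.map_smul_of_tower, ← hg, map_smul, LinearMap.mem_ker.1 hi, smul_zero]
  let I' := LinearMap.ker ul
  let L := LocalizedModule yV.primeCompl I'
  let lI := LocalizedModule.mkLinearMap yV.primeCompl I'
  have : Module.Finite C I' := .of_fg hIfg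
  have hL : (⊤ : Submodule (Localization.AtPrime yV) L) = ⊥ := by
    refine Submodule.eq_bot_of_le_smul_of_le_jacobson_bot (maximalIdeal _) _ Module.Finite.fg_top ?_
      (maximalIdeal_le_jacobson _)
    intro z _
    obtain ⟨⟨i, t₀⟩, hz⟩ := IsLocalizedModule.surj yV.primeCompl lI z
    obtain ⟨t, ht, a, ha, g, hg, hti⟩ := hI i.1 i.2
    have heq : lI (t • i) = algebraMap C (Localization.AtPrime yV) (algebraMap V C a) • lI ⟨g, hg⟩ := by
      rw [algebraMap_smul, ← map_smul]
      congr 1
      exact Subtype.ext (hti.trans (algebraMap_smul C a g).symm)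
    have hu : IsUnit (algebraMap C (Localization.AtPrime yV) (t * t₀)) :=
      IsLocalization.map_units _ (⟨t, ht⟩ * t₀ : yV.primeCompl)
    rw [← Submodule.smul_mem_iff_of_isUnit _ hu, algebraMap_smul, mul_smul,
      show (t₀ : C) • z = lI i from hz, ← map_smul, heq]
    exact Submodule.smul_mem_smul
      ((IsLocalization.AtPrime.to_map_mem_maximal_iff _ yV _).2 (hyVm a ha)) trivial
  have hmem : z ∈ I' := by
    show lM (uV _) = 0
    rw [hz, map_zero]
  have hzero : lI ⟨_, hmem⟩ = 0 := (Submodule.mem_bot _).1 (hL ▸ Submodule.mem_top)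
  obtain ⟨t, ht⟩ := (IsLocalizedModule.eq_zero_iff yV.primeCompl lI).1 hzero
  exact ⟨t, t.2, congrArg Subtype.val ht⟩

/-- A linear map from a finite module into a flat module which is injective on the fibre at `y` is injective
on the fibre at every generisation `Q`. -/
theorem fibre_injective_of_specialization {A S : Type u} [CommRing A] [CommRing S] [Algebra A S]
    [Algebra.FiniteType A S] (y Q : Ideal S) [y.IsPrime] [Q.IsPrime] (hQy : Q ≤ y)
    (p p' : Ideal A) [p.IsPrime] [p'.IsPrime] (hp : y.comap (algebraMap A S) = p)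
    (hp' : Q.comap (algebraMap A S) = p')
    {N M : Type u} [AddCommGroup N] [Module A N] [Module S N] [IsScalarTower A S N] [Module.Finite S N]
    [AddCommGroup M] [Module A M] [Module S M] [IsScalarTower A S M] [Module.Flat A M] (u : N →ₗ[S] M)
    (h : ∀ w : p.ResidueField ⊗[A] N, (u.restrictScalars A).lTensor _ w = 0 →
      ∃ t ∉ y, ((LinearMap.lsmul S N t).restrictScalars A).lTensor _ w = 0)
    (m : N) (hm : (1 : p'.ResidueField) ⊗ₜ[A] u m = 0) :
    ∃ t ∉ Q, (1 : p'.ResidueField) ⊗ₜ[A] (t • m) = 0 := by
  classical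
  -- a valuation ring of `κ(Q)` centred at `y`
  let K := Q.ResidueField
  let ψ : S →+* K := algebraMap S K
  let I : Ideal ψ.range := y.map ψ.rangeRestrict
  have hIc : I.comap ψ.rangeRestrict = y := by
    rw [Ideal.comap_map_of_surjective _ ψ.rangeRestrict_surjective, sup_eq_left]
    intro s hs
    rw [Ideal.mem_comap, Ideal.mem_bot] at hs
    exact hQy (Ideal.algebraMap_residueField_eq_zero.1 (congrArg Subtype.val hs))
  have : I.IsPrime := Ideal.map_isPrime_of_surjective ψ.rangeRestrict_surjective fun s hs =>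
    hQy (Ideal.algebraMap_residueField_eq_zero.1 (congrArg Subtype.val (RingHom.mem_ker.1 hs)))
  obtain ⟨W, hW, hWloc⟩ := (LocalSubring.ofPrime ψ.range I).exists_le_valuationSubring
  have hψW : ∀ s, ψ s ∈ W := fun s => hW (LocalSubring.le_ofPrime _ _ ⟨s, rfl⟩)
  let φW : S →+* W := ψ.codRestrict W.toSubring hψW
  have hφW : ∀ s, φW s ∈ maximalIdeal W ↔ s ∈ y := by
    intro s
    let e := LocalSubring.ofPrimeEquiv ψ.range I
    have h1 : IsUnit (algebraMap ψ.range (Localization.AtPrime I) (ψ.rangeRestrict s)) ↔ s ∉ y := by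
      rw [IsLocalization.AtPrime.isUnit_to_map_iff (Localization.AtPrime I) I]
      show ψ.rangeRestrict s ∉ I ↔ _
      rw [← Ideal.mem_comap, hIc]
    have h2 : IsUnit (φW s) ↔ IsUnit (algebraMap ψ.range (Localization.AtPrime I) (ψ.rangeRestrict s)) := by
      constructor
      · intro hu
        have hx : IsUnit (algebraMap ψ.range (LocalSubring.ofPrime ψ.range I).toSubring (ψ.rangeRestrict s)) :=
          hWloc.map_nonunit _ hu
        rw [← e.commutes] at hx
        exact (isUnit_map_iff e _).1 hx
      · intro hu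
        have hx := hu.map e
        rw [e.commutes] at hx
        exact hx.map (Subring.inclusion hW)
    rw [mem_maximalIdeal, mem_nonunits_iff, h2, h1, not_not]
  -- the valuation ring of `κ(p')` below it
  let fK : p'.ResidueField →ₐ[A] K := Ideal.ResidueField.mapₐ p' Q (Algebra.ofId A S) hp'.symm
  let V : ValuationSubring p'.ResidueField := W.comap fK.toRingHom
  let φA : A →+* V := (algebraMap A p'.ResidueField).codRestrict V.toSubring fun a => by
    show fK (algebraMap A p'.ResidueField a) ∈ W
    rw [AlgHom.commutes, IsScalarTower.algebraMap_apply A S K]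
    exact hψW _
  let : Algebra A V := φA.toAlgebra
  let gW : V →+* W := (fK.toRingHom.comp V.subtype).codRestrict W.toSubring fun v => v.2
  have hgW : ∀ v : V, gW v ∈ maximalIdeal W ↔ v ∈ maximalIdeal V := by
    intro v
    rw [mem_maximalIdeal, mem_maximalIdeal, mem_nonunits_iff, mem_nonunits_iff, not_iff_not]
    refine ⟨fun hu => ?_, fun hu => hu.map gW⟩
    obtain ⟨w, hw⟩ := isUnit_iff_exists_inv.1 hu
    have hw' : fK v.1 * w.1 = 1 := congrArg Subtype.val hw
    have hv : (v.1)⁻¹ ∈ V := by
      show fK (v.1)⁻¹ ∈ W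
      rw [map_inv₀, ← eq_inv_of_mul_eq_one_right hw']
      exact w.2
    have hv0 : v.1 ≠ 0 := fun h0 => by rw [h0, map_zero, zero_mul] at hw'; exact zero_ne_one hw'
    exact isUnit_iff_exists_inv.2 ⟨⟨_, hv⟩, Subtype.ext (mul_inv_cancel₀ hv0)⟩
  have hgWA : ∀ a : A, gW (algebraMap A V a) = φW (algebraMap A S a) := fun a => Subtype.ext (by
    show fK (algebraMap A p'.ResidueField a) = ψ (algebraMap A S a)
    rw [AlgHom.commutes, IsScalarTower.algebraMap_apply A S K])
  have hmV : ∀ a : A, algebraMap A V a ∈ maximalIdeal V ↔ a ∈ p := fun a => by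
    rw [← hgW, hgWA, hφW, ← hp, Ideal.mem_comap]
  -- residue field
  let kV := ResidueField V
  let resA : A →+* kV := (residue V).comp (algebraMap A V)
  let fp : p.ResidueField →+* kV := Ideal.ResidueField.lift p resA
    (fun a ha => (residue_eq_zero_iff _).2 ((hmV a).2 ha))
    (fun a ha => (IsUnit.map (residue V) (notMem_maximalIdeal.1 fun h' => ha ((hmV a).1 h'))))
  let : Algebra p.ResidueField kV := fp.toAlgebra
  have : IsScalarTower A p.ResidueField kV := .of_algebraMap_eq fun a => by
    show algebraMap A kV a = fp (algebraMap A p.ResidueField a)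
    rw [show fp (algebraMap A p.ResidueField a) = resA a from Ideal.ResidueField.lift_algebraMap _ _ _ _ a]
    rfl
  -- the base change
  let C := V ⊗[A] S
  let G := V ⊗[A] N
  let MV := V ⊗[A] M
  let : Module C G := tauModule V N
  let : Module C MV := tauModule V M
  have hsmul : ∀ {X : Type u} [AddCommGroup X] [Module A X] [Module S X] [IsScalarTower A S X]
      (v : V) (z : V ⊗[A] X), tau V X (algebraMap V C v) z = v • z := by
    intro X _ _ _ _ v z
    induction z with
    | zero => simp
    | add a b ha hb => simp only [map_add, smul_add, ha, hb]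
    | tmul w x => simp [C, tau_tmul, smul_tmul', Algebra.TensorProduct.algebraMap_apply]
  have : IsScalarTower V C G := .of_algebraMap_smul fun v z => hsmul v z
  have : IsScalarTower V C MV := .of_algebraMap_smul fun v z => hsmul v z
  let θ : C →ₐ[A] K := Algebra.TensorProduct.productMap
    { toRingHom := fK.toRingHom.comp V.subtype, commutes' := fun a => fK.commutes a }
    (IsScalarTower.toAlgHom A S K)
  have hθmem : ∀ t, θ t ∈ W := by
    intro t
    induction t using TensorProduct.induction_on with
    | zero => rw [map_zero]; exact W.zero_mem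
    | add a b ha hb => rw [map_add]; exact W.add_mem _ _ ha hb
    | tmul v s =>
      simp only [θ, Algebra.TensorProduct.productMap_apply_tmul]
      exact W.mul_mem _ _ v.2 (hψW s)
  let θW : C →+* W := θ.toRingHom.codRestrict W.toSubring hθmem
  let yV : Ideal C := (maximalIdeal W).comap θW
  have hyV : ∀ s : S, (1 : V) ⊗ₜ[A] s ∈ yV ↔ s ∈ y := fun s => by
    rw [← hφW, Ideal.mem_comap, show θW ((1 : V) ⊗ₜ[A] s) = φW s from Subtype.ext (by
      show θ ((1 : V) ⊗ₜ[A] s) = ψ s
      refine (Algebra.TensorProduct.productMap_apply_tmul _ _ (1 : V) s).trans ?_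
      rw [map_one, one_mul]
      rfl)]
  have hyVm : ∀ v ∈ maximalIdeal V, algebraMap V C v ∈ yV := fun v hv => by
    rw [Ideal.mem_comap, show θW (algebraMap V C v) = gW v from Subtype.ext (by
      show θ (v ⊗ₜ[A] (1 : S)) = fK v.1
      refine (Algebra.TensorProduct.productMap_apply_tmul _ _ v (1 : S)).trans ?_
      rw [map_one, mul_one]
      rfl)]
    exact (hgW v).2 hv
  let uV : G →ₗ[C] MV :=
    { toFun := (u.restrictScalars A).lTensor V
      map_add' := map_add _
      map_smul' := fun t z => tau_lTensor u t z }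
  have : Module.Finite C G := by
    obtain ⟨gens, hgens⟩ := (Module.Finite.fg_top : (⊤ : Submodule S N).FG)
    refine ⟨⟨gens.image fun g => ((1 : V) ⊗ₜ[A] g : G), eq_top_iff.2 fun z htop => ?_⟩⟩
    clear htop
    rw [Finset.coe_image]
    induction z using TensorProduct.induction_on with
    | zero => exact zero_mem _
    | add a b ha hb => exact add_mem ha hb
    | tmul v x =>
      have hx : x ∈ Submodule.span S (gens : Set N) := hgens ▸ trivial
      induction hx using Submodule.span_induction with
      | mem g hg =>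
        have : (v ⊗ₜ[A] g : G) = (v ⊗ₜ[A] (1 : S) : C) • ((1 : V) ⊗ₜ[A] g : G) := by
          show _ = tau V N (v ⊗ₜ[A] (1 : S)) ((1 : V) ⊗ₜ[A] g)
          rw [tau_tmul, smul_eq_mul, mul_one, one_smul]
        rw [this]
        exact Submodule.smul_mem _ _ (Submodule.subset_span ⟨g, hg, rfl⟩)
      | zero => rw [tmul_zero]; exact zero_mem _
      | add a b _ _ ha hb => rw [tmul_add]; exact add_mem ha hb
      | smul s a _ ha =>
        have : (v ⊗ₜ[A] (s • a) : G) = ((1 : V) ⊗ₜ[A] s : C) • (v ⊗ₜ[A] a : G) := by
          show _ = tau V N ((1 : V) ⊗ₜ[A] s) (v ⊗ₜ[A] a)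
          rw [tau_tmul, one_smul]
        rw [this]
        exact Submodule.smul_mem _ _ ha
  -- reduction modulo the maximal ideal
  let res : V →ₗ[V] kV := Algebra.linearMap V kV
  let resG : G →ₗ[A] kV ⊗[A] N := (res.restrictScalars A).rTensor N
  let resM : MV →ₗ[A] kV ⊗[A] M := (res.restrictScalars A).rTensor M
  have hnat : ∀ z : G, resM (uV z) = (u.restrictScalars A).lTensor kV (resG z) := by
    intro z
    induction z using TensorProduct.induction_on with
    | zero => simp
    | add a b ha hb => simp only [map_add, ha, hb]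
    | tmul v x => rfl
  have hkerG : ∀ z : G, resG z = 0 → ∃ a ∈ maximalIdeal V, ∃ g : G, a • g = z := by
    intro z hz
    have hex : Function.Exact (((maximalIdeal V).subtype.restrictScalars A).rTensor N) resG := by
      refine rTensor_exact N (fun v => ?_) residue_surjective
      rw [show (res.restrictScalars A) v = residue V v from rfl, residue_eq_zero_iff]
      exact ⟨fun hv => ⟨⟨v, hv⟩, rfl⟩, fun ⟨w, hw⟩ => hw ▸ w.2⟩
    obtain ⟨w, rfl⟩ := (hex z).1 hz
    clear hz
    induction w using TensorProduct.induction_on with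
    | zero => exact ⟨0, zero_mem _, 0, by simp⟩
    | tmul v x => exact ⟨v.1, v.2, (1 : V) ⊗ₜ[A] x, by simp [G, smul_tmul']⟩
    | add a b ha hb =>
      obtain ⟨c, hc, g, hg⟩ := ha
      obtain ⟨c', hc', g', hg'⟩ := hb
      rw [map_add, ← hg, ← hg']
      rcases ValuationRing.dvd_total c c' with ⟨d, hd⟩ | ⟨d, hd⟩
      · exact ⟨c, hc, g + d • g', by rw [smul_add, smul_smul, ← hd]⟩
      · exact ⟨c', hc', d • g + g', by rw [smul_add, smul_smul, ← hd]⟩
  have hI : ∀ z : G, uV z = 0 → ∃ t ∉ yV, ∃ a ∈ maximalIdeal V, ∃ g : G, t • z = a • g := by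
    intro z hz
    have h0 : (u.restrictScalars A).lTensor kV (resG z) = 0 := by rw [← hnat, hz, map_zero]
    obtain ⟨s, hs, hs0⟩ := fibre_injective_extend y u h _ h0
    have h1 : resG (((1 : V) ⊗ₜ[A] s : C) • z) = 0 := by
      rw [← hs0, show resG (((1 : V) ⊗ₜ[A] s : C) • z) =
        tau kV N ((1 : V) ⊗ₜ[A] s) (resG z) from tau_rTensor res _ _]
      generalize resG z = w
      induction w with
      | zero => simp
      | add a b ha hb => simp only [map_add, ha, hb]
      | tmul c x => simp [tau_tmul]
    obtain ⟨a, ha, g, hg⟩ := hkerG _ h1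
    exact ⟨_, mt (hyV s).1 hs, a, ha, g, hg.symm⟩
  -- conclusion
  have huV : uV ((1 : V) ⊗ₜ[A] m) = 0 := by
    let incl : V →ₗ[A] p'.ResidueField :=
      ({ toRingHom := V.subtype, commutes' := fun a => rfl } : V →ₐ[A] p'.ResidueField).toLinearMap
    apply Module.Flat.rTensor_preserves_injective_linearMap (M := M) incl Subtype.val_injective
    rw [map_zero]
    show incl 1 ⊗ₜ[A] u m = 0
    exact hm
  obtain ⟨t, htyV, ht⟩ := injective_of_injective_residue_valuation uV yV hyVm hI _ huV
  have ht0 : tau V N t ((1 : V) ⊗ₜ[A] m) = 0 := ht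
  have hθ : θ (t : C) ≠ 0 := fun h0 => htyV (by
    rw [Ideal.mem_comap, show θW (t : C) = 0 from Subtype.ext h0]
    exact zero_mem _)
  let inclA : V →ₐ[A] p'.ResidueField := { toRingHom := V.subtype, commutes' := fun a => rfl }
  let t' : p'.ResidueField ⊗[A] S := Algebra.TensorProduct.map inclA (AlgHom.id A S) (t : C)
  obtain ⟨r, hr, s, hrs⟩ := AssFiber.exists_smul_eq_includeRight p' (S := S) t'
  let θ' : p'.ResidueField ⊗[A] S →ₐ[A] K := Algebra.TensorProduct.productMap fK (IsScalarTower.toAlgHom A S K)
  have hθ' : θ' t' = θ (t : C) := by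
    show θ' (Algebra.TensorProduct.map inclA (AlgHom.id A S) (t : C)) = θ (t : C)
    generalize (t : V ⊗[A] S) = c
    induction c using TensorProduct.induction_on with
    | zero => simp
    | add a b ha hb => simp only [map_add, ha, hb]
    | tmul v x =>
      show θ' (inclA v ⊗ₜ[A] x) = _
      refine (Algebra.TensorProduct.productMap_apply_tmul _ _ _ x).trans (Eq.symm ?_)
      exact Algebra.TensorProduct.productMap_apply_tmul _ _ v x
  refine ⟨s, fun hsQ => ?_, ?_⟩
  · have h1 := congr(θ' $hrs)
    rw [map_mul, hθ'] at h1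
    simp only [θ', Algebra.TensorProduct.productMap_apply_tmul, map_one, one_mul] at h1
    rw [show (IsScalarTower.toAlgHom A S K) s = 0 from Ideal.algebraMap_residueField_eq_zero.2 hsQ,
      mul_eq_zero] at h1
    exact h1.elim (fun h' => hr (hp'.le (Ideal.mem_comap.2 (Ideal.algebraMap_residueField_eq_zero.1 h')))) hθ
  · have hj : ∀ c : C, tau (B₀ := p'.ResidueField) p'.ResidueField N
        (Algebra.TensorProduct.map inclA (AlgHom.id A S) c) ((1 : p'.ResidueField) ⊗ₜ[A] m) =
          inclA.toLinearMap.rTensor N (tau V N c ((1 : V) ⊗ₜ[A] m)) := by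
      intro c
      induction c using TensorProduct.induction_on with
      | zero => simp
      | add a b ha hb => simp only [map_add, LinearMap.add_apply, ha, hb]
      | tmul v x => simp [tau_tmul, inclA]
    have h2 : tau p'.ResidueField N ((1 : p'.ResidueField) ⊗ₜ[A] s) ((1 : p'.ResidueField) ⊗ₜ[A] m) = 0 := by
      rw [← hrs, tau_mul, hj, ht0, map_zero, map_zero]
    simpa [tau_tmul] using h2

end Groth.Agent.RGCore
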