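import Groth.Agent.RGCore.WeakAssTransfer
import Groth.Agent.RGCore.Specialize

/-!
Universal injectivity at a prime: a linear map from a relatively finitely presented module, flat at the
prime, to a flat module which is injective on the fibre at the prime is universally injective at the prime.
-/

set_option autoImplicit false
set_option linter.unusedSectionVars false

universe u

open TensorProduct

namespace Groth.Agent.RGCore

theorem univInj_localized_poly {A : Type u} [CommRing A] {n : ℕ} (y : Ideal (MvPolynomial (Fin n) A)) [y.IsPrime]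
    (p : Ideal A) [p.IsPrime] (hp : y.comap MvPolynomial.C = p)
    {N₀ : Type u} [AddCommGroup N₀] [Module A N₀] [Module (MvPolynomial (Fin n) A) N₀]
    [IsScalarTower A (MvPolynomial (Fin n) A) N₀] [Module.FinitePresentation (MvPolynomial (Fin n) A) N₀]
    {N : Type u} [AddCommGroup N] [Module A N] [Module (MvPolynomial (Fin n) A) N]
    [IsScalarTower A (MvPolynomial (Fin n) A) N] [Module.Flat A N]
    (l : N₀ →ₗ[MvPolynomial (Fin n) A] N) [IsLocalizedModule y.primeCompl l]
    {M : Type u} [AddCommGroup M] [Module A M] [Module (MvPolynomial (Fin n) A) M]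
    [IsScalarTower A (MvPolynomial (Fin n) A) M] [Module.Flat A M]
    (u : N →ₗ[MvPolynomial (Fin n) A] M) (hinj : Function.Injective ((u.restrictScalars A).lTensor p.ResidueField)) :
    FlatCA.UnivInj A (u.restrictScalars A) := by
  refine univInj_of_fibrewise_local y.primeCompl l (u.restrictScalars A) fun Q _ hQT m hm => ?_
  have hQy : Q ≤ y := fun t ht => by
    by_contra hty
    exact hQT t hty ht
  obtain ⟨⟨m₀, t₀⟩, hm₀⟩ := IsLocalizedModule.surj y.primeCompl l m
  have hm₀' : (t₀ : MvPolynomial (Fin n) A) • m = l m₀ := hm₀
  let L := (l.restrictScalars A).lTensor p.ResidueField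
  have hmem : ∀ w : p.ResidueField ⊗[A] N₀, L w = 0 →
      ∃ t ∉ y, ((LinearMap.lsmul (MvPolynomial (Fin n) A) N₀ t).restrictScalars A).lTensor p.ResidueField w = 0 := by
    intro w hw
    let F := AlgebraTensorModule.rTensor (A := MvPolynomial (Fin n) A) A p.ResidueField l
    have hF : ∀ w, F (TensorProduct.comm A p.ResidueField N₀ w) = TensorProduct.comm A p.ResidueField N (L w) := by
      intro w
      induction w with
      | zero => simp
      | add a b ha hb => simp only [map_add, ha, hb]
      | tmul c x => simp [F, L]
    obtain ⟨c, hc⟩ := (IsLocalizedModule.eq_zero_iff y.primeCompl F).1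
      (show F (TensorProduct.comm A p.ResidueField N₀ w) = 0 by rw [hF, hw, map_zero])
    refine ⟨c, c.2, (TensorProduct.comm A p.ResidueField N₀).injective ?_⟩
    rw [map_zero]
    refine Eq.trans ?_ hc
    clear hc hw
    induction w with
    | zero => simp
    | add a b ha hb => simp only [map_add, ha, hb, smul_add]
    | tmul a x => simp [Submonoid.smul_def, smul_tmul']
  obtain ⟨t, ht, htm⟩ := fibre_injective_of_specialization y Q hQy p (Q.comap MvPolynomial.C) hp rfl (u ∘ₗ l)
    (fun w hw => hmem w (hinj (by
      rw [map_zero, ← hw, ← LinearMap.lTensor_comp_apply]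
      rfl))) m₀ (by
      rw [LinearMap.comp_apply, ← hm₀', map_smul]
      have := congr(TensorProduct.comm A M _ ((t₀ : MvPolynomial (Fin n) A) •
        TensorProduct.comm A (Q.comap MvPolynomial.C).ResidueField M $hm))
      simpa [smul_tmul'] using this)
  refine ⟨t * t₀, Ideal.IsPrime.mul_notMem ‹_› ht fun h => t₀.2 (hQy h), ?_⟩
  rw [mul_smul, hm₀', ← map_smul]
  exact congr((l.restrictScalars A).lTensor (Q.comap MvPolynomial.C).ResidueField $htm)

/-- A linear map from the localisation at `y` of a finitely presented module, flat over the base, to a flat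
module which is injective on the fibre at `y` is universally injective. -/
theorem univInj_localized {A S : Type u} [CommRing A] [CommRing S] [Algebra A S] [Algebra.FinitePresentation A S]
    (y : Ideal S) [y.IsPrime] (p : Ideal A) [p.IsPrime] [y.LiesOver p]
    {N₀ : Type u} [AddCommGroup N₀] [Module S N₀] [Module.FinitePresentation S N₀]
    {N : Type u} [AddCommGroup N] [Module A N] [Module S N] [IsScalarTower A S N] [Module.Flat A N]
    (l : N₀ →ₗ[S] N) [IsLocalizedModule y.primeCompl l]
    {M : Type u} [AddCommGroup M] [Module A M] [Module S M] [IsScalarTower A S M] [Module.Flat A M]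
    (u : N →ₗ[S] M) (hinj : Function.Injective ((u.restrictScalars A).lTensor p.ResidueField)) :
    FlatCA.UnivInj A (u.restrictScalars A) := by
  obtain ⟨n, φ, _, hφ, hact, hfp⟩ := exists_presentation (A := A) (B := S) N₀
  let : Module A N₀ := Module.compHom N₀ (algebraMap A (MvPolynomial (Fin n) A))
  have : IsScalarTower A (MvPolynomial (Fin n) A) N₀ := .of_algebraMap_smul fun _ _ => rfl
  let : Module (MvPolynomial (Fin n) A) N := Module.compHom N φ.toRingHom
  have : IsScalarTower A (MvPolynomial (Fin n) A) N := .of_algebraMap_smul fun a x => by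
    show φ (algebraMap A _ a) • x = a • x
    rw [AlgHom.commutes, algebraMap_smul]
  let : Module (MvPolynomial (Fin n) A) M := Module.compHom M φ.toRingHom
  have : IsScalarTower A (MvPolynomial (Fin n) A) M := .of_algebraMap_smul fun a x => by
    show φ (algebraMap A _ a) • x = a • x
    rw [AlgHom.commutes, algebraMap_smul]
  let l' : N₀ →ₗ[MvPolynomial (Fin n) A] N :=
    { toFun := l
      map_add' := l.map_add
      map_smul' := fun q x => by rw [hact]; exact l.map_smul _ _ }
  let u' : N →ₗ[MvPolynomial (Fin n) A] M :=
    { toFun := u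
      map_add' := u.map_add
      map_smul' := fun q x => u.map_smul (φ q) x }
  let y' := y.comap φ.toRingHom
  have : IsLocalizedModule y'.primeCompl l' :=
    { map_units := fun t => (Module.End.isUnit_iff _).2
        (show Function.Bijective fun z : N => φ t.1 • z from
          (Module.End.isUnit_iff _).1 (IsLocalizedModule.map_units l (⟨φ t.1, t.2⟩ : y.primeCompl)))
      surj := fun z => by
        obtain ⟨⟨x, t⟩, hx⟩ := IsLocalizedModule.surj y.primeCompl l z
        obtain ⟨t', ht'⟩ := hφ t.1
        refine ⟨⟨x, ⟨t', show φ t' ∉ y from ht' ▸ t.2⟩⟩, ?_⟩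
        show φ t' • z = l x
        rw [ht']
        exact hx
      exists_of_eq := fun {x z} h => by
        obtain ⟨c, hc⟩ := IsLocalizedModule.exists_of_eq (S := y.primeCompl) (f := l) h
        obtain ⟨t', ht'⟩ := hφ c.1
        refine ⟨⟨t', show φ t' ∉ y from ht' ▸ c.2⟩, ?_⟩
        show t' • x = t' • z
        rw [hact, hact, ht']
        exact hc }
  have hp : y'.comap MvPolynomial.C = p := by
    rw [y.over_def p, Ideal.comap_comap]
    congr 1
    ext a
    exact φ.commutes a
  exact univInj_localized_poly y' p hp l' u' hinj

end Groth.Agent.RGCore
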