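import Groth.Agent.RGCore.FlatPointModel
import Groth.Agent.RGCore.UnivInjAt

/-!
Finite modules over finite type algebras: flatness, finite presentation and universal injectivity at a prime
from injectivity on the fibre.
-/

set_option autoImplicit false
set_option linter.unusedSectionVars false

universe u

open TensorProduct

namespace Groth.Agent.RGCore

section Local

variable {A S : Type u} [CommRing A] [CommRing S] [Algebra A S] (T : Submonoid S)
  {N : Type u} [AddCommGroup N] [Module A N] [Module S N] [IsScalarTower A S N]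
  {NT : Type u} [AddCommGroup NT] [Module A NT] [Module S NT] [IsScalarTower A S NT]
  (lN : N →ₗ[S] NT) [IsLocalizedModule T lN]
  {K : Type u} [AddCommGroup K] [Module A K]

include T in
theorem exists_smul_eq_zero_of_lTensor (w : K ⊗[A] N) (hw : (lN.restrictScalars A).lTensor K w = 0) :
    ∃ t ∈ T, ((LinearMap.lsmul S N t).restrictScalars A).lTensor K w = 0 := by
  let F := AlgebraTensorModule.rTensor (A := S) A K lN
  have hF : ∀ w, F (TensorProduct.comm A K N w) = TensorProduct.comm A K NT ((lN.restrictScalars A).lTensor K w) := by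
    intro w
    induction w with
    | zero => simp
    | add a b ha hb => simp only [map_add, ha, hb]
    | tmul c x => simp [F]
  obtain ⟨c, hc⟩ := (IsLocalizedModule.eq_zero_iff T F).1
    (show F (TensorProduct.comm A K N w) = 0 by rw [hF, hw, map_zero])
  refine ⟨c, c.2, (TensorProduct.comm A K N).injective ?_⟩
  rw [map_zero]
  refine Eq.trans ?_ hc
  clear hc hw
  induction w with
  | zero => simp
  | add a b ha hb => simp only [map_add, ha, hb, smul_add]
  | tmul a x => simp [Submonoid.smul_def, smul_tmul']

theorem lTensor_lsmul_mul (s t : S) (w : K ⊗[A] N) :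
    ((LinearMap.lsmul S N (s * t)).restrictScalars A).lTensor K w =
      ((LinearMap.lsmul S N s).restrictScalars A).lTensor K (((LinearMap.lsmul S N t).restrictScalars A).lTensor K w) := by
  rw [← LinearMap.lTensor_comp_apply]
  congr 2
  ext x
  exact mul_smul s t x

variable {M : Type u} [AddCommGroup M] [Module A M] [Module S M] [IsScalarTower A S M]

theorem lTensor_lsmul_map (f : N →ₗ[S] M) (s : S) (w : K ⊗[A] N) :
    (f.restrictScalars A).lTensor K (((LinearMap.lsmul S N s).restrictScalars A).lTensor K w) =
      ((LinearMap.lsmul S M s).restrictScalars A).lTensor K ((f.restrictScalars A).lTensor K w) := by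
  rw [← LinearMap.lTensor_comp_apply, ← LinearMap.lTensor_comp_apply]
  congr 2
  ext x
  exact f.map_smul s x

variable {MT : Type u} [AddCommGroup MT] [Module A MT] [Module S MT] [IsScalarTower A S MT]
  (lM : M →ₗ[S] MT) [IsLocalizedModule T lM]

include T lN lM in
/-- Injectivity up to `T` gives injectivity after localisation. -/
theorem injective_lTensor_localized (u : N →ₗ[S] M) (u' : NT →ₗ[S] MT) (hu : u' ∘ₗ lN = lM ∘ₗ u)
    (h : ∀ w : K ⊗[A] N, (u.restrictScalars A).lTensor K w = 0 →
      ∃ t ∈ T, ((LinearMap.lsmul S N t).restrictScalars A).lTensor K w = 0) :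
    Function.Injective ((u'.restrictScalars A).lTensor K) := by
  rw [injective_iff_map_eq_zero]
  intro v hv
  let F := AlgebraTensorModule.rTensor (A := S) A K lN
  obtain ⟨⟨x, s⟩, hx⟩ := IsLocalizedModule.surj T F (TensorProduct.comm A K NT v)
  obtain ⟨w, rfl⟩ := (TensorProduct.comm A K N).surjective x
  have hs : ((LinearMap.lsmul S NT (s : S)).restrictScalars A).lTensor K v = (lN.restrictScalars A).lTensor K w := by
    apply (TensorProduct.comm A K NT).injective
    refine Eq.trans ?_ (hx.trans ?_)
    · clear hx hv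
      induction v with
      | zero => simp
      | add a b ha hb => simp only [map_add, smul_add, ha, hb]
      | tmul a x => simp [Submonoid.smul_def, smul_tmul']
    · clear hx
      induction w with
      | zero => simp
      | add a b ha hb => simp only [map_add, ha, hb]
      | tmul a x => simp [F]
  have h0 : (lM.restrictScalars A).lTensor K ((u.restrictScalars A).lTensor K w) = 0 := by
    have := congr((u'.restrictScalars A).lTensor K $hs)
    rw [lTensor_lsmul_map, hv, map_zero, ← LinearMap.lTensor_comp_apply] at this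
    rw [← LinearMap.lTensor_comp_apply, this]
    congr 2
    ext z
    exact (LinearMap.congr_fun hu z).symm
  obtain ⟨c, hc, hcw⟩ := exists_smul_eq_zero_of_lTensor T lM _ h0
  rw [← lTensor_lsmul_map] at hcw
  obtain ⟨t, ht, htw⟩ := h _ hcw
  rw [← lTensor_lsmul_mul] at htw
  have h1 : ((LinearMap.lsmul S NT (t * c * s)).restrictScalars A).lTensor K v = 0 := by
    rw [lTensor_lsmul_mul, hs, ← lTensor_lsmul_map, htw, map_zero]
  have hbij : Function.Bijective fun z : NT => (t * c * s : S) • z :=
    (Module.End.isUnit_iff _).1 (IsLocalizedModule.map_units lN (⟨t * c * s, mul_mem (mul_mem ht hc) s.2⟩ : T))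
  exact (LinearEquiv.lTensor K (LinearEquiv.ofBijective ((LinearMap.lsmul S NT (t * c * s)).restrictScalars A) hbij)).injective
    (h1.trans (map_zero _).symm)

end Local

section Finite

theorem isLocalizedModule_comp_surjective {S : Type u} [CommRing S] (T : Submonoid S) {N₀ N NT : Type u}
    [AddCommGroup N₀] [Module S N₀] [AddCommGroup N] [Module S N] [AddCommGroup NT] [Module S NT]
    (lN : N →ₗ[S] NT) [IsLocalizedModule T lN] (π : N₀ →ₗ[S] N) (hπ : Function.Surjective π)
    (hker : ∀ x, π x = 0 → ∃ t ∈ T, t • x = 0) : IsLocalizedModule T (lN ∘ₗ π) where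
  map_units := IsLocalizedModule.map_units lN
  surj z := by
    obtain ⟨⟨x, t⟩, hx⟩ := IsLocalizedModule.surj T lN z
    obtain ⟨x₀, rfl⟩ := hπ x
    exact ⟨⟨x₀, t⟩, hx⟩
  exists_of_eq {x z} h := by
    obtain ⟨c, hc⟩ := IsLocalizedModule.exists_of_eq (S := T) (f := lN) h
    have h0 : π ((c : S) • x - (c : S) • z) = 0 := by
      rw [map_sub, map_smul, map_smul, sub_eq_zero]
      exact hc
    obtain ⟨t, ht, htx⟩ := hker _ h0
    refine ⟨⟨t, ht⟩ * c, ?_⟩
    rw [smul_sub, sub_eq_zero, smul_smul, smul_smul] at htx
    exact htx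

variable {A : Type u} [CommRing A] {n : ℕ}

/-- A finite module has a finitely presented cover with the same fibre at a prime of the base. -/
theorem exists_fp_cover (p : Ideal A) [p.IsPrime] (N : Type u) [AddCommGroup N] [Module A N]
    [Module (MvPolynomial (Fin n) A) N] [IsScalarTower A (MvPolynomial (Fin n) A) N]
    [Module.Finite (MvPolynomial (Fin n) A) N] :
    ∃ (N₀ : Type u) (_ : AddCommGroup N₀) (_ : Module A N₀) (_ : Module (MvPolynomial (Fin n) A) N₀)
      (_ : IsScalarTower A (MvPolynomial (Fin n) A) N₀) (π : N₀ →ₗ[MvPolynomial (Fin n) A] N),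
      Module.FinitePresentation (MvPolynomial (Fin n) A) N₀ ∧ Function.Surjective π ∧
      Function.Injective ((π.restrictScalars A).lTensor p.ResidueField) := by
  classical
  let P := MvPolynomial (Fin n) A
  obtain ⟨a, f, hf⟩ := Module.Finite.exists_fin' P N
  let X := p.ResidueField ⊗[A] (Fin a → P)
  let : Module (p.ResidueField ⊗[A] P) X := tauModule p.ResidueField (Fin a → P)
  have : IsNoetherianRing (p.ResidueField ⊗[A] P) := Algebra.FiniteType.isNoetherianRing p.ResidueField _
  have : Module.Finite (p.ResidueField ⊗[A] P) X := by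
    refine ⟨⟨Finset.univ.image fun i => ((1 : p.ResidueField) ⊗ₜ[A] Pi.single i (1 : P) : X), eq_top_iff.2 fun z htop => ?_⟩⟩
    clear htop
    induction z using TensorProduct.induction_on with
    | zero => exact zero_mem _
    | add b c hb hc => exact add_mem hb hc
    | tmul c x =>
      rw [← Finset.univ_sum_single x, tmul_sum]
      refine Submodule.sum_mem _ fun i _ => ?_
      have : (c ⊗ₜ[A] Pi.single i (x i) : X) = (c ⊗ₜ[A] x i : p.ResidueField ⊗[A] P) • ((1 : p.ResidueField) ⊗ₜ[A] Pi.single i (1 : P) : X) := by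
        show _ = tau p.ResidueField (Fin a → P) (c ⊗ₜ[A] x i) ((1 : p.ResidueField) ⊗ₜ[A] Pi.single i (1 : P))
        rw [tau_tmul, smul_eq_mul, mul_one]
        congr 1
        ext j
        by_cases hij : j = i <;> simp [hij]
      rw [this]
      exact Submodule.smul_mem _ _ (Submodule.subset_span (Finset.mem_image_of_mem _ (Finset.mem_univ i)))
  let ι : LinearMap.ker f → X := fun k => (1 : p.ResidueField) ⊗ₜ[A] (k : Fin a → P)
  have hfg : (Submodule.span (p.ResidueField ⊗[A] P) (Set.range ι)).FG := IsNoetherian.noetherian _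
  obtain ⟨G, hG, hGs⟩ := (Submodule.fg_span_iff_fg_span_finset_subset _).1 hfg
  choose! g hg using fun x (hx : x ∈ G) => hG hx
  let K₀ : Submodule P (Fin a → P) := Submodule.span P ((fun x => (g x : Fin a → P)) '' G)
  have hK₀ : K₀ ≤ LinearMap.ker f := Submodule.span_le.2 fun _ ⟨x, _, hx⟩ => hx ▸ (g x).2
  let π : ((Fin a → P) ⧸ K₀) →ₗ[P] N := Submodule.liftQ K₀ f hK₀
  have hπ : Function.Surjective π := fun y => by
    obtain ⟨x, rfl⟩ := hf y
    exact ⟨K₀.mkQ x, rfl⟩
  refine ⟨(Fin a → P) ⧸ K₀, inferInstance, inferInstance, inferInstance, inferInstance, π,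
    Module.finitePresentation_of_surjective K₀.mkQ (Submodule.mkQ_surjective _)
      (by rw [Submodule.ker_mkQ]; exact ⟨G.image fun x => (g x : Fin a → P), by rw [Finset.coe_image]⟩), hπ, ?_⟩
  let ψ := (K₀.mkQ.restrictScalars A).lTensor p.ResidueField
  have hspan : ∀ z ∈ Submodule.span (p.ResidueField ⊗[A] P) (Set.range ι), ∀ t : p.ResidueField ⊗[A] P, ψ (tau p.ResidueField (Fin a → P) t z) = 0 := by
    rw [hGs]
    intro z hz
    induction hz using Submodule.span_induction with
    | mem x hx =>
      intro t
      show (K₀.mkQ.restrictScalars A).lTensor p.ResidueField _ = 0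
      rw [tau_lTensor, ← hg x hx, LinearMap.lTensor_tmul,
        show (K₀.mkQ.restrictScalars A) (g x : Fin a → P) = 0 from
          (Submodule.Quotient.mk_eq_zero K₀).2 (Submodule.subset_span ⟨x, hx, rfl⟩), tmul_zero, map_zero]
    | zero => intro t; simp
    | add x y _ _ hx hy => intro t; simp only [map_add, hx, hy, add_zero]
    | smul b x _ hx =>
      intro t
      show ψ (tau p.ResidueField _ t (tau p.ResidueField _ b x)) = 0
      rw [← tau_mul]
      exact hx _
  rw [injective_iff_map_eq_zero]
  intro w hw
  obtain ⟨w, rfl⟩ := LinearMap.lTensor_surjective p.ResidueField (g := K₀.mkQ.restrictScalars A) K₀.mkQ_surjective w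
  rw [← LinearMap.lTensor_comp_apply, show (π.restrictScalars A).comp (K₀.mkQ.restrictScalars A) = f.restrictScalars A from rfl] at hw
  obtain ⟨v, rfl⟩ := (lTensor_exact p.ResidueField (f := (LinearMap.ker f).subtype.restrictScalars A)
    (g := f.restrictScalars A) (fun x => ⟨fun hx => ⟨⟨x, hx⟩, rfl⟩, by rintro ⟨k, rfl⟩; exact k.2⟩) hf w).1 hw
  clear hw
  induction v using TensorProduct.induction_on with
  | zero => simp
  | add x y hx hy => simp only [map_add, hx, hy, add_zero]
  | tmul c k =>
    have h := hspan _ (Submodule.subset_span ⟨k, rfl⟩) (c ⊗ₜ[A] (1 : P))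
    rwa [tau_tmul, one_smul, smul_eq_mul, mul_one] at h

/-- A finite module over a polynomial algebra with a map to a flat module, injective on the fibre at a prime, is
flat and finitely presented at the prime, and the map is universally injective there. -/
theorem finite_at_poly (y : Ideal (MvPolynomial (Fin n) A)) [y.IsPrime] (p : Ideal A) [p.IsPrime]
    (hp : y.comap MvPolynomial.C = p) {N : Type u} [AddCommGroup N] [Module A N]
    [Module (MvPolynomial (Fin n) A) N] [IsScalarTower A (MvPolynomial (Fin n) A) N]
    [Module.Finite (MvPolynomial (Fin n) A) N]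
    {M : Type u} [AddCommGroup M] [Module A M] [Module (MvPolynomial (Fin n) A) M]
    [IsScalarTower A (MvPolynomial (Fin n) A) M] [Module.Flat A M] (u : N →ₗ[MvPolynomial (Fin n) A] M)
    (hinj : ∀ w : p.ResidueField ⊗[A] N, (u.restrictScalars A).lTensor p.ResidueField w = 0 →
      ∃ t ∉ y, ((LinearMap.lsmul (MvPolynomial (Fin n) A) N t).restrictScalars A).lTensor p.ResidueField w = 0) :
    Module.Flat A (LocalizedModule y.primeCompl N) ∧
    FlatCA.UnivInj A ((IsLocalizedModule.map y.primeCompl (LocalizedModule.mkLinearMap y.primeCompl N)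
      (LocalizedModule.mkLinearMap y.primeCompl M) u).restrictScalars A) ∧
    ∃ (N₀ : Type u) (_ : AddCommGroup N₀) (_ : Module A N₀) (_ : Module (MvPolynomial (Fin n) A) N₀)
      (_ : IsScalarTower A (MvPolynomial (Fin n) A) N₀) (π : N₀ →ₗ[MvPolynomial (Fin n) A] N),
      Module.FinitePresentation (MvPolynomial (Fin n) A) N₀ ∧ Function.Surjective π ∧
      ∀ x, π x = 0 → ∃ t ∉ y, t • x = 0 := by
  obtain ⟨N₀, _, _, _, _, π, _, hπ, hπκ⟩ := exists_fp_cover (n := n) p N
  have hinj₀ : ∀ w : p.ResidueField ⊗[A] N₀, ((u ∘ₗ π).restrictScalars A).lTensor p.ResidueField w = 0 →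
      ∃ t ∈ y.primeCompl, ((LinearMap.lsmul (MvPolynomial (Fin n) A) N₀ t).restrictScalars A).lTensor p.ResidueField w = 0 := by
    intro w hw
    obtain ⟨t, ht, htw⟩ := hinj ((π.restrictScalars A).lTensor p.ResidueField w) (by
      rw [← LinearMap.lTensor_comp_apply]
      exact hw)
    exact ⟨t, ht, hπκ (by rw [map_zero, lTensor_lsmul_map, htw])⟩
  have hflat₀ : Module.Flat A (LocalizedModule y.primeCompl N₀) :=
    flat_localized_of_injective_poly y p hp ((u ∘ₗ π).restrictScalars A) hinj₀
  let M' := LocalizedModule y.primeCompl M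
  have : Module.Flat A M' := by
    rw [FlatModel.flat_localized_iff y.primeCompl (LocalizedModule.mkLinearMap y.primeCompl M)]
    intro J z hz
    exact ⟨1, one_mem _, by
      rw [one_smul]
      exact Module.Flat.lTensor_preserves_injective_linearMap J.subtype Subtype.val_injective
        (hz.trans (map_zero _).symm)⟩
  let l₀ := LocalizedModule.mkLinearMap y.primeCompl N₀
  let lM := LocalizedModule.mkLinearMap y.primeCompl M
  let u₀ := IsLocalizedModule.map y.primeCompl l₀ lM (u ∘ₗ π)
  have hu₀ : FlatCA.UnivInj A (u₀.restrictScalars A) := univInj_localized_poly y p hp l₀ u₀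
    (injective_lTensor_localized y.primeCompl l₀ lM (u ∘ₗ π) u₀ (IsLocalizedModule.map_comp y.primeCompl l₀ lM _) hinj₀)
  have hker : ∀ x, π x = 0 → ∃ t ∉ y, t • x = 0 := by
    intro x hx
    have h1 : u₀ (l₀ x) = 0 := by
      rw [IsLocalizedModule.map_apply, LinearMap.comp_apply, hx, map_zero, map_zero]
    have h2 : ((1 : A) ⊗ₜ[A] l₀ x : A ⊗[A] LocalizedModule y.primeCompl N₀) = 0 := hu₀ A (by
      rw [map_zero, LinearMap.lTensor_tmul, LinearMap.coe_restrictScalars, h1, tmul_zero])
    have h3 : l₀ x = 0 := by simpa using congr(TensorProduct.lid A _ $h2)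
    obtain ⟨t, ht⟩ := (IsLocalizedModule.eq_zero_iff y.primeCompl l₀).1 h3
    exact ⟨t, t.2, ht⟩
  let lN := LocalizedModule.mkLinearMap y.primeCompl N
  have := isLocalizedModule_comp_surjective y.primeCompl lN π hπ hker
  have hflat : Module.Flat A (LocalizedModule y.primeCompl N) :=
    (FlatModel.flat_localized_iff y.primeCompl (lN ∘ₗ π)).2
      ((FlatModel.flat_localized_iff y.primeCompl l₀).1 hflat₀)
  refine ⟨hflat, ?_, N₀, inferInstance, inferInstance, inferInstance, inferInstance, π, inferInstance, hπ, hker⟩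
  exact univInj_localized_poly y p hp (lN ∘ₗ π) _
    (injective_lTensor_localized y.primeCompl lN lM u _ (IsLocalizedModule.map_comp y.primeCompl lN lM u) hinj)

end Finite

section FiniteType

variable {A S : Type u} [CommRing A] [CommRing S] [Algebra A S] [Algebra.FiniteType A S]
  (p : Ideal A) [p.IsPrime] (q : Ideal S) [q.IsPrime] [q.LiesOver p]
  {N : Type u} [AddCommGroup N] [Module A N] [Module S N] [IsScalarTower A S N] [Module.Finite S N]

include p in
/-- A finite module over a finite type algebra with a map to a flat module, injective on the fibre at a prime, is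
flat and finitely presented at the prime, and the map is universally injective there. -/
theorem finite_at {M : Type u} [AddCommGroup M] [Module A M] [Module S M] [IsScalarTower A S M] [Module.Flat A M]
    (u : N →ₗ[S] M)
    (hinj : ∀ w : p.ResidueField ⊗[A] N, (u.restrictScalars A).lTensor p.ResidueField w = 0 →
      ∃ t ∉ q, ((LinearMap.lsmul S N t).restrictScalars A).lTensor p.ResidueField w = 0) :
    Module.Flat A (LocalizedModule q.primeCompl N) ∧
    FlatCA.UnivInj A ((IsLocalizedModule.map q.primeCompl (LocalizedModule.mkLinearMap q.primeCompl N)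
      (LocalizedModule.mkLinearMap q.primeCompl M) u).restrictScalars A) ∧
    (∃ (N₀ : Type u) (_ : AddCommGroup N₀) (_ : Module S N₀) (π : N₀ →ₗ[S] N),
      Module.FinitePresentation S N₀ ∧ Function.Surjective π ∧ ∀ x, π x = 0 → ∃ t ∉ q, t • x = 0) ∧
    ∀ (n : ℕ) (φ : MvPolynomial (Fin n) A →ₐ[A] S), Function.Surjective φ →
      ∀ [Module (MvPolynomial (Fin n) A) N] [IsScalarTower A (MvPolynomial (Fin n) A) N],
      (∀ (t : MvPolynomial (Fin n) A) (x : N), t • x = φ t • x) →
      Module.Flat A (LocalizedModule (q.comap φ.toRingHom).primeCompl N) ∧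
      ∃ (N₀ : Type u) (_ : AddCommGroup N₀) (_ : Module A N₀) (_ : Module (MvPolynomial (Fin n) A) N₀)
        (_ : IsScalarTower A (MvPolynomial (Fin n) A) N₀)
        (l₀ : N₀ →ₗ[MvPolynomial (Fin n) A] LocalizedModule (q.comap φ.toRingHom).primeCompl N),
        Module.FinitePresentation (MvPolynomial (Fin n) A) N₀ ∧ IsLocalizedModule (q.comap φ.toRingHom).primeCompl l₀ := by
  have key : ∀ (n : ℕ) (φ : MvPolynomial (Fin n) A →ₐ[A] S), Function.Surjective φ →
      ∀ [Module (MvPolynomial (Fin n) A) N] [IsScalarTower A (MvPolynomial (Fin n) A) N],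
      (∀ (t : MvPolynomial (Fin n) A) (x : N), t • x = φ t • x) →
      Module.Flat A (LocalizedModule (q.comap φ.toRingHom).primeCompl N) ∧
      (∀ (Q : Type u) [AddCommGroup Q] [Module A Q] (w : Q ⊗[A] N), (u.restrictScalars A).lTensor Q w = 0 →
        ∃ t ∈ q.primeCompl, ((LinearMap.lsmul S N t).restrictScalars A).lTensor Q w = 0) ∧
      ∃ (N₀ : Type u) (_ : AddCommGroup N₀) (_ : Module A N₀) (_ : Module (MvPolynomial (Fin n) A) N₀)
        (_ : IsScalarTower A (MvPolynomial (Fin n) A) N₀) (π : N₀ →ₗ[MvPolynomial (Fin n) A] N),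
        Module.FinitePresentation (MvPolynomial (Fin n) A) N₀ ∧ Function.Surjective π ∧
        ∀ x, π x = 0 → ∃ t ∉ q.comap φ.toRingHom, t • x = 0 := by
    intro n φ hφ _ _ hact
    let : Module (MvPolynomial (Fin n) A) M := Module.compHom M φ.toRingHom
    have : IsScalarTower A (MvPolynomial (Fin n) A) M := .of_algebraMap_smul fun a x => by
      show φ (algebraMap A _ a) • x = a • x
      rw [AlgHom.commutes, algebraMap_smul]
    have : Module.Finite (MvPolynomial (Fin n) A) N := by
      obtain ⟨G, hG⟩ := (Module.Finite.fg_top : (⊤ : Submodule S N).FG)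
      refine ⟨⟨G, eq_top_iff.2 fun x htop => ?_⟩⟩
      clear htop
      have hx : x ∈ Submodule.span S (G : Set N) := hG ▸ trivial
      induction hx using Submodule.span_induction with
      | mem v hv => exact Submodule.subset_span hv
      | zero => exact zero_mem _
      | add a b _ _ ha hb => exact add_mem ha hb
      | smul s v _ hv =>
        obtain ⟨t, rfl⟩ := hφ s
        rw [← hact]
        exact Submodule.smul_mem (Submodule.span (MvPolynomial (Fin n) A) (G : Set N)) t hv
    let u' : N →ₗ[MvPolynomial (Fin n) A] M :=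
      { toFun := u, map_add' := u.map_add, map_smul' := fun t x => by rw [hact]; exact u.map_smul (φ t) x }
    have hp : (q.comap φ.toRingHom).comap MvPolynomial.C = p := by
      rw [q.over_def p, Ideal.comap_comap]
      congr 1
      ext a
      exact φ.commutes a
    obtain ⟨hflat, huniv, hcover⟩ := finite_at_poly (q.comap φ.toRingHom) p hp u' (fun w hw => by
      obtain ⟨t, ht, htw⟩ := hinj w hw
      obtain ⟨t, rfl⟩ := hφ t
      refine ⟨t, ht, ?_⟩
      rw [show (LinearMap.lsmul (MvPolynomial (Fin n) A) N t).restrictScalars A =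
        (LinearMap.lsmul S N (φ t)).restrictScalars A from LinearMap.ext (hact t)]
      exact htw)
    refine ⟨hflat, fun Q _ _ w hw => ?_, hcover⟩
    let lN := LocalizedModule.mkLinearMap (q.comap φ.toRingHom).primeCompl N
    let lM := LocalizedModule.mkLinearMap (q.comap φ.toRingHom).primeCompl M
    have h0 : (lN.restrictScalars A).lTensor Q w = 0 := huniv Q (by
      rw [map_zero, ← LinearMap.lTensor_comp_apply]
      have : ((IsLocalizedModule.map (q.comap φ.toRingHom).primeCompl lN lM u').restrictScalars A) ∘ₗ (lN.restrictScalars A) =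
          (lM.restrictScalars A) ∘ₗ (u.restrictScalars A) :=
        LinearMap.ext fun x => IsLocalizedModule.map_apply _ lN lM u' x
      rw [this, LinearMap.lTensor_comp_apply, hw, map_zero])
    obtain ⟨t, ht, htw⟩ := exists_smul_eq_zero_of_lTensor (q.comap φ.toRingHom).primeCompl lN w h0
    refine ⟨φ t, ht, ?_⟩
    rw [show (LinearMap.lsmul S N (φ t)).restrictScalars A =
        (LinearMap.lsmul (MvPolynomial (Fin n) A) N t).restrictScalars A from LinearMap.ext fun x => (hact t x).symm]
    exact htw
  obtain ⟨n, φ, hφ⟩ := Algebra.FiniteType.iff_quotient_mvPolynomial''.1 ‹Algebra.FiniteType A S›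
  let : Module (MvPolynomial (Fin n) A) N := Module.compHom N φ.toRingHom
  have : IsScalarTower A (MvPolynomial (Fin n) A) N := .of_algebraMap_smul fun a x => by
    show φ (algebraMap A _ a) • x = a • x
    rw [AlgHom.commutes, algebraMap_smul]
  obtain ⟨hflat, huniv, N₀, _, _, _, _, π, _, hπ, hker⟩ := key n φ hφ fun _ _ => rfl
  let lN := LocalizedModule.mkLinearMap q.primeCompl N
  refine ⟨?_, ?_, ?_, fun m ψ hψ => ?_⟩
  · rw [FlatModel.flat_localized_iff q.primeCompl lN]
    intro J z hz
    obtain ⟨s, hs, hsz⟩ := (FlatModel.flat_localized_iff (q.comap φ.toRingHom).primeCompl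
      (LocalizedModule.mkLinearMap _ N)).1 hflat J z hz
    refine ⟨φ s, hs, Eq.trans ?_ hsz⟩
    clear hsz hz
    induction z using TensorProduct.induction_on with
    | zero => simp
    | add a b ha hb => simp only [smul_add, ha, hb]
    | tmul a x => rfl
  · intro Q _ _
    exact injective_lTensor_localized q.primeCompl lN (LocalizedModule.mkLinearMap q.primeCompl M) u _
      (IsLocalizedModule.map_comp q.primeCompl lN _ u) (huniv Q)
  · let : Algebra (MvPolynomial (Fin n) A) S := φ.toRingHom.toAlgebra
    have : IsScalarTower (MvPolynomial (Fin n) A) S N := .of_algebraMap_smul fun _ _ => rfl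
    let π' : S ⊗[MvPolynomial (Fin n) A] N₀ →ₗ[S] N := π.liftBaseChange S
    have hone : ∀ x, π' ((1 : S) ⊗ₜ x) = π x := fun x => by simp [π']
    refine ⟨S ⊗[MvPolynomial (Fin n) A] N₀, inferInstance, inferInstance, π', inferInstance, fun x => ?_, fun z hz => ?_⟩
    · obtain ⟨x, rfl⟩ := hπ x
      exact ⟨_, hone x⟩
    · obtain ⟨x, rfl⟩ : ∃ x : N₀, (1 : S) ⊗ₜ[MvPolynomial (Fin n) A] x = z := by
        clear hz
        induction z using TensorProduct.induction_on with
        | zero => exact ⟨0, tmul_zero _ _⟩
        | add a b ha hb =>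
          obtain ⟨a, rfl⟩ := ha; obtain ⟨b, rfl⟩ := hb
          exact ⟨a + b, tmul_add _ _ _⟩
        | tmul s x =>
          obtain ⟨t, rfl⟩ := hφ s
          refine ⟨t • x, ?_⟩
          rw [← smul_tmul, show t • (1 : S) = φ t from mul_one _]
      rw [hone] at hz
      obtain ⟨t, ht, htx⟩ := hker x hz
      refine ⟨φ t, ht, ?_⟩
      rw [smul_tmul', smul_eq_mul, mul_one, show φ t = t • (1 : S) from (mul_one _).symm, smul_tmul, htx, tmul_zero]
  · intro _ _ hact'
    obtain ⟨hflat', -, N₀', _, _, _, _, π', _, hπ', hker'⟩ := key m ψ hψ hact'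
    exact ⟨hflat', N₀', inferInstance, inferInstance, inferInstance, inferInstance,
      LocalizedModule.mkLinearMap _ N ∘ₗ π', inferInstance, isLocalizedModule_comp_surjective _ _ π' hπ' hker'⟩

include p in
/-- The case of a module which is flat at the prime. -/
theorem fibre_killed_of_localized (w : p.ResidueField ⊗[A] N)
    (hw : ((LocalizedModule.mkLinearMap q.primeCompl N).restrictScalars A).lTensor p.ResidueField w = 0) :
    ∃ t ∉ q, ((LinearMap.lsmul S N t).restrictScalars A).lTensor p.ResidueField w = 0 :=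
  exists_smul_eq_zero_of_lTensor q.primeCompl _ w hw

end FiniteType

end Groth.Agent.RGCore
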