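import Groth.Agent.RGCore.WeakAssTensor

/-!
Transfer of the description of weakly associated primes of tensor products along a presentation.
-/

set_option autoImplicit false
set_option linter.unusedSectionVars false

universe u

open TensorProduct

namespace Groth.Agent.RGCore

variable {A S : Type u} [CommRing A] [CommRing S] [Algebra A S] {n : ℕ} (φ : MvPolynomial (Fin n) A →ₐ[A] S)
  (hφ : Function.Surjective φ)
  {N : Type u} [AddCommGroup N] [Module A N] [Module S N] [Module (MvPolynomial (Fin n) A) N]
  [IsScalarTower A S N] (hact : ∀ (t : MvPolynomial (Fin n) A) (x : N), t • x = φ t • x)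

include hφ hact in
theorem weakAss_tensor_comap (q : Ideal S) [q.IsPrime] [IsScalarTower A (MvPolynomial (Fin n) A) N]
    (Z : Type u) [AddCommGroup Z] [Module A Z] :
    q ∈ FlatCA.weakAss S (N ⊗[A] Z) ↔ q.comap φ.toRingHom ∈ FlatCA.weakAss (MvPolynomial (Fin n) A) (N ⊗[A] Z) := by
  have hann : ∀ v : N ⊗[A] Z, WeakAss.annEl (MvPolynomial (Fin n) A) v = (WeakAss.annEl S v).comap φ.toRingHom := by
    intro v
    have h : ∀ t : MvPolynomial (Fin n) A, t • v = φ t • v := by
      intro t
      induction v with
      | zero => simp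
      | add a b ha hb => simp only [smul_add, ha, hb]
      | tmul m x => rw [TensorProduct.smul_tmul', TensorProduct.smul_tmul', hact]
    ext t
    rw [Ideal.mem_comap, WeakAss.mem_annEl, WeakAss.mem_annEl, h]
    rfl
  constructor
  · rintro ⟨v, hv⟩
    refine ⟨v, ?_⟩
    show q.comap φ.toRingHom ∈ (WeakAss.annEl _ v).minimalPrimes
    rw [hann, Ideal.comap_minimalPrimes_eq_of_surjective hφ]
    exact ⟨q, hv, rfl⟩
  · rintro ⟨v, hv⟩
    have hv' : q.comap φ.toRingHom ∈ (WeakAss.annEl (MvPolynomial (Fin n) A) v).minimalPrimes := hv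
    rw [hann, Ideal.comap_minimalPrimes_eq_of_surjective hφ] at hv'
    obtain ⟨J, hJ, hJq⟩ := hv'
    rw [Ideal.comap_injective_of_surjective φ.toRingHom hφ hJq] at hJ
    exact ⟨v, hJ⟩

include hφ hact in
theorem fibAss_comap (p : Ideal A) [p.IsPrime] (q : Ideal S) [IsScalarTower A (MvPolynomial (Fin n) A) N] :
    FibAss p N q ↔ FibAss p N (q.comap φ.toRingHom) := by
  refine exists_congr fun m => ?_
  constructor
  · intro h t
    rw [hact]
    exact h (φ t)
  · intro h s
    obtain ⟨t, rfl⟩ := hφ s
    rw [← hact]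
    exact h t

include hφ hact in
/-- The description of the weakly associated primes of `N ⊗ Z` for a presentation `φ` and a module which is
flat over the base and finitely presented over the polynomial ring at the prime. -/
theorem mem_weakAss_tensor_iff [IsScalarTower A (MvPolynomial (Fin n) A) N] (p : Ideal A) [p.IsPrime]
    (q : Ideal S) [q.IsPrime] [q.LiesOver p] [Algebra.FiniteType A S]
    (hflat : Module.Flat A (LocalizedModule (q.comap φ.toRingHom).primeCompl N))
    {N₀ : Type u} [AddCommGroup N₀] [Module A N₀] [Module (MvPolynomial (Fin n) A) N₀]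
    [IsScalarTower A (MvPolynomial (Fin n) A) N₀] [Module.FinitePresentation (MvPolynomial (Fin n) A) N₀]
    (l₀ : N₀ →ₗ[MvPolynomial (Fin n) A] LocalizedModule (q.comap φ.toRingHom).primeCompl N)
    [IsLocalizedModule (q.comap φ.toRingHom).primeCompl l₀]
    (Z : Type u) [AddCommGroup Z] [Module A Z] :
    q ∈ FlatCA.weakAss S (N ⊗[A] Z) ↔
      (p ∈ FlatCA.weakAss A Z ∧ FlatCA.fiberIdeal p q ∈ associatedPrimes (p.Fiber S) (FlatCA.fiberMod p S N)) := by
  have hp : (q.comap φ.toRingHom).comap MvPolynomial.C = p := by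
    rw [q.over_def p, Ideal.comap_comap]
    congr 1
    ext a
    exact φ.commutes a
  rw [weakAss_tensor_comap φ hφ hact q Z, mem_weakAss_tensor_iff_poly _ l₀ Z, hp, ← fibAss_comap φ hφ hact p q,
    fibAss_iff_fiberIdeal p q]

include hφ hact in
/-- Localising at a prime of `S` is localising at its preimage. -/
theorem flat_comap_of_flatAt [IsScalarTower A (MvPolynomial (Fin n) A) N] (q : Ideal S) [q.IsPrime]
    (h : Module.Flat A (LocalizedModule q.primeCompl N)) :
    Module.Flat A (LocalizedModule (q.comap φ.toRingHom).primeCompl N) := by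
  rw [FlatModel.flat_localized_iff (q.comap φ.toRingHom).primeCompl
    (LocalizedModule.mkLinearMap (q.comap φ.toRingHom).primeCompl N)]
  rw [FlatModel.flat_localized_iff q.primeCompl (LocalizedModule.mkLinearMap q.primeCompl N)] at h
  intro J y hy
  obtain ⟨s, hs, hsy⟩ := h J y hy
  obtain ⟨t, rfl⟩ := hφ s
  refine ⟨t, hs, ?_⟩
  have hact' : ∀ v : N ⊗[A] J, t • v = φ t • v := by
    intro v
    induction v with
    | zero => simp
    | add a b ha hb => simp only [smul_add, ha, hb]
    | tmul m x => rw [TensorProduct.smul_tmul', TensorProduct.smul_tmul', hact]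
  rw [hact', hsy]

theorem mem_weakAss_tensor_iff_fp {A S : Type u} [CommRing A] [CommRing S] [Algebra A S]
    [Algebra.FinitePresentation A S] (N : Type u) [AddCommGroup N] [Module S N] [Module A N] [IsScalarTower A S N]
    [Module.FinitePresentation S N] (p : Ideal A) [p.IsPrime] (q : Ideal S) [q.IsPrime] [q.LiesOver p]
    (hflat : Module.Flat A (LocalizedModule q.primeCompl N)) (Z : Type u) [AddCommGroup Z] [Module A Z] :
    q ∈ FlatCA.weakAss S (N ⊗[A] Z) ↔
      (p ∈ FlatCA.weakAss A Z ∧ FlatCA.fiberIdeal p q ∈ associatedPrimes (p.Fiber S) (FlatCA.fiberMod p S N)) := by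
  obtain ⟨n, φ, _, hφ, hact, hfp⟩ := exists_presentation (A := A) (B := S) N
  have : IsScalarTower A (MvPolynomial (Fin n) A) N := .of_algebraMap_smul fun a x => by
    rw [hact, AlgHom.commutes, algebraMap_smul]
  exact mem_weakAss_tensor_iff φ hφ hact p q (flat_comap_of_flatAt φ hφ hact q hflat)
    (LocalizedModule.mkLinearMap (q.comap φ.toRingHom).primeCompl N) Z

end Groth.Agent.RGCore

namespace Groth.Agent.RGCore

theorem flat_localizedModule {A S : Type u} [CommRing A] [CommRing S] [Algebra A S] (W : Submonoid S) (N : Type u)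
    [AddCommGroup N] [Module S N] [Module A N] [IsScalarTower A S N] [Module.Flat A N] :
    Module.Flat A (LocalizedModule W N) := by
  rw [FlatModel.flat_localized_iff W (LocalizedModule.mkLinearMap W N)]
  intro J y hy
  exact ⟨1, W.one_mem, by
    rw [one_smul]
    exact Module.Flat.lTensor_preserves_injective_linearMap J.subtype Subtype.val_injective
      (hy.trans (map_zero _).symm)⟩

end Groth.Agent.RGCore
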