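import Groth.Agent.RGCore.FiniteAt
import Groth.Agent.RGCore.WeakAssTransfer

/-!
Consequences of flatness at a point for finite modules over finite type algebras.
-/

set_option autoImplicit false
set_option linter.unusedSectionVars false

universe u

open TensorProduct

namespace Groth.Agent.RGCore

attribute [local instance] Algebra.TensorProduct.rightAlgebra

variable {A S : Type u} [CommRing A] [CommRing S] [Algebra A S] (N : Type u) [AddCommGroup N] [Module A N]
  [Module S N] [IsScalarTower A S N]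

theorem flatAt_of_le {q q' : Ideal S} [q.IsPrime] [q'.IsPrime] (hle : q' ≤ q)
    (h : Module.Flat A (LocalizedModule q.primeCompl N)) : Module.Flat A (LocalizedModule q'.primeCompl N) := by
  rw [FlatModel.flat_localized_iff q'.primeCompl (LocalizedModule.mkLinearMap q'.primeCompl N)]
  rw [FlatModel.flat_localized_iff q.primeCompl (LocalizedModule.mkLinearMap q.primeCompl N)] at h
  intro J z hz
  obtain ⟨s, hs, hsz⟩ := h J z hz
  exact ⟨s, fun h' => hs (hle h'), hsz⟩

variable [Algebra.FiniteType A S] [Module.Finite S N] (p : Ideal A) [p.IsPrime] (q : Ideal S) [q.IsPrime]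
  [q.LiesOver p]

/-- The weakly associated primes of a tensor product at a point of flatness. -/
theorem mem_weakAss_tensor_iff_of_flatAt (hflat : Module.Flat A (LocalizedModule q.primeCompl N))
    (Z : Type u) [AddCommGroup Z] [Module A Z] :
    q ∈ FlatCA.weakAss S (N ⊗[A] Z) ↔
      (p ∈ FlatCA.weakAss A Z ∧ FlatCA.fiberIdeal p q ∈ associatedPrimes (p.Fiber S) (FlatCA.fiberMod p S N)) := by
  obtain ⟨n, φ, hφ⟩ := Algebra.FiniteType.iff_quotient_mvPolynomial''.1 ‹Algebra.FiniteType A S›
  let : Module (MvPolynomial (Fin n) A) N := Module.compHom N φ.toRingHom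
  have : IsScalarTower A (MvPolynomial (Fin n) A) N := .of_algebraMap_smul fun a x => by
    show φ (algebraMap A _ a) • x = a • x
    rw [AlgHom.commutes, algebraMap_smul]
  obtain ⟨-, -, -, hpoly⟩ := finite_at p q (LocalizedModule.mkLinearMap q.primeCompl N) (fibre_killed_of_localized p q)
  obtain ⟨hflat', N₀, _, _, _, _, l₀, _, _⟩ := hpoly n φ hφ fun _ _ => rfl
  exact mem_weakAss_tensor_iff φ hφ (fun _ _ => rfl) p q hflat' l₀ Z

include p in
/-- Flatness at the associated points of the fibre specialising to a point gives flatness at the point. -/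
theorem flatAt_of_assoc
    (h : ∀ (q' : Ideal S) [q'.IsPrime], q' ≤ q → q'.LiesOver p →
      FlatCA.fiberIdeal p q' ∈ associatedPrimes (p.Fiber S) (FlatCA.fiberMod p S N) →
      Module.Flat A (LocalizedModule q'.primeCompl N)) :
    Module.Flat A (LocalizedModule q.primeCompl N) := by
  classical
  let F : Set (PrimeSpectrum S) := {Q | Q.asIdeal ≤ q ∧ Q.asIdeal.LiesOver p ∧ FibAss p N Q.asIdeal}
  have : IsNoetherianRing (p.Fiber S) := Algebra.FiniteType.isNoetherianRing p.ResidueField _
  have : Module.Finite (p.Fiber S) (FlatCA.fiberMod p S N) :=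
    inferInstanceAs (Module.Finite (p.Fiber S) ((p.Fiber S) ⊗[S] N))
  have hfin : (FlatCA.ass S (FlatCA.fiberMod p S N)).Finite := by
    rw [AssFiber.ass_fiberMod_eq]
    exact ((associatedPrimes.finite (p.Fiber S) (FlatCA.fiberMod p S N)).subset
      fun I hI => (mem_associatedPrimes_iff_mem_ass I).2 hI).image _
  have : Finite F := by
    refine Set.Finite.to_subtype (Set.Finite.of_finite_image (f := PrimeSpectrum.asIdeal) (hfin.subset ?_) ?_)
    · rintro _ ⟨Q, ⟨-, -, hQ⟩, rfl⟩
      exact (fibAss_iff_mem_ass p Q.asIdeal).1 hQ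
    · exact fun _ _ _ _ hab => PrimeSpectrum.ext hab
  have : Fintype F := Fintype.ofFinite F
  have hflat : ∀ i : F, Module.Flat A (LocalizedModule i.1.asIdeal.primeCompl N) := fun i => by
    have := i.2.2.1
    exact h i.1.asIdeal i.2.1 this ((fibAss_iff_fiberIdeal p i.1.asIdeal).1 i.2.2.2)
  let M := (i : F) → LocalizedModule i.1.asIdeal.primeCompl N
  have : Module.Flat A M := Module.Flat.of_linearEquiv
    (DFinsupp.linearEquivFunOnFintype (R := A) (M := fun i : F => LocalizedModule i.1.asIdeal.primeCompl N)).symm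
  let u : N →ₗ[S] M := LinearMap.pi fun i => LocalizedModule.mkLinearMap i.1.asIdeal.primeCompl N
  refine (finite_at p q u fun w hw => ?_).1
  -- `w` is `1 ⊗ m` up to a unit
  have hden : ∀ w : p.ResidueField ⊗[A] N, ∃ r ∉ p, ∃ m : N, r • w = (1 : p.ResidueField) ⊗ₜ[A] m := by
    intro w
    induction w with
    | zero => exact ⟨1, fun h1 => ‹p.IsPrime›.ne_top ((Ideal.eq_top_iff_one p).2 h1), 0, by simp⟩
    | add a b ha hb =>
      obtain ⟨r, hr, m, hm⟩ := ha
      obtain ⟨r', hr', m', hm'⟩ := hb
      refine ⟨r * r', Ideal.IsPrime.mul_notMem ‹_› hr hr', r' • m + r • m', ?_⟩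
      rw [smul_add, tmul_add, tmul_smul, tmul_smul, ← hm, ← hm', smul_smul, smul_smul, mul_comm r' r]
    | tmul c x =>
      obtain ⟨c₀, rfl⟩ := IsLocalRing.residue_surjective (R := Localization.AtPrime p) c
      obtain ⟨⟨b, s⟩, hbs⟩ := IsLocalization.surj p.primeCompl c₀
      refine ⟨s, s.2, b • x, ?_⟩
      rw [tmul_smul, smul_tmul', smul_tmul', Algebra.smul_def, Algebra.smul_def, mul_one, mul_comm]
      congr 1
      have h1 := congr(IsLocalRing.residue (Localization.AtPrime p) $hbs)
      rw [map_mul] at h1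
      exact h1
  obtain ⟨r, hr, m, hm⟩ := hden w
  let I := WeakAss.annEl S (FlatCA.toFiberMod p (S := S) N m)
  have hI : ∀ t : S, t ∈ I ↔ ((LinearMap.lsmul S N t).restrictScalars A).lTensor p.ResidueField w = 0 := by
    intro t
    have hunit : ∀ (b : A), b ∉ p → ∀ z : p.ResidueField ⊗[A] N, b • z = 0 → z = 0 := fun b hb z hz => by
      rw [← algebraMap_smul p.ResidueField b z, smul_eq_zero] at hz
      exact hz.resolve_left fun h0 => hb (Ideal.algebraMap_residueField_eq_zero.1 h0)
    have h1 : ((LinearMap.lsmul S N t).restrictScalars A).lTensor p.ResidueField w = 0 ↔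
        (1 : p.ResidueField) ⊗ₜ[A] (t • m) = 0 := by
      have h2 : r • ((LinearMap.lsmul S N t).restrictScalars A).lTensor p.ResidueField w =
          (1 : p.ResidueField) ⊗ₜ[A] (t • m) := by
        rw [← map_smul, hm]
        rfl
      rw [← h2]
      exact ⟨fun h0 => by rw [h0, smul_zero], hunit r hr _⟩
    rw [h1, annEl_toFiberMod]
    constructor
    · rintro ⟨b, hb, hmem⟩
      refine hunit b hb _ ?_
      rw [← tmul_smul]
      generalize b • t • m = z at hmem
      induction hmem using Submodule.smul_induction_on' with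
      | smul a ha z _ =>
        rw [tmul_smul, smul_tmul', Algebra.smul_def, Ideal.algebraMap_residueField_eq_zero.2 ha, zero_mul, zero_tmul]
      | add x _ z _ hx hz => rw [tmul_add, hx, hz, add_zero]
    · intro h0
      obtain ⟨b, hb, hbX⟩ := exists_smul_tmul_eq_zero p (t • m) h0
      refine ⟨b, hb, mem_smul_top_of_tmul_one p _ ?_⟩
      rw [← smul_tmul']
      refine hbX (A ⧸ p) 1 fun a ha => ?_
      rw [Algebra.smul_def, Ideal.Quotient.algebraMap_eq, Ideal.Quotient.eq_zero_iff_mem.2 ha, zero_mul]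
  by_contra hcon
  have hIq : I ≤ q := fun t ht => by
    by_contra htq
    exact hcon ⟨t, htq, (hI t).1 ht⟩
  obtain ⟨Q, hQ, hQq⟩ := Ideal.exists_minimalPrimes_le hIq
  have := hQ.1.1
  have hpow : ∀ a ∈ Q, ∃ k : ℕ, ∃ t ∉ Q, t * a ^ k ∈ I := by
    intro a ha
    by_contra hno
    have hd : Disjoint (I : Set S) (Q.primeCompl ⊔ Submonoid.powers a : Submonoid S) := by
      rw [Set.disjoint_left]
      intro x hxI hx
      obtain ⟨t, ht, y, ⟨k, rfl⟩, rfl⟩ := Submonoid.mem_sup.1 hx
      exact hno ⟨k, t, ht, hxI⟩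
    obtain ⟨P, hP, hIP, hPd⟩ := Ideal.exists_le_prime_disjoint I _ hd
    have hPQ : P ≤ Q := fun x hx => by
      by_contra hxQ
      exact Set.disjoint_left.1 hPd hx (Submonoid.mem_sup_left hxQ)
    exact Set.disjoint_left.1 hPd (hQ.2 ⟨hP, hIP⟩ hPQ ha) (Submonoid.mem_sup_right (Submonoid.mem_powers a))
  have hfib : FibAss p N Q := fibAss_of_minimal p Q m
    (fun t b hb hmem => hQ.1.2 ((annEl_toFiberMod p m t).2 ⟨b, hb, hmem⟩))
    (fun a ha => by
      obtain ⟨k, t, ht, hmem⟩ := hpow a ha
      obtain ⟨b, hb, hb'⟩ := (annEl_toFiberMod p m _).1 hmem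
      exact ⟨k, t, ht, b, hb, hb'⟩)
  have hover : Q.LiesOver p := by
    refine ⟨le_antisymm (fun a ha => ?_) fun a ha => ?_⟩
    · refine hQ.1.2 ((annEl_toFiberMod p m _).2 ⟨1, fun h1 => ‹p.IsPrime›.ne_top ((Ideal.eq_top_iff_one p).2 h1), ?_⟩)
      rw [one_smul, algebraMap_smul]
      exact Submodule.smul_mem_smul ha Submodule.mem_top
    · by_contra hap
      obtain ⟨k, t, ht, hmem⟩ := hpow (algebraMap A S a) ha
      obtain ⟨b, hb, hb'⟩ := (annEl_toFiberMod p m _).1 hmem
      refine ht (hQ.1.2 ((annEl_toFiberMod p m _).2 ⟨b * a ^ k, Ideal.IsPrime.mul_notMem ‹_› hb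
        (fun h' => hap (‹p.IsPrime›.mem_of_pow_mem k h')), ?_⟩))
      rw [mul_comm t, mul_smul (algebraMap A S a ^ k), ← map_pow, algebraMap_smul, ← mul_smul] at hb'
      exact hb'
  let i : F := ⟨⟨Q, inferInstance⟩, hQq, hover, hfib⟩
  have hwi : ((LocalizedModule.mkLinearMap Q.primeCompl N).restrictScalars A).lTensor p.ResidueField w = 0 := by
    have := congr(((LinearMap.proj i : M →ₗ[S] _).restrictScalars A).lTensor p.ResidueField $hw)
    rw [← LinearMap.lTensor_comp_apply, map_zero] at this
    exact this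
  obtain ⟨t, ht, htw⟩ := exists_smul_eq_zero_of_lTensor Q.primeCompl _ w hwi
  exact ht (hQ.1.2 ((hI t).2 htw))

end Groth.Agent.RGCore

namespace Groth.Agent.RGCore

open TensorProduct

/-- A flat local ring of a finite type algebra is essentially of finite presentation. -/
theorem essFinitePresentation_of_flatAt {A S : Type u} [CommRing A] [CommRing S] [Algebra A S] {n : ℕ}
    (φ : MvPolynomial (Fin n) A →ₐ[A] S) (hφ : Function.Surjective φ) (q : Ideal S) [q.IsPrime]
    [Module.Flat A (Localization.AtPrime q)] : FlatCA.EssFinitePresentation A (Localization.AtPrime q) := by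
  classical
  have : Algebra.FiniteType A S := Algebra.FiniteType.iff_quotient_mvPolynomial''.2 ⟨n, φ, hφ⟩
  have : Module.Flat A (LocalizedModule q.primeCompl S) := Module.Flat.of_linearEquiv
    ((IsLocalizedModule.iso q.primeCompl (Algebra.linearMap S (Localization.AtPrime q))).restrictScalars A)
  obtain ⟨-, -, -, hpoly⟩ := finite_at (q.under A) q (LocalizedModule.mkLinearMap q.primeCompl S)
    (fibre_killed_of_localized (q.under A) q)
  let P := MvPolynomial (Fin n) A
  let : Algebra P S := φ.toRingHom.toAlgebra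
  have : IsScalarTower A P S := .of_algebraMap_eq fun a => (φ.commutes a).symm
  obtain ⟨-, N₀, _, _, _, _, l₀, _, _⟩ := hpoly n φ hφ fun t x => Algebra.smul_def t x
  let y := q.comap φ.toRingHom
  -- the relations of `S` near `y` are finitely generated
  let lS := LocalizedModule.mkLinearMap y.primeCompl S
  obtain ⟨⟨x₁, s₁⟩, hx₁⟩ := IsLocalizedModule.surj y.primeCompl l₀ (lS 1)
  let g : P →ₗ[P] N₀ := LinearMap.toSpanSingleton P N₀ x₁
  have hker : ∃ G : Finset P, (∀ t ∈ G, φ t = 0) ∧
      ∀ t, φ t = 0 → ∃ s ∉ y, s * t ∈ Ideal.span (G : Set P) := by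
    let Py := Localization.AtPrime y
    have : Module.FinitePresentation Py (LocalizedModule y.primeCompl S) :=
      FinitePresentation.of_isBaseChange l₀ ((isLocalizedModule_iff_isBaseChange y.primeCompl Py _).mp ‹_›)
    let f : Py →ₗ[Py] LocalizedModule y.primeCompl S := LinearMap.toSpanSingleton Py _ (lS 1)
    have hf : Function.Surjective f := fun z => by
      induction z using LocalizedModule.induction_on with
      | _ s u =>
        obtain ⟨t, rfl⟩ := hφ s
        refine ⟨Localization.mk t u, ?_⟩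
        show (Localization.mk t u : Py) • (LocalizedModule.mk (1 : S) 1 : LocalizedModule y.primeCompl S) = _
        rw [LocalizedModule.mk_smul_mk, mul_one, Algebra.smul_def, mul_one]
        rfl
    obtain ⟨H, hH⟩ := Module.FinitePresentation.fg_ker f hf
    have hnum : ∀ h ∈ H, ∃ t : P, φ t = 0 ∧ ∃ u : Py, IsUnit u ∧ u * h = algebraMap P Py t := by
      intro h hh
      obtain ⟨⟨t, s⟩, ht⟩ := IsLocalization.surj y.primeCompl h
      have h0 : f (algebraMap P Py t) = 0 := by
        rw [show algebraMap P Py t = algebraMap P Py s • h by rw [smul_eq_mul, mul_comm]; exact ht.symm, map_smul,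
          LinearMap.mem_ker.1 (hH.le (Submodule.subset_span hh)), smul_zero]
      have h1 : lS (φ t) = 0 := by
        rw [show φ t = t • (1 : S) from ((Algebra.smul_def t (1 : S)).trans (mul_one _)).symm, map_smul, ← algebraMap_smul Py]
        exact h0
      obtain ⟨c, hc⟩ := (IsLocalizedModule.eq_zero_iff y.primeCompl lS).1 h1
      refine ⟨c * t, ?_, algebraMap P Py c * algebraMap P Py s,
        (IsLocalization.map_units Py c).mul (IsLocalization.map_units Py s), ?_⟩
      · rw [map_mul]
        exact ((Algebra.smul_def (c : P) (φ t)).symm.trans hc)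
      · rw [map_mul, mul_assoc]
        congr 1
        rw [mul_comm]
        exact ht
    choose! num hnum0 u hu hnum1 using hnum
    refine ⟨H.image num, fun t ht => ?_, fun t ht => ?_⟩
    · obtain ⟨h, hh, rfl⟩ := Finset.mem_image.1 ht
      exact hnum0 h hh
    · have h0 : algebraMap P Py t ∈ LinearMap.ker f := by
        show algebraMap P Py t • lS 1 = 0
        rw [algebraMap_smul, ← map_smul, show t • (1 : S) = φ t from (Algebra.smul_def t (1 : S)).trans (mul_one _), ht,
          map_zero]
      rw [← hH] at h0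
      have hle : Submodule.span Py (H : Set Py) ≤ (Ideal.span ((H.image num : Finset P) : Set P)).map (algebraMap P Py) := by
        rw [Submodule.span_le]
        intro h hh
        refine (Ideal.unit_mul_mem_iff_mem _ (hu h hh)).1 ?_
        rw [hnum1 h hh]
        exact Ideal.mem_map_of_mem _ (Ideal.subset_span (Finset.mem_coe.2 (Finset.mem_image_of_mem _ hh)))
      obtain ⟨⟨a, s⟩, has⟩ := (IsLocalization.mem_map_algebraMap_iff y.primeCompl Py).1 (hle h0)
      rw [← map_mul] at has
      obtain ⟨c, hc⟩ := (IsLocalization.eq_iff_exists y.primeCompl Py).1 has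
      refine ⟨c * s, Ideal.IsPrime.mul_notMem (inferInstance : y.IsPrime) c.2 s.2, ?_⟩
      rw [mul_assoc, mul_comm (s : P) t, hc]
      exact Ideal.mul_mem_left _ _ a.2
  obtain ⟨G, hG0, hG⟩ := hker
  let I₀ := Ideal.span (G : Set P)
  let S₀ := P ⧸ I₀
  let ψ : S₀ →ₐ[A] S := Ideal.Quotient.liftₐ I₀ φ fun t ht => by
    have hle : I₀ ≤ RingHom.ker φ.toRingHom := Ideal.span_le.2 hG0
    exact hle ht
  let : Algebra S₀ (Localization.AtPrime q) := ((algebraMap S (Localization.AtPrime q)).comp ψ.toRingHom).toAlgebra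
  have : IsScalarTower A S₀ (Localization.AtPrime q) := .of_algebraMap_eq (R := A) (S := S₀) (A := Localization.AtPrime q) fun a => by
    show _ = algebraMap S _ (ψ (algebraMap A S₀ a))
    rw [AlgHom.commutes]
    exact IsScalarTower.algebraMap_apply A S _ a
  refine ⟨S₀, inferInstance, inferInstance, inferInstance, inferInstance, (q.comap ψ.toRingHom).primeCompl,
    Algebra.FinitePresentation.quotient ⟨G, rfl⟩, ⟨?_, ?_, ?_⟩⟩
  · rintro ⟨z, hz⟩
    exact IsLocalization.map_units (Localization.AtPrime q) (⟨ψ z, hz⟩ : q.primeCompl)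
  · intro z
    obtain ⟨⟨a, s⟩, has⟩ := IsLocalization.surj q.primeCompl z
    obtain ⟨t, rfl⟩ := hφ a
    obtain ⟨⟨s, hs⟩, rfl⟩ : ∃ s' : {s' : P // φ s' ∈ q.primeCompl}, (⟨φ s'.1, s'.2⟩ : q.primeCompl) = s := by
      obtain ⟨s', hs'⟩ := hφ s.1
      exact ⟨⟨s', hs' ▸ s.2⟩, Subtype.ext hs'⟩
    exact ⟨⟨Ideal.Quotient.mk I₀ t, ⟨Ideal.Quotient.mk I₀ s, hs⟩⟩, has⟩
  · intro a b hab
    obtain ⟨c, hc⟩ := (IsLocalization.eq_iff_exists q.primeCompl (Localization.AtPrime q)).1
      (show algebraMap S (Localization.AtPrime q) (ψ a) = algebraMap S _ (ψ b) from hab)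
    obtain ⟨a, rfl⟩ := Ideal.Quotient.mk_surjective a
    obtain ⟨b, rfl⟩ := Ideal.Quotient.mk_surjective b
    obtain ⟨c', hc'⟩ := hφ c.1
    obtain ⟨s, hs, hst⟩ := hG (c' * (a - b)) (by
      rw [map_mul, map_sub, hc', mul_sub, sub_eq_zero]
      exact hc)
    refine ⟨⟨Ideal.Quotient.mk I₀ (s * c'), fun h' => ?_⟩, ?_⟩
    · have h2 : φ s * φ c' ∈ q := by rw [← map_mul]; exact h'
      exact ((‹q.IsPrime›.mem_or_mem h2).elim hs fun h3 => c.2 (hc' ▸ h3))
    · show Ideal.Quotient.mk I₀ (s * c') * Ideal.Quotient.mk I₀ a = Ideal.Quotient.mk I₀ (s * c') * Ideal.Quotient.mk I₀ b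
      rw [← map_mul, ← map_mul, Ideal.Quotient.eq]
      have : s * c' * a - s * c' * b = s * (c' * (a - b)) := by ring
      rw [this]
      exact hst

end Groth.Agent.RGCore
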