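import Groth.Agent.RGCore.FlatAtPoint

/-!
Detection of elements of `Z ⊗ N` at the points of the relative assassin of `N`, and specialisation of the
relative assassin.
-/

set_option autoImplicit false
set_option linter.unusedSectionVars false

universe u

open TensorProduct

namespace Groth.Agent.RGCore

section FiniteType

variable {A S : Type u} [CommRing A] [CommRing S] [Algebra A S] [Algebra.FiniteType A S]
  {N : Type u} [AddCommGroup N] [Module A N] [Module S N] [IsScalarTower A S N] [Module.Finite S N]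

/-- An element of the fibre which dies at the associated points of the fibre below a point dies at the point. -/
theorem fibre_killed_of_assassins (p : Ideal A) [p.IsPrime] (q : Ideal S) [q.IsPrime]
    (w : p.ResidueField ⊗[A] N)
    (h : ∀ (q' : Ideal S) [q'.IsPrime], q' ≤ q → q'.LiesOver p → FibAss p N q' →
      ∃ t ∉ q', ((LinearMap.lsmul S N t).restrictScalars A).lTensor p.ResidueField w = 0) :
    ∃ t ∉ q, ((LinearMap.lsmul S N t).restrictScalars A).lTensor p.ResidueField w = 0 := by
  classical
  have hden : ∀ w : p.ResidueField ⊗[A] N, ∃ r ∉ p, ∃ m : N, r • w = (1 : p.ResidueField) ⊗ₜ[A] m := by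
    intro w
    induction w with
    | zero => exact ⟨1, fun h1 => ‹p.IsPrime›.ne_top ((Ideal.eq_top_iff_one p).2 h1), 0, by simp⟩
    | add a b ha hb =>
      obtain ⟨r, hr, m, hm⟩ := ha
      obtain ⟨r', hr', m', hm'⟩ := hb
      refine ⟨r * r', Ideal.IsPrime.mul_notMem ‹_› hr hr', r' • m + r • m', ?_⟩
      rw [smul_add, tmul_add, tmul_smul, tmul_smul, ← hm, ← hm', smul_smul, smul_smul, mul_comm r' r]
    | tmul c x =>
      obtain ⟨c₀, rfl⟩ := IsLocalRing.residue_surjective (R := Localization.AtPrime p) c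
      obtain ⟨⟨b, s⟩, hbs⟩ := IsLocalization.surj p.primeCompl c₀
      refine ⟨s, s.2, b • x, ?_⟩
      rw [tmul_smul, smul_tmul', smul_tmul', Algebra.smul_def, Algebra.smul_def, mul_one, mul_comm]
      congr 1
      have h1 := congr(IsLocalRing.residue (Localization.AtPrime p) $hbs)
      rw [map_mul] at h1
      exact h1
  obtain ⟨r, hr, m, hm⟩ := hden w
  let I := WeakAss.annEl S (FlatCA.toFiberMod p (S := S) N m)
  have hI : ∀ t : S, t ∈ I ↔ ((LinearMap.lsmul S N t).restrictScalars A).lTensor p.ResidueField w = 0 := by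
    intro t
    have hunit : ∀ (b : A), b ∉ p → ∀ z : p.ResidueField ⊗[A] N, b • z = 0 → z = 0 := fun b hb z hz => by
      rw [← algebraMap_smul p.ResidueField b z, smul_eq_zero] at hz
      exact hz.resolve_left fun h0 => hb (Ideal.algebraMap_residueField_eq_zero.1 h0)
    have h1 : ((LinearMap.lsmul S N t).restrictScalars A).lTensor p.ResidueField w = 0 ↔
        (1 : p.ResidueField) ⊗ₜ[A] (t • m) = 0 := by
      have h2 : r • ((LinearMap.lsmul S N t).restrictScalars A).lTensor p.ResidueField w =
          (1 : p.ResidueField) ⊗ₜ[A] (t • m) := by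
        rw [← map_smul, hm]
        rfl
      rw [← h2]
      exact ⟨fun h0 => by rw [h0, smul_zero], hunit r hr _⟩
    rw [h1, annEl_toFiberMod]
    constructor
    · rintro ⟨b, hb, hmem⟩
      refine hunit b hb _ ?_
      rw [← tmul_smul]
      generalize b • t • m = z at hmem
      induction hmem using Submodule.smul_induction_on' with
      | smul a ha z _ =>
        rw [tmul_smul, smul_tmul', Algebra.smul_def, Ideal.algebraMap_residueField_eq_zero.2 ha, zero_mul, zero_tmul]
      | add x _ z _ hx hz => rw [tmul_add, hx, hz, add_zero]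
    · intro h0
      obtain ⟨b, hb, hbX⟩ := exists_smul_tmul_eq_zero p (t • m) h0
      refine ⟨b, hb, mem_smul_top_of_tmul_one p _ ?_⟩
      rw [← smul_tmul']
      refine hbX (A ⧸ p) 1 fun a ha => ?_
      rw [Algebra.smul_def, Ideal.Quotient.algebraMap_eq, Ideal.Quotient.eq_zero_iff_mem.2 ha, zero_mul]
  by_contra hcon
  have hIq : I ≤ q := fun t ht => by
    by_contra htq
    exact hcon ⟨t, htq, (hI t).1 ht⟩
  obtain ⟨Q, hQ, hQq⟩ := Ideal.exists_minimalPrimes_le hIq
  have := hQ.1.1
  have hpow : ∀ a ∈ Q, ∃ k : ℕ, ∃ t ∉ Q, t * a ^ k ∈ I := fun a ha => by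
    obtain ⟨t, ht, k, hk⟩ := WeakAss.exists_mul_pow_mem hQ ha
    exact ⟨k, t, ht, hk⟩
  have hfib : FibAss p N Q := fibAss_of_minimal p Q m
    (fun t b hb hmem => hQ.1.2 ((annEl_toFiberMod p m t).2 ⟨b, hb, hmem⟩))
    (fun a ha => by
      obtain ⟨k, t, ht, hmem⟩ := hpow a ha
      obtain ⟨b, hb, hb'⟩ := (annEl_toFiberMod p m _).1 hmem
      exact ⟨k, t, ht, b, hb, hb'⟩)
  have hover : Q.LiesOver p := by
    refine ⟨le_antisymm (fun a ha => ?_) fun a ha => ?_⟩
    · refine hQ.1.2 ((annEl_toFiberMod p m _).2 ⟨1, fun h1 => ‹p.IsPrime›.ne_top ((Ideal.eq_top_iff_one p).2 h1), ?_⟩)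
      rw [one_smul, algebraMap_smul]
      exact Submodule.smul_mem_smul ha Submodule.mem_top
    · by_contra hap
      obtain ⟨k, t, ht, hmem⟩ := hpow (algebraMap A S a) ha
      obtain ⟨b, hb, hb'⟩ := (annEl_toFiberMod p m _).1 hmem
      refine ht (hQ.1.2 ((annEl_toFiberMod p m _).2 ⟨b * a ^ k, Ideal.IsPrime.mul_notMem ‹_› hb
        (fun h' => hap (‹p.IsPrime›.mem_of_pow_mem k h')), ?_⟩))
      rw [mul_comm t, mul_smul (algebraMap A S a ^ k), ← map_pow, algebraMap_smul, ← mul_smul] at hb'
      exact hb'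
  obtain ⟨t, ht, htw⟩ := h Q hQq hover hfib
  exact ht (hQ.1.2 ((hI t).2 htw))

/-- At a point of flatness: an element of `Z ⊗ N` which dies at the associated points of the fibre below the point
dies at the point. -/
theorem killed_of_assassins (p : Ideal A) [p.IsPrime] (q : Ideal S) [q.IsPrime] [q.LiesOver p]
    (hflat : Module.Flat A (LocalizedModule q.primeCompl N)) (Z : Type u) [AddCommGroup Z] [Module A Z]
    (w : Z ⊗[A] N)
    (h : ∀ (q' : Ideal S) [q'.IsPrime], q' ≤ q → q'.LiesOver p → FibAss p N q' →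
      ∃ t ∉ q', ((LinearMap.lsmul S N t).restrictScalars A).lTensor Z w = 0) :
    ∃ t ∉ q, ((LinearMap.lsmul S N t).restrictScalars A).lTensor Z w = 0 := by
  classical
  let F : Set (PrimeSpectrum S) := {Q | Q.asIdeal ≤ q ∧ Q.asIdeal.LiesOver p ∧ FibAss p N Q.asIdeal}
  have : IsNoetherianRing (p.Fiber S) := Algebra.FiniteType.isNoetherianRing p.ResidueField _
  have : Module.Finite (p.Fiber S) (FlatCA.fiberMod p S N) :=
    letI := Algebra.TensorProduct.rightAlgebra (R := A) (A := p.ResidueField) (B := S)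
    inferInstanceAs (Module.Finite (p.Fiber S) ((p.Fiber S) ⊗[S] N))
  have hfin : (FlatCA.ass S (FlatCA.fiberMod p S N)).Finite := by
    rw [AssFiber.ass_fiberMod_eq]
    exact ((associatedPrimes.finite (p.Fiber S) (FlatCA.fiberMod p S N)).subset
      fun I hI => (mem_associatedPrimes_iff_mem_ass I).2 hI).image _
  have : Finite F := by
    refine Set.Finite.to_subtype (Set.Finite.of_finite_image (f := PrimeSpectrum.asIdeal) (hfin.subset ?_) ?_)
    · rintro _ ⟨Q, ⟨-, -, hQ⟩, rfl⟩
      exact (fibAss_iff_mem_ass p Q.asIdeal).1 hQ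
    · exact fun _ _ _ _ hab => PrimeSpectrum.ext hab
  have : Fintype F := Fintype.ofFinite F
  have : ∀ i : F, Module.Flat A (LocalizedModule i.1.asIdeal.primeCompl N) := fun i => flatAt_of_le N i.2.1 hflat
  let M := (i : F) → LocalizedModule i.1.asIdeal.primeCompl N
  have : Module.Flat A M := Module.Flat.of_linearEquiv
    (DFinsupp.linearEquivFunOnFintype (R := A) (M := fun i : F => LocalizedModule i.1.asIdeal.primeCompl N)).symm
  let u : N →ₗ[S] M := LinearMap.pi fun i => LocalizedModule.mkLinearMap i.1.asIdeal.primeCompl N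
  have hproj : ∀ (K : Type u) [AddCommGroup K] [Module A K] (x : K ⊗[A] N),
      (u.restrictScalars A).lTensor K x = 0 ↔ ∀ i : F,
        ((LocalizedModule.mkLinearMap i.1.asIdeal.primeCompl N).restrictScalars A).lTensor K x = 0 := by
    intro K _ _ x
    have key : ∀ i, TensorProduct.piRight A A K _ ((u.restrictScalars A).lTensor K x) i =
        ((LocalizedModule.mkLinearMap i.1.asIdeal.primeCompl N).restrictScalars A).lTensor K x := fun i => by
      induction x with
      | zero => simp
      | add a b ha hb => simp only [map_add, Pi.add_apply, ha, hb]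
      | tmul c n => simp [u, M]
    constructor
    · intro h0 i
      rw [← key, h0, map_zero]
      rfl
    · intro h0
      apply (TensorProduct.piRight A A K _).injective
      rw [map_zero]
      funext i
      rw [key, h0]
      rfl
  have hinj : ∀ x : p.ResidueField ⊗[A] N, (u.restrictScalars A).lTensor p.ResidueField x = 0 →
      ∃ t ∉ q, ((LinearMap.lsmul S N t).restrictScalars A).lTensor p.ResidueField x = 0 := fun x hx =>
    fibre_killed_of_assassins p q x fun q' _ hle hover hfib =>
      exists_smul_eq_zero_of_lTensor q'.primeCompl _ x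
        ((hproj _ x).1 hx ⟨⟨q', inferInstance⟩, hle, hover, hfib⟩)
  obtain ⟨-, huniv, -, -⟩ := finite_at p q u hinj
  let lN := LocalizedModule.mkLinearMap q.primeCompl N
  let lM := LocalizedModule.mkLinearMap q.primeCompl M
  have hw : (u.restrictScalars A).lTensor Z w = 0 := (hproj Z w).2 fun i => by
    obtain ⟨t, ht, htw⟩ := h i.1.asIdeal i.2.1 i.2.2.1 i.2.2.2
    let l := LocalizedModule.mkLinearMap i.1.asIdeal.primeCompl N
    have h1 : ((LinearMap.lsmul S _ t).restrictScalars A).lTensor Z ((l.restrictScalars A).lTensor Z w) = 0 := by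
      rw [← lTensor_lsmul_map, htw, map_zero]
    have hbij : Function.Bijective fun z : LocalizedModule i.1.asIdeal.primeCompl N => (t : S) • z :=
      (Module.End.isUnit_iff _).1 (IsLocalizedModule.map_units l (⟨t, ht⟩ : i.1.asIdeal.primeCompl))
    exact (LinearEquiv.lTensor Z (LinearEquiv.ofBijective ((LinearMap.lsmul S _ t).restrictScalars A)
      hbij)).injective (h1.trans (map_zero _).symm)
  refine exists_smul_eq_zero_of_lTensor q.primeCompl lN w (huniv Z ?_)
  rw [map_zero, ← LinearMap.lTensor_comp_apply]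
  have : ((IsLocalizedModule.map q.primeCompl lN lM u).restrictScalars A) ∘ₗ (lN.restrictScalars A) =
      (lM.restrictScalars A) ∘ₗ (u.restrictScalars A) :=
    LinearMap.ext fun x => IsLocalizedModule.map_apply _ lN lM u x
  rw [this, LinearMap.lTensor_comp_apply, hw, map_zero]

/-- A point of the relative assassin which specialises to the fibre at `p`, in the flat locus, specialises to a
point of the relative assassin there. -/
theorem exists_assassin_ge (p : Ideal A) [p.IsPrime] (t : Ideal S) [t.IsPrime] [t.LiesOver p]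
    (hflat : Module.Flat A (LocalizedModule t.primeCompl N)) (p' : Ideal A) [p'.IsPrime]
    (q' : Ideal S) [q'.IsPrime] (hle : q' ≤ t) (hass : FibAss p' N q') :
    ∃ (q : Ideal S) (_ : q.IsPrime), q' ≤ q ∧ q ≤ t ∧ q.LiesOver p ∧ FibAss p N q := by
  by_contra hcon
  obtain ⟨m, hm⟩ := hass
  have hiff : ∀ s : S, s ∈ q' ↔
      ((LinearMap.lsmul S N s).restrictScalars A).lTensor p'.ResidueField ((1 : p'.ResidueField) ⊗ₜ[A] m) = 0 := by
    intro s
    rw [hm, LinearMap.lTensor_tmul]
    show _ ↔ (1 : p'.ResidueField) ⊗ₜ[A] (s • m) = 0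
    constructor
    · rintro ⟨b, hb, hmem⟩
      have h0 : b • ((1 : p'.ResidueField) ⊗ₜ[A] (s • m)) = 0 := by
        rw [← tmul_smul]
        generalize b • s • m = z at hmem
        induction hmem using Submodule.smul_induction_on' with
        | smul a ha z _ =>
          rw [tmul_smul, smul_tmul', Algebra.smul_def, Ideal.algebraMap_residueField_eq_zero.2 ha, zero_mul, zero_tmul]
        | add x _ z _ hx hz => rw [tmul_add, hx, hz, add_zero]
      rw [← algebraMap_smul p'.ResidueField b, smul_eq_zero] at h0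
      exact h0.resolve_left fun h' => hb (Ideal.algebraMap_residueField_eq_zero.1 h')
    · intro h0
      obtain ⟨b, hb, hbX⟩ := exists_smul_tmul_eq_zero p' (s • m) h0
      refine ⟨b, hb, mem_smul_top_of_tmul_one p' _ ?_⟩
      rw [← smul_tmul']
      refine hbX (A ⧸ p') 1 fun a ha => ?_
      rw [Algebra.smul_def, Ideal.Quotient.algebraMap_eq, Ideal.Quotient.eq_zero_iff_mem.2 ha, zero_mul]
  obtain ⟨s, hs, hsw⟩ := killed_of_assassins p t hflat p'.ResidueField ((1 : p'.ResidueField) ⊗ₜ[A] m)
    fun q _ hqt hqp hqass => by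
      obtain ⟨s, hs, hsq⟩ := SetLike.not_le_iff_exists.1 fun h : q' ≤ q => hcon ⟨q, inferInstance, h, hqt, hqp, hqass⟩
      exact ⟨s, hsq, (hiff s).1 hs⟩
  exact hs (hle ((hiff s).2 hsw))

/-- Flat modules: an element of `Z ⊗ N` vanishing at specialisations of all the points of the relative assassin
vanishes. -/
theorem eq_zero_of_assassins [Module.Flat A N] (Z : Type u) [AddCommGroup Z] [Module A Z] (w : Z ⊗[A] N)
    (h : ∀ (Q : Ideal S) [Q.IsPrime], Q.under A ∈ FlatCA.weakAss A Z → FibAss (Q.under A) N Q →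
      ∃ q : Ideal S, Q ≤ q ∧ ∃ t ∉ q, ((LinearMap.lsmul S N t).restrictScalars A).lTensor Z w = 0) : w = 0 := by
  by_contra hw
  let c := TensorProduct.comm A Z N
  have hcw : c w ≠ 0 := (map_ne_zero_iff c c.injective).2 hw
  have hann : WeakAss.annEl S (c w) ≠ ⊤ := fun hc => hcw (by
    have h1 : (1 : S) ∈ WeakAss.annEl S (c w) := hc ▸ Submodule.mem_top
    exact (one_smul S (c w)).symm.trans (WeakAss.mem_annEl.1 h1))
  obtain ⟨Q, hQ⟩ := Ideal.nonempty_minimalPrimes hann
  have := hQ.1.1
  obtain ⟨hZ, hass⟩ := (mem_weakAss_tensor_iff_of_flatAt N (Q.under A) Q (flat_localizedModule _ N) Z).1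
    ⟨c w, hQ⟩
  obtain ⟨q, hQq, t, ht, htw⟩ := h Q hZ ((fibAss_iff_fiberIdeal (Q.under A) Q).2 hass)
  refine ht (hQq (hQ.1.2 (WeakAss.mem_annEl.2 ?_)))
  have hnat : ∀ x : Z ⊗[A] N, t • c x = c (((LinearMap.lsmul S N t).restrictScalars A).lTensor Z x) := by
    intro x
    induction x with
    | zero => simp
    | add a b ha hb => simp only [map_add, smul_add, ha, hb]
    | tmul z n => simp [c, smul_tmul']
  rw [hnat, htw, map_zero]

end FiniteType

end Groth.Agent.RGCore
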