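import Groth.Agent.RGCore.PtDescend
import Groth.Agent.FlatModel.Open

/-!
Noetherian models of a finitely presented module over a polynomial ring which is flat over the base at a
prime.
-/

set_option autoImplicit false

namespace Groth.Agent.RGCore

open MvPolynomial TensorProduct Groth.Agent.FlatModel

universe u

section BaseChange

variable {a n : ℕ} {R₁ : Type u} [CommRing R₁] (K₁ : Submodule (MvPolynomial (Fin n) R₁) (V a n R₁))
  {R : Type u} [CommRing R] [Algebra R₁ R]
  {M : Type u} [AddCommGroup M] [Module R M] [Module (MvPolynomial (Fin n) R) M]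
  [IsScalarTower R (MvPolynomial (Fin n) R) M]

theorem mapL_smul_poly (p : MvPolynomial (Fin n) R₁) (v : V a n R₁) :
    mapL R (p • v) = MvPolynomial.map (algebraMap R₁ R) p • mapL R v := mapV_smul _ p v

/-- A presented module is the base change of the module presented over a smaller base. -/
theorem exists_baseChange_equiv (π : V a n R →ₗ[MvPolynomial (Fin n) R] M) (hπ : Function.Surjective π)
    (hker : LinearMap.ker π = KK K₁ R) :
    ∃ e : R ⊗[R₁] (V a n R₁ ⧸ K₁) ≃ₗ[R] M,
      ∀ (p : MvPolynomial (Fin n) R₁) (x : V a n R₁ ⧸ K₁),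
        e (1 ⊗ₜ (p • x)) = MvPolynomial.map (algebraMap R₁ R) p • e (1 ⊗ₜ x) := by
  let : Module R₁ M := Module.compHom M (algebraMap R₁ R)
  have : IsScalarTower R₁ R M := IsScalarTower.of_algebraMap_smul fun _ _ => rfl
  let q : V a n R₁ →ₗ[R₁] V a n R₁ ⧸ K₁ := K₁.mkQ.restrictScalars R₁
  let f₀ : V a n R₁ →ₗ[R₁] M :=
    { toFun := fun v => π (mapL R v)
      map_add' := fun v w => by rw [map_add, map_add]
      map_smul' := fun r v => by
        rw [RingHom.id_apply, map_smul, ← algebraMap_smul R r (mapL R v), LinearMap.map_smul_of_tower]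
        rfl }
  have hK : K₁.restrictScalars R₁ ≤ LinearMap.ker f₀ := fun w hw => by
    show π (mapL R w) = 0
    rw [← LinearMap.mem_ker, hker]
    exact mapL_mem_KK K₁ hw
  let f₁ : (V a n R₁ ⧸ K₁.restrictScalars R₁) →ₗ[R₁] M := Submodule.liftQ _ f₀ hK
  let f : (V a n R₁ ⧸ K₁) →ₗ[R₁] M :=
    f₁ ∘ₗ (Submodule.Quotient.restrictScalarsEquiv R₁ K₁).symm.toLinearMap
  have hf : ∀ v, f (K₁.mkQ v) = π (mapL R v) := fun v => rfl
  let F : R ⊗[R₁] (V a n R₁ ⧸ K₁) →ₗ[R] M := f.liftBaseChange R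
  have hF : ∀ v, F (1 ⊗ₜ K₁.mkQ v) = π (mapL R v) := fun v => by
    simp only [F, LinearMap.liftBaseChange_tmul, one_smul]
    exact hf v
  -- the inverse
  let G : V a n R →ₗ[R] R ⊗[R₁] (V a n R₁ ⧸ K₁) :=
    (B a n R).constr R fun i => 1 ⊗ₜ K₁.mkQ (B a n R₁ i)
  have hG : ∀ v, G (mapL R v) = 1 ⊗ₜ K₁.mkQ v := by
    intro v
    have : G.restrictScalars R₁ ∘ₗ mapL R = (TensorProduct.mk R₁ R _ 1) ∘ₗ q := by
      refine (B a n R₁).ext fun i => ?_
      simp [G, q, mapL_B]
    exact LinearMap.congr_fun this v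
  have hGK : ∀ x ∈ KK K₁ R, G x = 0 := by
    intro x hx
    suffices ∀ c : MvPolynomial (Fin n) R, G (c • x) = 0 by simpa using this 1
    induction hx using Submodule.span_induction with
    | mem y hy =>
      obtain ⟨w, hw, rfl⟩ := hy
      intro c
      induction c using MvPolynomial.induction_on' with
      | monomial d s =>
        have : (monomial d s : MvPolynomial (Fin n) R) • mapV (algebraMap R₁ R) w =
            s • mapL R ((monomial d 1 : MvPolynomial (Fin n) R₁) • w) := by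
          rw [mapL_smul_poly, MvPolynomial.map_monomial, map_one, ← smul_assoc, MvPolynomial.smul_monomial,
            smul_eq_mul, mul_one]
          rfl
        rw [this, map_smul, hG, Submodule.mkQ_apply, (Submodule.Quotient.mk_eq_zero K₁).2 (K₁.smul_mem _ hw),
          tmul_zero, smul_zero]
      | add p q hp hq => rw [add_smul, map_add, hp, hq, add_zero]
    | zero => simp
    | add y z _ _ hy hz => intro c; rw [smul_add, map_add, hy, hz, add_zero]
    | smul b y _ hy => intro c; rw [smul_smul]; exact hy _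
  have hsurj : Function.Surjective F := by
    intro m
    obtain ⟨v, rfl⟩ := hπ m
    refine ⟨G v, ?_⟩
    have : F ∘ₗ G = π.restrictScalars R := by
      refine (B a n R).ext fun i => ?_
      simp only [LinearMap.comp_apply, G, Module.Basis.constr_basis, hF, mapL_B]
      rfl
    exact LinearMap.congr_fun this v
  have hinj : Function.Injective F := by
    rw [injective_iff_map_eq_zero]
    intro z hz
    obtain ⟨v, rfl⟩ : ∃ v, G v = z := by
      clear hz
      induction z with
      | zero => exact ⟨0, map_zero G⟩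
      | tmul r x =>
        obtain ⟨w, rfl⟩ := K₁.mkQ_surjective x
        exact ⟨r • mapL R w, by rw [map_smul, hG, smul_tmul', smul_eq_mul, mul_one]⟩
      | add y z hy hz =>
        obtain ⟨v, rfl⟩ := hy
        obtain ⟨w, rfl⟩ := hz
        exact ⟨v + w, map_add _ _ _⟩
    refine hGK v ?_
    rw [← hker, LinearMap.mem_ker]
    have : F ∘ₗ G = π.restrictScalars R := by
      refine (B a n R).ext fun i => ?_
      simp only [LinearMap.comp_apply, G, Module.Basis.constr_basis, hF, mapL_B]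
      rfl
    rw [← hz]
    exact (LinearMap.congr_fun this v).symm
  refine ⟨LinearEquiv.ofBijective F ⟨hinj, hsurj⟩, fun p x => ?_⟩
  obtain ⟨w, rfl⟩ := K₁.mkQ_surjective x
  rw [← map_smul]
  show F (1 ⊗ₜ K₁.mkQ (p • w)) = _ • F (1 ⊗ₜ K₁.mkQ w)
  rw [hF, hF, mapL_smul_poly, map_smul]

end BaseChange

section Model

variable {R : Type u} [CommRing R] {n : ℕ}

/-- The extension of an ideal to a Noetherian ring is generated by images of finitely many of its elements. -/
theorem exists_finset_map_eq {A B : Type u} [CommRing A] [CommRing B] [IsNoetherianRing B] (φ : A →+* B)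
    (I : Ideal A) : ∃ T : Finset A, (∀ x ∈ T, x ∈ I) ∧ I.map φ = (Ideal.span (T : Set A)).map φ := by
  classical
  have hfg : (Submodule.span B (φ '' (I : Set A))).FG := IsNoetherian.noetherian _
  obtain ⟨T, hT, hTs⟩ := (Submodule.fg_span_iff_fg_span_finset_subset _).1 hfg
  choose! g hgI hg using fun x (hx : x ∈ T) => hT hx
  refine ⟨T.image g, fun x hx => ?_, ?_⟩
  · obtain ⟨y, hy, rfl⟩ := Finset.mem_image.1 hx
    exact hgI y hy
  · refine le_antisymm ?_ (Ideal.map_mono (Ideal.span_le.2 fun x hx => ?_))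
    · show Submodule.span B (φ '' (I : Set A)) ≤ _
      rw [hTs, Submodule.span_le]
      intro y hy
      rw [SetLike.mem_coe, ← hg y hy]
      exact Ideal.mem_map_of_mem φ (Ideal.subset_span (Finset.mem_coe.2 (Finset.mem_image_of_mem g hy)))
    · obtain ⟨y, hy, rfl⟩ := Finset.mem_image.1 hx
      exact hgI y hy

/-- Finitely many elements of a prime generate it modulo the prime below, up to units there. -/
theorem exists_finset_generate (Q : Ideal (MvPolynomial (Fin n) R)) [Q.IsPrime] (p : Ideal R) [p.IsPrime]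
    (hp : Q.comap C = p) :
    ∃ T : Finset (MvPolynomial (Fin n) R), (∀ x ∈ T, x ∈ Q) ∧
      ∀ x ∈ Q, ∃ s ∉ p, C s * x ∈ Ideal.span (T : Set (MvPolynomial (Fin n) R)) ⊔ p.map C := by
  classical
  let φ : MvPolynomial (Fin n) R →+* MvPolynomial (Fin n) p.ResidueField :=
    MvPolynomial.map (algebraMap R p.ResidueField)
  obtain ⟨T, hTQ, hT⟩ := exists_finset_map_eq φ Q
  refine ⟨T, hTQ, fun x hx => ?_⟩
  have hφx : φ x ∈ Ideal.span (φ '' (T : Set (MvPolynomial (Fin n) R))) := by
    rw [← Ideal.map_span, ← hT]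
    exact Ideal.mem_map_of_mem φ hx
  obtain ⟨m, c, y, hc⟩ := Submodule.mem_span_set'.1 hφx
  choose t ht hty using fun i => (y i).2
  -- every coefficient vector becomes integral after multiplication by an element outside `p`
  have hden : ∀ b : MvPolynomial (Fin n) p.ResidueField, ∃ s ∉ p, ∃ b', φ b' = C (algebraMap R p.ResidueField s) * b := by
    intro b
    induction b using MvPolynomial.induction_on' with
    | monomial d r =>
      obtain ⟨r₀, rfl⟩ := IsLocalRing.residue_surjective (R := Localization.AtPrime p) r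
      obtain ⟨⟨b₀, s⟩, hbs⟩ := IsLocalization.surj p.primeCompl r₀
      refine ⟨s, s.2, monomial d b₀, ?_⟩
      have := congr(IsLocalRing.residue (Localization.AtPrime p) $hbs)
      rw [map_mul] at this
      simp only [φ, MvPolynomial.map_monomial, MvPolynomial.C_mul_monomial]
      congr 1
      rw [mul_comm]
      exact this.symm
    | add b b' hb hb' =>
      obtain ⟨s, hs, u, hu⟩ := hb
      obtain ⟨s', hs', v, hv⟩ := hb'
      refine ⟨s * s', Ideal.IsPrime.mul_notMem ‹_› hs hs', C s' * u + C s * v, ?_⟩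
      simp only [map_add, map_mul, hu, hv, φ, MvPolynomial.map_C]
      ring
  choose s hs b hb using fun i => hden (c i)
  refine ⟨∏ i, s i, fun h => ?_, ?_⟩
  · obtain ⟨i, -, hi⟩ := (Ideal.IsPrime.prod_mem_iff (hp := ‹p.IsPrime›)).1 h
    exact hs i hi
  let d := C (∏ i, s i) * x - ∑ i, C (∏ j ∈ Finset.univ.erase i, s j) * b i * t i
  have hd : φ d = 0 := by
    simp only [d, map_sub, map_mul, map_sum, hb, hty, sub_eq_zero]
    rw [← hc, Finset.mul_sum]
    refine Finset.sum_congr rfl fun i _ => ?_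
    simp only [φ, MvPolynomial.map_C]
    rw [smul_eq_mul, ← Finset.prod_erase_mul _ _ (Finset.mem_univ i), map_mul, map_mul]
    ring
  have hdp : d ∈ p.map C := by
    rw [MvPolynomial.mem_map_C_iff]
    intro k
    have := congr(MvPolynomial.coeff k $hd)
    simp only [φ, MvPolynomial.coeff_map, MvPolynomial.coeff_zero] at this
    exact Ideal.algebraMap_residueField_eq_zero.1 this
  have hsum : ∑ i, C (∏ j ∈ Finset.univ.erase i, s j) * b i * t i ∈
      Ideal.span (T : Set (MvPolynomial (Fin n) R)) :=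
    Ideal.sum_mem _ fun i _ => Ideal.mul_mem_left _ _ (Ideal.subset_span (ht i))
  have := add_mem (Submodule.mem_sup_left (T := p.map C) hsum) (Submodule.mem_sup_right hdp)
  rwa [add_sub_cancel] at this

/-- A stage at which the relations are flat at the prime gives a model. -/
theorem model_of_stage {a : ℕ} {R₀ : Type u} [CommRing R₀] [Algebra R₀ R]
    (K₀ : Submodule (MvPolynomial (Fin n) R₀) (V a n R₀)) (Q : Ideal (MvPolynomial (Fin n) R)) [Q.IsPrime]
    {R₃ : Type u} [CommRing R₃] [IsNoetherianRing R₃] [Algebra R₀ R₃] [Algebra R₃ R] [IsScalarTower R₀ R₃ R]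
    {M : Type u} [AddCommGroup M] [Module R M] [Module (MvPolynomial (Fin n) R) M]
    [IsScalarTower R (MvPolynomial (Fin n) R) M]
    (π : V a n R →ₗ[MvPolynomial (Fin n) R] M) (hπ : Function.Surjective π) (hker : LinearMap.ker π = KK K₀ R)
    (hW : PtFlat K₀ R₃ (Q.comap (MvPolynomial.map (algebraMap R₃ R))).primeCompl)
    (T : Finset (MvPolynomial (Fin n) R)) (hTQ : ∀ x ∈ T, x ∈ Q)
    (hTR : ∀ x ∈ T, x ∈ Set.range (MvPolynomial.map (algebraMap R₃ R)))
    (hT : ∀ x ∈ Q, ∃ s ∉ Q.comap C, C s * x ∈ Ideal.span (T : Set (MvPolynomial (Fin n) R)) ⊔ (Q.comap C).map C) :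
    ∃ (R₁ : Type u) (_ : CommRing R₁) (_ : IsNoetherianRing R₁) (_ : Algebra R₁ R)
      (M₁ : Type u) (_ : AddCommGroup M₁) (_ : Module R₁ M₁) (_ : Module (MvPolynomial (Fin n) R₁) M₁)
      (_ : IsScalarTower R₁ (MvPolynomial (Fin n) R₁) M₁) (e : R ⊗[R₁] M₁ ≃ₗ[R] M),
      Module.Finite (MvPolynomial (Fin n) R₁) M₁ ∧
      Module.Flat R₁ (LocalizedModule (Q.comap (MvPolynomial.map (algebraMap R₁ R))).primeCompl M₁) ∧
      (∀ (p : MvPolynomial (Fin n) R₁) (x : M₁),
        e (1 ⊗ₜ (p • x)) = MvPolynomial.map (algebraMap R₁ R) p • e (1 ⊗ₜ x)) ∧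
      ∀ x ∈ Q, ∃ s ∉ Q.comap C, C s * x ∈ (Q.comap (MvPolynomial.map (algebraMap R₁ R))).map
        (MvPolynomial.map (algebraMap R₁ R)) ⊔ (Q.comap C).map C := by
  let K₃ := KK K₀ R₃
  have hker₃ : LinearMap.ker π = KK K₃ R := by
    rw [hker]
    apply le_antisymm
    · refine Submodule.span_le.2 ?_
      rintro _ ⟨w, hw, rfl⟩
      refine Submodule.subset_span ⟨mapV (algebraMap R₀ R₃) w, Submodule.subset_span ⟨w, hw, rfl⟩, ?_⟩
      rw [mapV_mapV, ← IsScalarTower.algebraMap_eq]
    · refine Submodule.span_le.2 ?_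
      rintro _ ⟨w, hw, rfl⟩
      refine Submodule.span_le.2 ?_ (mapV_mem_span (algebraMap R₃ R) hw)
      rintro _ ⟨_, ⟨w, hw, rfl⟩, rfl⟩
      rw [mapV_mapV, ← IsScalarTower.algebraMap_eq]
      exact Submodule.subset_span ⟨w, hw, rfl⟩
  obtain ⟨e, he⟩ := exists_baseChange_equiv K₃ π hπ hker₃
  refine ⟨R₃, inferInstance, inferInstance, inferInstance, V a n R₃ ⧸ K₃, inferInstance, inferInstance,
    inferInstance, inferInstance, e, inferInstance, ?_, he, fun x hx => ?_⟩
  · refine (flat_localized_iff (S := MvPolynomial (Fin n) R₃)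
      (Q.comap (MvPolynomial.map (algebraMap R₃ R))).primeCompl
      (LocalizedModule.mkLinearMap _ (V a n R₃ ⧸ K₃))).2 ?_
    exact (ptFlat_iff K₀ _ K₃.mkQ K₃.mkQ_surjective K₃.ker_mkQ).1 hW
  · obtain ⟨s, hs, hsx⟩ := hT x hx
    refine ⟨s, hs, SetLike.le_def.1 (sup_le_sup_right ?_ _) hsx⟩
    rw [Ideal.span_le]
    intro t ht
    obtain ⟨u, hu⟩ := hTR t ht
    rw [← hu]
    refine Ideal.mem_map_of_mem _ ?_
    show MvPolynomial.map (algebraMap R₃ R) u ∈ Q
    rw [hu]
    exact hTQ t ht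

/-- A finitely presented module flat at a prime has a Noetherian model flat at the contracted prime,
over which the prime is extended. -/
theorem exists_model {M : Type u} [AddCommGroup M] [Module R M] [Module (MvPolynomial (Fin n) R) M]
    [IsScalarTower R (MvPolynomial (Fin n) R) M] [Module.FinitePresentation (MvPolynomial (Fin n) R) M]
    (Q : Ideal (MvPolynomial (Fin n) R)) [Q.IsPrime]
    (hflat : Module.Flat R (LocalizedModule Q.primeCompl M)) :
    ∃ (R₁ : Type u) (_ : CommRing R₁) (_ : IsNoetherianRing R₁) (_ : Algebra R₁ R)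
      (M₁ : Type u) (_ : AddCommGroup M₁) (_ : Module R₁ M₁) (_ : Module (MvPolynomial (Fin n) R₁) M₁)
      (_ : IsScalarTower R₁ (MvPolynomial (Fin n) R₁) M₁) (e : R ⊗[R₁] M₁ ≃ₗ[R] M),
      Module.Finite (MvPolynomial (Fin n) R₁) M₁ ∧
      Module.Flat R₁ (LocalizedModule (Q.comap (MvPolynomial.map (algebraMap R₁ R))).primeCompl M₁) ∧
      (∀ (p : MvPolynomial (Fin n) R₁) (x : M₁),
        e (1 ⊗ₜ (p • x)) = MvPolynomial.map (algebraMap R₁ R) p • e (1 ⊗ₜ x)) ∧
      ∀ x ∈ Q, ∃ s ∉ Q.comap C, C s * x ∈ (Q.comap (MvPolynomial.map (algebraMap R₁ R))).map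
        (MvPolynomial.map (algebraMap R₁ R)) ⊔ (Q.comap C).map C := by
  classical
  obtain ⟨a, π, hπ⟩ := Module.Finite.exists_fin' (MvPolynomial (Fin n) R) M
  obtain ⟨G, hG⟩ := Module.FinitePresentation.fg_ker π hπ
  let c : Finset R := G.biUnion fun v => Finset.univ.biUnion fun i => (v i).coeffs
  let R₀ : Subalgebra ℤ R := Algebra.adjoin ℤ (c : Set R)
  have : Algebra.FiniteType ℤ R₀ := (Subalgebra.fg_iff_finiteType R₀).1 (Subalgebra.fg_adjoin_finset c)
  have : IsNoetherianRing R₀ := Algebra.FiniteType.isNoetherianRing ℤ R₀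
  have hGdesc : ∀ v ∈ G, ∃ w : V a n R₀, mapV (algebraMap R₀ R) w = v := by
    intro v hv
    have : ∀ i, ∃ q : MvPolynomial (Fin n) R₀, MvPolynomial.map (algebraMap R₀ R) q = v i := fun i =>
      MvPolynomial.mem_range_map_iff_coeffs_subset.2 fun x hx =>
        ⟨⟨x, Algebra.subset_adjoin (Finset.mem_biUnion.2 ⟨v, hv, Finset.mem_biUnion.2 ⟨i, Finset.mem_univ _, hx⟩⟩)⟩, rfl⟩
    choose w hw using this
    exact ⟨w, funext hw⟩
  choose! lv hlv using hGdesc
  let K₀ : Submodule (MvPolynomial (Fin n) R₀) (V a n R₀) := Submodule.span _ (lv '' G)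
  have hker : LinearMap.ker π = KK K₀ R := by
    apply le_antisymm
    · rw [← hG, Submodule.span_le]
      intro v hv
      exact Submodule.subset_span ⟨lv v, Submodule.subset_span ⟨v, hv, rfl⟩, hlv v hv⟩
    · rw [KK, Submodule.span_le]
      rintro _ ⟨w, hw, rfl⟩
      refine Submodule.span_le.2 ?_ (mapV_mem_span (algebraMap R₀ R) hw)
      rintro _ ⟨w, ⟨v, hv, rfl⟩, rfl⟩
      rw [hlv v hv]
      exact hG.le (Submodule.subset_span hv)
  have hpt : PtFlat K₀ R Q.primeCompl :=
    (ptFlat_iff K₀ Q.primeCompl π hπ hker).2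
      ((flat_localized_iff Q.primeCompl (LocalizedModule.mkLinearMap Q.primeCompl M)).1 hflat)
  obtain ⟨R₁, hR₁, g₁, hg₁, hdesc⟩ := exists_ptFlat_descend K₀ Q hpt
  obtain ⟨T, hTQ, hT⟩ := exists_finset_generate Q (Q.comap C) rfl
  let cT : Finset R := T.biUnion fun x => x.coeffs
  let R₃ : Subalgebra R₀ R := R₁ ⊔ Algebra.adjoin R₀ (cT : Set R)
  have hR₃ : R₃.FG := hR₁.sup (Subalgebra.fg_adjoin_finset _)
  have : Algebra.FiniteType R₀ R₃ := (Subalgebra.fg_iff_finiteType R₃).1 hR₃
  have : IsNoetherianRing R₃ := Algebra.FiniteType.isNoetherianRing R₀ R₃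
  refine model_of_stage K₀ Q (R₃ := R₃) π hπ hker ?_ T hTQ (fun x hx => ?_) hT
  · refine (hdesc R₃ le_sup_left hR₃).mono K₀ (Submonoid.powers_le.2 ?_)
    intro h
    apply hg₁
    have h' : MvPolynomial.map (algebraMap R₃ R)
        (MvPolynomial.map (Subalgebra.inclusion (le_sup_left : R₁ ≤ R₃)).toRingHom g₁) ∈ Q := h
    rw [MvPolynomial.map_map] at h'
    exact h'
  · exact MvPolynomial.mem_range_map_iff_coeffs_subset.2 fun y hy =>
      ⟨⟨y, (le_sup_right : _ ≤ R₃) (Algebra.subset_adjoin (Finset.mem_biUnion.2 ⟨x, hx, hy⟩))⟩, rfl⟩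

end Model

end Groth.Agent.RGCore
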