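import Groth.Agent.RGCore.Content
import Groth.Agent.RGCore.Model

/-!
The content lemma at a prime where a finitely presented module over a polynomial ring is flat over the
base.
-/

set_option autoImplicit false
set_option linter.unusedSectionVars false

namespace Groth.Agent.RGCore

open MvPolynomial TensorProduct IsLocalRing

universe u

section Core

variable {R₁ R : Type u} [CommRing R₁] [CommRing R] [Algebra R₁ R] {n : ℕ}
  (Q : Ideal (MvPolynomial (Fin n) R)) [Q.IsPrime]

variable {M : Type u} [AddCommGroup M] [Module R M] [Module (MvPolynomial (Fin n) R) M]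
  [IsScalarTower R (MvPolynomial (Fin n) R) M]
  {M₁ : Type u} [AddCommGroup M₁] [Module R₁ M₁] [Module (MvPolynomial (Fin n) R₁) M₁]
  [IsScalarTower R₁ (MvPolynomial (Fin n) R₁) M₁]
  (e : R ⊗[R₁] M₁ ≃ₗ[R] M)
  (he : ∀ (p : MvPolynomial (Fin n) R₁) (x : M₁), e (1 ⊗ₜ (p • x)) = (MvPolynomial.map (σ := Fin n) (algebraMap R₁ R)) p • e (1 ⊗ₜ x))
  (hQ : ∀ x ∈ Q, ∃ s ∉ Q.comap C, C s * x ∈ (Q.comap (MvPolynomial.map (σ := Fin n) (algebraMap R₁ R))).map (MvPolynomial.map (σ := Fin n) (algebraMap R₁ R)) ⊔ (Q.comap C).map C)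

variable {R₀ B₀ A : Type u} [CommRing R₀] [CommRing B₀] [CommRing A]
  [Algebra R₁ R₀] [Algebra R₀ B₀] [Algebra R₀ A]
  [Algebra (MvPolynomial (Fin n) R₁) B₀] [Algebra R A] [Algebra R₁ B₀] [Algebra R₁ A]
  [IsScalarTower R₁ R₀ B₀] [IsScalarTower R₁ R₀ A] [IsScalarTower R₁ R A]
  [IsScalarTower R₁ (MvPolynomial (Fin n) R₁) B₀]
  [IsLocalRing R₀] [IsLocalRing B₀] [IsLocalRing A]
  [IsLocalHom (algebraMap R₀ B₀)] [IsLocalHom (algebraMap R₀ A)]
  [IsLocalization (Q.comap (MvPolynomial.map (σ := Fin n) (algebraMap R₁ R))).primeCompl B₀] [IsLocalization (Q.comap C).primeCompl A]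
  [IsLocalization ((Q.comap C).comap (algebraMap R₁ R)).primeCompl R₀]

variable (B₀ A) in
/-- The map from the polynomial ring to `B₀ ⊗ A`. -/
noncomputable def piHom : MvPolynomial (Fin n) R →+* B₀ ⊗[R₀] A :=
  MvPolynomial.eval₂Hom
    ((Algebra.TensorProduct.includeRight (R := R₀) (A := B₀) (B := A)).toRingHom.comp (algebraMap R A))
    fun i => algebraMap (MvPolynomial (Fin n) R₁) B₀ (X i) ⊗ₜ[R₀] (1 : A)

theorem piHom_C (r : R) : piHom (R₁ := R₁) (R₀ := R₀) B₀ A (C r : MvPolynomial (Fin n) R) =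
    (1 : B₀) ⊗ₜ[R₀] algebraMap R A r := by
  simp [piHom]

theorem piHom_map (u : MvPolynomial (Fin n) R₁) :
    piHom (R₁ := R₁) (R₀ := R₀) B₀ A ((MvPolynomial.map (σ := Fin n) (algebraMap R₁ R)) u) = algebraMap (MvPolynomial (Fin n) R₁) B₀ u ⊗ₜ[R₀] (1 : A) := by
  induction u using MvPolynomial.induction_on with
  | C r =>
    rw [MvPolynomial.map_C, piHom_C, ← MvPolynomial.algebraMap_eq, ← IsScalarTower.algebraMap_apply R₁ R A,
      ← IsScalarTower.algebraMap_apply R₁ (MvPolynomial (Fin n) R₁) B₀,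
      IsScalarTower.algebraMap_apply R₁ R₀ A, IsScalarTower.algebraMap_apply R₁ R₀ B₀, Algebra.algebraMap_eq_smul_one, Algebra.algebraMap_eq_smul_one (A := B₀),
      tmul_smul, smul_tmul']
  | add p q hp hq => rw [map_add, map_add, hp, hq, map_add, add_tmul]
  | mul_X p i hp =>
    rw [map_mul, map_mul, hp, MvPolynomial.map_X, map_mul]
    simp [piHom, Algebra.TensorProduct.tmul_mul_tmul]

include Q in
/-- Every element of `B₀ ⊗ A` comes from the polynomial ring up to a unit. -/
theorem exists_mul_piHom_eq (z : B₀ ⊗[R₀] A) :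
    ∃ d a : MvPolynomial (Fin n) R, IsUnit (piHom (R₁ := R₁) (R₀ := R₀) B₀ A d) ∧
      z * piHom (R₁ := R₁) (R₀ := R₀) B₀ A d = piHom (R₁ := R₁) (R₀ := R₀) B₀ A a := by
  induction z with
  | zero => exact ⟨1, 0, by simp, by simp⟩
  | tmul b c =>
    obtain ⟨⟨u, s₀⟩, hb⟩ := IsLocalization.surj (Q.comap (MvPolynomial.map (σ := Fin n) (algebraMap R₁ R))).primeCompl b
    obtain ⟨⟨r, s⟩, hc⟩ := IsLocalization.surj (Q.comap C).primeCompl c
    refine ⟨(MvPolynomial.map (σ := Fin n) (algebraMap R₁ R)) s₀.1 * C s.1, (MvPolynomial.map (σ := Fin n) (algebraMap R₁ R)) u * C r, ?_, ?_⟩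
    · rw [map_mul, piHom_map, piHom_C]
      exact ((IsLocalization.map_units B₀ s₀).map
        (Algebra.TensorProduct.includeLeft (R := R₀) (S := R₀) (A := B₀) (B := A)).toRingHom).mul
        ((IsLocalization.map_units A s).map
          (Algebra.TensorProduct.includeRight (R := R₀) (A := B₀) (B := A)).toRingHom)
    · simp only [map_mul, piHom_map, piHom_C, Algebra.TensorProduct.tmul_mul_tmul, one_mul, mul_one]
      rw [hb, hc]
  | add y z hy hz =>
    obtain ⟨d, a, hd, hda⟩ := hy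
    obtain ⟨d', a', hd', hda'⟩ := hz
    refine ⟨d * d', a * d' + a' * d, by rw [map_mul]; exact hd.mul hd', ?_⟩
    simp only [map_mul, map_add, ← hda, ← hda']
    ring

include hQ in
/-- The residue of `π t` is nonzero exactly off `Q`, and the residue ring is a domain. -/
theorem theta_piHom :
    (∀ t, theta R₀ B₀ A (piHom (R₁ := R₁) (R₀ := R₀) B₀ A t) = 0 ↔ t ∈ Q) ∧
      IsDomain (ResidueField B₀ ⊗[R₀] ResidueField A) := by
  let K := Q.ResidueField
  let res : MvPolynomial (Fin n) R →+* K := algebraMap _ K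
  have hres : ∀ x, res x = 0 ↔ x ∈ Q := fun x => Ideal.algebraMap_residueField_eq_zero
  have hCu : ∀ s : (Q.comap C).primeCompl, IsUnit ((res.comp C) s.1) := fun s =>
    isUnit_iff_ne_zero.2 fun h => s.2 ((hres _).1 h)
  have hιu : ∀ s : (Q.comap (MvPolynomial.map (σ := Fin n) (algebraMap R₁ R))).primeCompl, IsUnit ((res.comp (MvPolynomial.map (σ := Fin n) (algebraMap R₁ R))) s.1) := fun s =>
    isUnit_iff_ne_zero.2 fun h => s.2 ((hres _).1 h)
  let gA : A →+* K := IsLocalization.lift (g := res.comp C) hCu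
  let gB : B₀ →+* K := IsLocalization.lift (g := res.comp (MvPolynomial.map (σ := Fin n) (algebraMap R₁ R))) hιu
  have hgA : ∀ r, gA (algebraMap R A r) = res (C r) := fun r => IsLocalization.lift_eq hCu r
  have hgB : ∀ u, gB (algebraMap _ B₀ u) = res ((MvPolynomial.map (σ := Fin n) (algebraMap R₁ R)) u) := fun u => IsLocalization.lift_eq hιu u
  have hgA0 : ∀ a ∈ maximalIdeal A, gA a = 0 := by
    intro a ha
    obtain ⟨⟨r, s⟩, h⟩ := IsLocalization.surj (Q.comap C).primeCompl a
    have hr : r ∈ Q.comap C := by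
      by_contra hr
      exact (mem_maximalIdeal _).1 ha (isUnit_of_mul_isUnit_left
        (h.symm ▸ IsLocalization.map_units A (⟨r, hr⟩ : (Q.comap C).primeCompl) : IsUnit (a * algebraMap R A s.1)))
    have := congr(gA $h)
    rw [map_mul, hgA, hgA, (hres (C r)).2 hr, mul_eq_zero] at this
    exact this.resolve_right fun h => s.2 ((hres _).1 h)
  have hgB0 : ∀ b ∈ maximalIdeal B₀, gB b = 0 := by
    intro b hb
    obtain ⟨⟨r, s⟩, h⟩ := IsLocalization.surj (Q.comap (MvPolynomial.map (σ := Fin n) (algebraMap R₁ R))).primeCompl b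
    have hr : r ∈ Q.comap (MvPolynomial.map (σ := Fin n) (algebraMap R₁ R)) := by
      by_contra hr
      exact (mem_maximalIdeal _).1 hb (isUnit_of_mul_isUnit_left
        (h.symm ▸ IsLocalization.map_units B₀ (⟨r, hr⟩ : (Q.comap (MvPolynomial.map (σ := Fin n) (algebraMap R₁ R))).primeCompl) : IsUnit (b * algebraMap _ B₀ s.1)))
    have := congr(gB $h)
    rw [map_mul, hgB, hgB, (hres ((MvPolynomial.map (σ := Fin n) (algebraMap R₁ R)) r)).2 hr, mul_eq_zero] at this
    exact this.resolve_right fun h => s.2 ((hres _).1 h)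
  let gA' : ResidueField A →+* K := Ideal.Quotient.lift (maximalIdeal A) gA hgA0
  let gB' : ResidueField B₀ →+* K := Ideal.Quotient.lift (maximalIdeal B₀) gB hgB0
  have hgA' : ∀ a, gA' (algebraMap A (ResidueField A) a) = gA a := fun a => rfl
  have hgB' : ∀ b, gB' (algebraMap B₀ (ResidueField B₀) b) = gB b := fun b => rfl
  let : Algebra R₀ K := (gA.comp (algebraMap R₀ A)).toAlgebra
  have hagree : gB.comp (algebraMap R₀ B₀) = gA.comp (algebraMap R₀ A) := by
    refine IsLocalization.ringHom_ext ((Q.comap C).comap (algebraMap R₁ R)).primeCompl (RingHom.ext fun r => ?_)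
    simp only [RingHom.comp_apply]
    rw [← IsScalarTower.algebraMap_apply, ← IsScalarTower.algebraMap_apply,
      IsScalarTower.algebraMap_apply R₁ (MvPolynomial (Fin n) R₁) B₀, hgB,
      IsScalarTower.algebraMap_apply R₁ R A, hgA, MvPolynomial.algebraMap_eq, MvPolynomial.map_C]
  let fA : ResidueField A →ₐ[R₀] K :=
    { gA' with
      commutes' := fun r => by
        show gA' (algebraMap R₀ (ResidueField A) r) = _
        rw [IsScalarTower.algebraMap_apply R₀ A (ResidueField A), hgA']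
        rfl }
  let fB : ResidueField B₀ →ₐ[R₀] K :=
    { gB' with
      commutes' := fun r => by
        show gB' (algebraMap R₀ (ResidueField B₀) r) = _
        rw [IsScalarTower.algebraMap_apply R₀ B₀ (ResidueField B₀), hgB']
        exact congr($hagree r) }
  let ρ := Algebra.TensorProduct.productMap fB fA
  let T : MvPolynomial (Fin n) R →+* ResidueField B₀ ⊗[R₀] ResidueField A :=
    (theta R₀ B₀ A).toRingHom.comp (piHom (R₁ := R₁) (R₀ := R₀) B₀ A)
  have hTC : ∀ r, T (C r) = (1 : ResidueField B₀) ⊗ₜ[R₀] algebraMap A (ResidueField A) (algebraMap R A r) := by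
    intro r
    show theta R₀ B₀ A (piHom (R₁ := R₁) (R₀ := R₀) B₀ A (C r)) = _
    rw [piHom_C]
    simp [theta]
  have hTι : ∀ u, T ((MvPolynomial.map (σ := Fin n) (algebraMap R₁ R)) u) = algebraMap B₀ (ResidueField B₀) (algebraMap _ B₀ u) ⊗ₜ[R₀] (1 : ResidueField A) := by
    intro u
    show theta R₀ B₀ A (piHom (R₁ := R₁) (R₀ := R₀) B₀ A ((MvPolynomial.map (σ := Fin n) (algebraMap R₁ R)) u)) = _
    rw [piHom_map]
    simp [theta]
  have hρT : ρ.toRingHom.comp T = res := by
    refine MvPolynomial.ringHom_ext (fun r => ?_) fun i => ?_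
    · show ρ (T (C r)) = res (C r)
      rw [hTC, Algebra.TensorProduct.productMap_apply_tmul, map_one, one_mul]
      show gA' _ = _
      rw [hgA', hgA]
    · show ρ (T (X i)) = res (X i)
      rw [show (X i : MvPolynomial (Fin n) R) = (MvPolynomial.map (σ := Fin n) (algebraMap R₁ R)) (X i) from (MvPolynomial.map_X _ i).symm, hTι,
        Algebra.TensorProduct.productMap_apply_tmul, map_one, mul_one]
      show gB' _ = _
      rw [hgB', hgB]
  have hzero : ∀ t, T t = 0 ↔ t ∈ Q := by
    intro t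
    refine ⟨fun h => (hres t).1 (by rw [← hρT, RingHom.comp_apply, h, map_zero]), fun ht => ?_⟩
    obtain ⟨s, hs, hst⟩ := hQ t ht
    have hker : (Q.comap (MvPolynomial.map (σ := Fin n) (algebraMap R₁ R))).map (MvPolynomial.map (σ := Fin n) (algebraMap R₁ R)) ⊔ (Q.comap C).map C ≤ RingHom.ker T := by
      refine sup_le (Ideal.map_le_iff_le_comap.2 fun u hu => ?_) (Ideal.map_le_iff_le_comap.2 fun r hr => ?_)
      · show T ((MvPolynomial.map (σ := Fin n) (algebraMap R₁ R)) u) = 0
        have : algebraMap _ B₀ u ∈ maximalIdeal B₀ :=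
          (IsLocalization.AtPrime.to_map_mem_maximal_iff B₀ (Q.comap (MvPolynomial.map (σ := Fin n) (algebraMap R₁ R))) u).2 hu
        rw [hTι, show algebraMap B₀ (ResidueField B₀) (algebraMap _ B₀ u) = 0 from
          (residue_eq_zero_iff _).2 this, zero_tmul]
      · show T (C r) = 0
        have : algebraMap R A r ∈ maximalIdeal A :=
          (IsLocalization.AtPrime.to_map_mem_maximal_iff A (Q.comap C) r).2 hr
        rw [hTC, show algebraMap A (ResidueField A) (algebraMap R A r) = 0 from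
          (residue_eq_zero_iff _).2 this, tmul_zero]
    have h := hker hst
    rw [RingHom.mem_ker, map_mul] at h
    refine (IsUnit.mul_right_eq_zero ?_).1 h
    rw [hTC]
    exact ((IsLocalization.map_units A (⟨s, hs⟩ : (Q.comap C).primeCompl)).map (algebraMap A (ResidueField A))).map
      (Algebra.TensorProduct.includeRight (R := R₀) (A := ResidueField B₀) (B := ResidueField A)).toRingHom
  refine ⟨hzero, ?_⟩
  have hsurj : ∀ z : ResidueField B₀ ⊗[R₀] ResidueField A,
      ∃ d a, IsUnit (T d) ∧ z * T d = T a := by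
    intro z
    obtain ⟨z, rfl⟩ : ∃ y, theta R₀ B₀ A y = z := Algebra.TensorProduct.map_surjective _ _
      residue_surjective residue_surjective z
    obtain ⟨d, a, hd, h⟩ := exists_mul_piHom_eq (R₁ := R₁) (R₀ := R₀) Q z
    exact ⟨d, a, hd.map (theta R₀ B₀ A).toRingHom, by
      show theta R₀ B₀ A z * theta R₀ B₀ A _ = theta R₀ B₀ A _
      rw [← map_mul, h]⟩
  have : Nontrivial (ResidueField B₀ ⊗[R₀] ResidueField A) := ρ.toRingHom.domain_nontrivial
  have : NoZeroDivisors (ResidueField B₀ ⊗[R₀] ResidueField A) := ⟨fun {z z'} h => by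
    obtain ⟨d, a, hd, hz⟩ := hsurj z
    obtain ⟨d', a', hd', hz'⟩ := hsurj z'
    have : a * a' ∈ Q := by
      rw [← hzero, map_mul, ← hz, ← hz', mul_mul_mul_comm, h, zero_mul]
    rcases ‹Q.IsPrime›.mem_or_mem this with ha | ha
    · exact Or.inl (hd.mul_left_eq_zero.1 (hz.trans ((hzero a).2 ha)))
    · exact Or.inr (hd'.mul_left_eq_zero.1 (hz'.trans ((hzero a').2 ha)))⟩
  exact NoZeroDivisors.to_isDomain _

variable {E : Type u} [AddCommGroup E] [Module R₁ E] [Module (MvPolynomial (Fin n) R₁) E] [Module R₀ E] [Module B₀ E]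
  [IsScalarTower R₁ (MvPolynomial (Fin n) R₁) E] [IsScalarTower (MvPolynomial (Fin n) R₁) B₀ E]
  [IsScalarTower R₀ B₀ E] [IsScalarTower R₁ R₀ E]
  (lE : M₁ →ₗ[MvPolynomial (Fin n) R₁] E) [IsLocalizedModule (Q.comap (MvPolynomial.map (σ := Fin n) (algebraMap R₁ R))).primeCompl lE]
  {X : Type u} [AddCommGroup X] [Module R X] [Module R₁ X] [IsScalarTower R₁ R X]
  {X' : Type u} [AddCommGroup X'] [Module R X'] [Module R₁ X'] [IsScalarTower R₁ R X'] [Module R₀ X'] [Module A X']
  [IsScalarTower R A X'] [IsScalarTower R₀ A X'] [IsScalarTower R₁ R₀ X']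
  (lX : X →ₗ[R] X') [IsLocalizedModule (Q.comap C).primeCompl lX]

/-- `M₁ ⊗ X → M ⊗ X`. -/
noncomputable def phi : M₁ ⊗[R₁] X →+ M ⊗[R] X :=
  TensorProduct.liftAddHom
    { toFun := fun m => ((TensorProduct.mk R M X) (e (1 ⊗ₜ m))).toAddMonoidHom
      map_zero' := by ext x; simp
      map_add' := fun m m' => by ext x; simp [tmul_add, add_tmul] }
    fun r m x => by
      show e (1 ⊗ₜ (r • m)) ⊗ₜ[R] x = e (1 ⊗ₜ m) ⊗ₜ[R] (r • x)
      rw [tmul_smul, ← algebraMap_smul R r ((1 : R) ⊗ₜ[R₁] m), map_smul, smul_tmul, algebraMap_smul]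

theorem phi_tmul (m : M₁) (x : X) : phi e (m ⊗ₜ[R₁] x) = e (1 ⊗ₜ m) ⊗ₜ[R] x := rfl

theorem phi_surjective : Function.Surjective (phi (X := X) e) := by
  intro z
  induction z with
  | zero => exact ⟨0, map_zero _⟩
  | add y z hy hz =>
    obtain ⟨a, rfl⟩ := hy
    obtain ⟨b, rfl⟩ := hz
    exact ⟨a + b, map_add _ _ _⟩
  | tmul m x =>
    obtain ⟨w, rfl⟩ := e.surjective m
    induction w with
    | zero => exact ⟨0, by rw [map_zero, map_zero, zero_tmul]⟩
    | tmul r m₁ =>
      refine ⟨m₁ ⊗ₜ (r • x), ?_⟩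
      rw [phi_tmul, show (r ⊗ₜ[R₁] m₁) = r • ((1 : R) ⊗ₜ[R₁] m₁) by rw [smul_tmul', smul_eq_mul, mul_one],
        map_smul, smul_tmul]
    | add y z hy hz =>
      obtain ⟨a, ha⟩ := hy
      obtain ⟨b, hb⟩ := hz
      exact ⟨a + b, by rw [map_add, map_add, ha, hb, add_tmul]⟩

theorem phi_injective : Function.Injective (phi (X := X) e) := by
  let inv : M ⊗[R] X →+ M₁ ⊗[R₁] X := (TensorProduct.comm R₁ X M₁).toLinearMap.toAddMonoidHom.comp
    (((AlgebraTensorModule.cancelBaseChange R₁ R R X M₁).toLinearMap ∘ₗ (e.symm.toLinearMap.lTensor X)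
      ∘ₗ (TensorProduct.comm R M X).toLinearMap).toAddMonoidHom)
  refine Function.LeftInverse.injective (g := inv) fun w => ?_
  induction w with
  | zero => simp
  | add y z hy hz => rw [map_add, map_add, hy, hz]
  | tmul m x => simp [inv, phi_tmul]

include he in
theorem phi_poly_smul (p : MvPolynomial (Fin n) R₁) (w : M₁ ⊗[R₁] X) : phi e (p • w) = (MvPolynomial.map (σ := Fin n) (algebraMap R₁ R)) p • phi e w := by
  induction w with
  | zero => simp
  | add y z hy hz => simp only [smul_add, map_add, hy, hz]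
  | tmul m x => rw [smul_tmul', phi_tmul, phi_tmul, he, smul_tmul']

theorem phi_lTensor_smul (r : R) (w : M₁ ⊗[R₁] X) :
    phi e ((LinearMap.lsmul R X r).restrictScalars R₁ |>.lTensor M₁ <| w) = (C r : MvPolynomial (Fin n) R) • phi e w := by
  induction w with
  | zero => simp
  | add y z hy hz => simp only [smul_add, map_add, hy, hz]
  | tmul m x =>
    rw [LinearMap.lTensor_tmul, LinearMap.coe_restrictScalars, LinearMap.lsmul_apply, phi_tmul, phi_tmul,
      smul_tmul', ← MvPolynomial.algebraMap_eq, algebraMap_smul, smul_tmul]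

variable (R₀) in
/-- `M₁ ⊗ X → E ⊗ X'`. -/
noncomputable def jmap : M₁ ⊗[R₁] X →+ E ⊗[R₀] X' :=
  TensorProduct.liftAddHom
    { toFun := fun m => ((TensorProduct.mk R₀ E X' (lE m)).toAddMonoidHom).comp lX.toAddMonoidHom
      map_zero' := by ext x; simp
      map_add' := fun m m' => by ext x; simp [add_tmul] }
    fun r m x => by
      show lE (r • m) ⊗ₜ[R₀] lX x = lE m ⊗ₜ[R₀] lX (r • x)
      rw [LinearMap.map_smul_of_tower, LinearMap.map_smul_of_tower, ← algebraMap_smul R₀ r (lX x),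
        ← algebraMap_smul R₀ r (lE m), smul_tmul]

theorem jmap_tmul (m : M₁) (x : X) : jmap R₀ lE lX (m ⊗ₜ[R₁] x) = lE m ⊗ₜ[R₀] lX x := rfl

include he in
theorem jmap_eq_zero {w : M₁ ⊗[R₁] X} (h : jmap R₀ lE lX w = 0) :
    ∃ t ∉ Q, t • phi e w = 0 := by
  let S₀ : Submonoid R₁ := ((Q.comap C).comap (algebraMap R₁ R)).primeCompl
  let l₁ := AlgebraTensorModule.rTensor (A := MvPolynomial (Fin n) R₁) R₁ X lE
  let l₂ : E ⊗[R₁] X →ₗ[R₁] E ⊗[R₁] X' := (lX.restrictScalars R₁).lTensor E
  have heq : jmap R₀ lE lX w = (IsLocalization.moduleTensorEquiv S₀ R₀ E X').symm (l₂ (l₁ w)) := by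
    clear h
    induction w with
    | zero => simp
    | add y z hy hz => simp only [map_add, hy, hz]
    | tmul m x => simp [l₁, l₂, jmap_tmul, IsLocalization.moduleTensorEquiv, TensorProduct.equivOfCompatibleSMul]
  rw [h, eq_comm, LinearEquiv.map_eq_zero_iff] at heq
  let l₃ := AlgebraTensorModule.rTensor (A := R) R₁ E lX
  have h₃ : l₃ ((TensorProduct.comm R₁ E X) (l₁ w)) = 0 := by
    rw [show l₃ ((TensorProduct.comm R₁ E X) (l₁ w)) = (TensorProduct.comm R₁ E X') (l₂ (l₁ w)) from ?_, heq,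
      map_zero]
    generalize l₁ w = v
    induction v with
    | zero => simp
    | add y z hy hz => simp only [map_add, hy, hz]
    | tmul m x => simp [l₂, l₃]
  obtain ⟨s, hs⟩ := (IsLocalizedModule.eq_zero_iff (Q.comap C).primeCompl l₃).1 h₃
  let w' := (LinearMap.lsmul R X s.1).restrictScalars R₁ |>.lTensor M₁ <| w
  have hw' : l₁ w' = 0 := by
    apply (TensorProduct.comm R₁ E X).injective
    rw [map_zero, show (TensorProduct.comm R₁ E X) (l₁ w') = (s : R) • (TensorProduct.comm R₁ E X) (l₁ w) from ?_,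
      show (s : R) • (TensorProduct.comm R₁ E X) (l₁ w) = 0 from hs]
    simp only [w']
    clear hs h₃ heq h
    induction w with
    | zero => simp
    | add y z hy hz => simp only [map_add, smul_add, hy, hz]
    | tmul m x => simp [l₁, smul_tmul']
  obtain ⟨u, hu⟩ := (IsLocalizedModule.eq_zero_iff (Q.comap (MvPolynomial.map (σ := Fin n) (algebraMap R₁ R))).primeCompl l₁).1 hw'
  refine ⟨(MvPolynomial.map (σ := Fin n) (algebraMap R₁ R)) u.1 * C s.1, Ideal.IsPrime.mul_notMem ‹_› u.2 s.2, ?_⟩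
  rw [mul_smul, ← phi_lTensor_smul, ← phi_poly_smul e he, show u.1 • w' = 0 from hu, map_zero]

include he in
theorem exists_jmap_smul (t : MvPolynomial (Fin n) R) (w : M₁ ⊗[R₁] X) :
    ∃ w', phi e w' = t • phi e w ∧
      jmap R₀ lE lX w' = tau E X' (piHom (R₁ := R₁) (R₀ := R₀) B₀ A t) (jmap R₀ lE lX w) := by
  induction t using MvPolynomial.induction_on with
  | C r =>
    refine ⟨(LinearMap.lsmul R X r).restrictScalars R₁ |>.lTensor M₁ <| w, phi_lTensor_smul e r w, ?_⟩
    rw [piHom_C]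
    induction w with
    | zero => simp
    | add y z hy hz => simp only [map_add, hy, hz]
    | tmul m x =>
      rw [LinearMap.lTensor_tmul, LinearMap.coe_restrictScalars, LinearMap.lsmul_apply, jmap_tmul, jmap_tmul,
        tau_tmul, one_smul, map_smul, algebraMap_smul]
  | add p q hp hq =>
    obtain ⟨a, ha, ha'⟩ := hp
    obtain ⟨b, hb, hb'⟩ := hq
    exact ⟨a + b, by rw [map_add, ha, hb, add_smul], by rw [map_add, ha', hb', map_add, map_add, LinearMap.add_apply]⟩
  | mul_X p i hp =>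
    obtain ⟨a, ha, ha'⟩ := hp
    refine ⟨(MvPolynomial.X i : MvPolynomial (Fin n) R₁) • a, ?_, ?_⟩
    · rw [phi_poly_smul e he, ha, MvPolynomial.map_X, mul_comm p, mul_smul]
    · have hpX : piHom (R₁ := R₁) (R₀ := R₀) B₀ A (MvPolynomial.X i : MvPolynomial (Fin n) R) =
          algebraMap (MvPolynomial (Fin n) R₁) B₀ (MvPolynomial.X i) ⊗ₜ[R₀] (1 : A) := by simp [piHom]
      rw [mul_comm p, map_mul, tau_mul, ← ha', hpX]
      clear ha ha'
      induction a with
      | zero => simp
      | add y z hy hz => simp only [smul_add, map_add, hy, hz]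
      | tmul m x => rw [smul_tmul', jmap_tmul, jmap_tmul, map_smul, tau_tmul, one_smul, algebraMap_smul]

include he hQ A in
theorem exists_content_core [IsNoetherianRing R₀] [IsNoetherianRing B₀] [IsNoetherianRing R₁] [Module.Flat R₀ E]
    (lE : M₁ →ₗ[MvPolynomial (Fin n) R₁] E) [IsLocalizedModule (Q.comap (MvPolynomial.map (σ := Fin n) (algebraMap R₁ R))).primeCompl lE]
    (lX : X →ₗ[R] X') [IsLocalizedModule (Q.comap C).primeCompl lX]
    (z : M ⊗[R] X) (hz : ∀ t ∉ Q, t • z ≠ 0) (hzQ : ∀ a ∈ Q, ∃ k, ∃ t ∉ Q, t • a ^ k • z = 0) :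
    ∃ x : X, (∀ s ∉ Q.comap C, s • x ≠ 0) ∧ ∀ (Y : Submodule R X) (t : MvPolynomial (Fin n) R), t ∉ Q →
      t • z ∈ LinearMap.range (Y.subtype.lTensor M) → ∃ s ∉ Q.comap C, s • x ∈ Y := by
  classical
  obtain ⟨hθ, hdom⟩ := theta_piHom (R₀ := R₀) (B₀ := B₀) (A := A) Q hQ
  obtain ⟨G, hG⟩ := (IsNoetherian.noetherian (Q.comap (MvPolynomial.map (σ := Fin n) (algebraMap R₁ R))) : (Q.comap (MvPolynomial.map (σ := Fin n) (algebraMap R₁ R))).FG)
  have hkill : ∀ g ∈ G, ∃ k, ∃ t ∉ Q, t • ((MvPolynomial.map (σ := Fin n) (algebraMap R₁ R)) g) ^ k • z = 0 := fun g hg =>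
    hzQ _ (show g ∈ Q.comap (MvPolynomial.map (σ := Fin n) (algebraMap R₁ R)) from hG.le (Submodule.subset_span hg))
  choose! k t htQ ht using hkill
  let t₀ := ∏ g ∈ G, t g
  have ht₀ : t₀ ∉ Q := fun h => by
    obtain ⟨g, hg, hgQ⟩ := (Ideal.IsPrime.prod_mem_iff (hp := ‹Q.IsPrime›)).1 h
    exact htQ g hg hgQ
  obtain ⟨w, hw⟩ := phi_surjective e (t₀ • z)
  let v := jmap R₀ lE lX w
  have hv : ∀ b ∈ maximalIdeal B₀, ∃ k : ℕ, b ^ k • v = 0 := by
    intro b hb
    let J : Ideal B₀ := LinearMap.ker (LinearMap.toSpanSingleton B₀ _ v)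
    suffices maximalIdeal B₀ ≤ J.radical from let ⟨k, hk⟩ := this hb; ⟨k, hk⟩
    rw [← IsLocalization.AtPrime.map_eq_maximalIdeal (Q.comap (MvPolynomial.map (σ := Fin n) (algebraMap R₁ R))) B₀, ← hG, Ideal.map_span, Ideal.span_le]
    rintro _ ⟨g, hg, rfl⟩
    refine ⟨k g, ?_⟩
    show (algebraMap _ B₀ g) ^ k g • v = 0
    have h0 : g ^ k g • w = 0 := by
      apply phi_injective e
      rw [map_zero, phi_poly_smul e he, hw, map_pow, smul_smul]
      show _ = 0
      rw [show ((MvPolynomial.map (σ := Fin n) (algebraMap R₁ R)) g) ^ k g * t₀ = (∏ g' ∈ G.erase g, t g') * (t g * ((MvPolynomial.map (σ := Fin n) (algebraMap R₁ R)) g) ^ k g) by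
        rw [show t₀ = (∏ g' ∈ G.erase g, t g') * t g from (Finset.prod_erase_mul G t hg).symm]; ring, mul_smul, mul_smul, ht g hg, smul_zero]
    have : ∀ (u : MvPolynomial (Fin n) R₁) (w : M₁ ⊗[R₁] X),
        jmap R₀ lE lX (u • w) = algebraMap _ B₀ u • jmap R₀ lE lX w := by
      intro u w
      induction w with
      | zero => simp
      | add y z hy hz => simp only [smul_add, map_add, hy, hz]
      | tmul m x => rw [smul_tmul', jmap_tmul, jmap_tmul, map_smul, smul_tmul', algebraMap_smul]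
    rw [← map_pow, ← this, h0, map_zero]
  have hne : ∀ τ : B₀ ⊗[R₀] A, theta R₀ B₀ A τ ≠ 0 → tau E X' τ v ≠ 0 := by
    intro τ hτ h
    obtain ⟨d, a, hd, hda⟩ := exists_mul_piHom_eq (R₁ := R₁) (R₀ := R₀) Q τ
    have ha : a ∉ Q := fun ha => hτ ((hd.map (theta R₀ B₀ A).toRingHom).mul_left_eq_zero.1
      (show theta R₀ B₀ A τ * theta R₀ B₀ A _ = 0 by rw [← map_mul, hda]; exact (hθ a).2 ha))
    obtain ⟨w', hw', hj⟩ := exists_jmap_smul (R₀ := R₀) (B₀ := B₀) (A := A) e he lE lX a w
    rw [← hda, mul_comm, tau_mul, h, map_zero] at hj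
    obtain ⟨t', ht', h'⟩ := jmap_eq_zero Q e he lE lX hj
    rw [hw', hw, smul_smul, smul_smul] at h'
    exact hz _ (Ideal.IsPrime.mul_notMem ‹_› (Ideal.IsPrime.mul_notMem ‹_› ht' ha) ht₀) h'
  have := hdom
  obtain ⟨x', hx', hY⟩ := exists_content (R₀ := R₀) (B₀ := B₀) (A := A) E X' v hv hne
  obtain ⟨⟨x, s⟩, hxs⟩ := IsLocalizedModule.surj (Q.comap C).primeCompl lX x'
  have hxs' : (s : R) • x' = lX x := hxs
  refine ⟨x, fun r hr h => hx' ?_, fun Y t ht hzY => ?_⟩
  · have : (r * s) • x' = 0 := by rw [mul_smul, hxs', ← map_smul, h, map_zero]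
    rw [← algebraMap_smul A (r * s.1)] at this
    exact (IsLocalization.map_units A ((⟨r, hr⟩ : (Q.comap C).primeCompl) * s)).smul_eq_zero.1 this
  obtain ⟨y, hy⟩ := hzY
  let Y' : Submodule A X' := Submodule.localized' A (Q.comap C).primeCompl lX Y
  have hrange : ∀ y : M ⊗[R] Y, ∀ w : M₁ ⊗[R₁] X, phi e w = Y.subtype.lTensor M y →
      jmap R₀ lE lX w ∈ LinearMap.range ((Y'.subtype.restrictScalars R₀).lTensor E) := by
    intro y w hw
    obtain ⟨y, rfl⟩ := phi_surjective e y
    have : w = (Y.subtype.restrictScalars R₁).lTensor M₁ y := by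
      refine phi_injective e (hw.trans ?_)
      clear hw
      induction y with
      | zero => simp
      | add a b ha hb => simp only [map_add, ha, hb]
      | tmul m x => simp [phi_tmul]
    subst this
    clear hw
    induction y with
    | zero => simp
    | add a b ha hb => simp only [map_add]; exact add_mem ha hb
    | tmul m x =>
      exact ⟨lE m ⊗ₜ ⟨lX x.1, ⟨x.1, x.2, 1, IsLocalizedModule.mk'_one _ _ _⟩⟩, rfl⟩
  obtain ⟨w', hw', hj⟩ := exists_jmap_smul (R₀ := R₀) (B₀ := B₀) (A := A) e he lE lX t w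
  have hmem : tau E X' (piHom (R₁ := R₁) (R₀ := R₀) B₀ A t) v ∈
      LinearMap.range ((Y'.subtype.restrictScalars R₀).lTensor E) := by
    rw [show tau E X' _ v = _ from hj.symm]
    refine hrange (t₀ • y) w' ?_
    rw [hw', hw, smul_comm, ← hy]
    exact ((AlgebraTensorModule.lTensor (MvPolynomial (Fin n) R) M Y.subtype).map_smul t₀ y).symm
  obtain ⟨m, hm, r, hr⟩ := hY Y' _ (fun h => ht ((hθ t).1 h)) hmem
  rw [IsLocalizedModule.mk'_eq_iff] at hr
  have hr' : lX m = (r : R) • x' := hr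
  have h2 : lX ((r : R) • x) = lX ((s : R) • m) := by
    rw [map_smul, map_smul, ← hxs', hr', smul_comm]
  obtain ⟨c, hc⟩ := (IsLocalizedModule.eq_iff_exists (Q.comap C).primeCompl lX).1 h2
  refine ⟨c.1 * r.1, (c * r).2, ?_⟩
  have hc' : (c : R) • (r : R) • x = (c : R) • (s : R) • m := hc
  rw [mul_smul, hc']
  exact Y.smul_mem _ (Y.smul_mem _ hm)

end Core

variable {R : Type u} [CommRing R] {n : ℕ}

/-- At a prime where a finitely presented module `M` is flat over the base, an element of `M ⊗ X`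
supported exactly at the prime has a nonzero coefficient in `X` at the prime below, contained in every
submodule it comes from. -/
theorem exists_content_poly {M : Type u} [AddCommGroup M] [Module R M] [Module (MvPolynomial (Fin n) R) M]
    [IsScalarTower R (MvPolynomial (Fin n) R) M] [Module.FinitePresentation (MvPolynomial (Fin n) R) M]
    (Q : Ideal (MvPolynomial (Fin n) R)) [Q.IsPrime] (hflat : Module.Flat R (LocalizedModule Q.primeCompl M))
    (X : Type u) [AddCommGroup X] [Module R X]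
    (z : M ⊗[R] X) (hz : ∀ t ∉ Q, t • z ≠ 0) (hzQ : ∀ a ∈ Q, ∃ k, ∃ t ∉ Q, t • a ^ k • z = 0) :
    ∃ x : X, (∀ s ∉ Q.comap C, s • x ≠ 0) ∧ ∀ (Y : Submodule R X) (t : MvPolynomial (Fin n) R), t ∉ Q →
      t • z ∈ LinearMap.range (Y.subtype.lTensor M) → ∃ s ∉ Q.comap C, s • x ∈ Y := by
  obtain ⟨R₁, _, _, _, M₁, _, _, _, _, e, hfin, hfl, he, hQ⟩ := exists_model Q hflat
  let p := Q.comap (C : R →+* MvPolynomial (Fin n) R)
  let q₁ := Q.comap (MvPolynomial.map (σ := Fin n) (algebraMap R₁ R))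
  let p₁ := p.comap (algebraMap R₁ R)
  have : q₁.LiesOver p₁ := ⟨by ext r; simp [p₁, q₁, p, Ideal.under, MvPolynomial.algebraMap_eq]⟩
  let : Algebra (Localization.AtPrime p₁) (Localization.AtPrime q₁) :=
    (Localization.localRingHom p₁ q₁ (algebraMap R₁ _) (q₁.over_def p₁)).toAlgebra
  have : IsScalarTower R₁ (Localization.AtPrime p₁) (Localization.AtPrime q₁) :=
    .of_algebraMap_eq fun r => (Localization.localRingHom_to_map p₁ q₁ (algebraMap R₁ _) (q₁.over_def p₁) r).symm
  have : IsLocalHom (algebraMap (Localization.AtPrime p₁) (Localization.AtPrime q₁)) :=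
    Localization.isLocalHom_localRingHom p₁ q₁ _ (q₁.over_def p₁)
  let : Algebra (Localization.AtPrime p₁) (Localization.AtPrime p) :=
    (Localization.localRingHom p₁ p (algebraMap R₁ R) rfl).toAlgebra
  have : IsScalarTower R₁ (Localization.AtPrime p₁) (Localization.AtPrime p) :=
    .of_algebraMap_eq fun r => (Localization.localRingHom_to_map p₁ p (algebraMap R₁ R) rfl r).symm
  have : IsLocalHom (algebraMap (Localization.AtPrime p₁) (Localization.AtPrime p)) :=
    Localization.isLocalHom_localRingHom p₁ p _ rfl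
  let E := LocalizedModule q₁.primeCompl M₁
  let : Module (Localization.AtPrime p₁) E :=
    Module.compHom E (algebraMap (Localization.AtPrime p₁) (Localization.AtPrime q₁))
  have : IsScalarTower (Localization.AtPrime p₁) (Localization.AtPrime q₁) E :=
    .of_algebraMap_smul fun _ _ => rfl
  have : IsScalarTower R₁ (Localization.AtPrime q₁) E :=
    .of_algebraMap_smul fun r x => by
      rw [IsScalarTower.algebraMap_apply R₁ (MvPolynomial (Fin n) R₁) (Localization.AtPrime q₁),
        algebraMap_smul, algebraMap_smul]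
  have : IsScalarTower R₁ (Localization.AtPrime p₁) E :=
    .of_algebraMap_smul fun r x => by
      rw [← algebraMap_smul (Localization.AtPrime q₁) (algebraMap R₁ (Localization.AtPrime p₁) r) x,
        ← IsScalarTower.algebraMap_apply, algebraMap_smul]
  have : Module.Flat (Localization.AtPrime p₁) E :=
    (Module.flat_iff_of_isLocalization (Localization.AtPrime p₁) p₁.primeCompl E).2 hfl
  let : Module R₁ X := Module.compHom X (algebraMap R₁ R)
  have : IsScalarTower R₁ R X := .of_algebraMap_smul fun _ _ => rfl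
  let X' := LocalizedModule p.primeCompl X
  let : Module (Localization.AtPrime p₁) X' :=
    Module.compHom X' (algebraMap (Localization.AtPrime p₁) (Localization.AtPrime p))
  have : IsScalarTower (Localization.AtPrime p₁) (Localization.AtPrime p) X' :=
    .of_algebraMap_smul fun _ _ => rfl
  have : IsScalarTower R₁ (Localization.AtPrime p₁) X' :=
    .of_algebraMap_smul fun r x => by
      rw [← algebraMap_smul (Localization.AtPrime p) (algebraMap R₁ (Localization.AtPrime p₁) r) x,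
        ← IsScalarTower.algebraMap_apply, IsScalarTower.algebraMap_apply R₁ R (Localization.AtPrime p),
        algebraMap_smul, algebraMap_smul]
  exact exists_content_core (R₀ := Localization.AtPrime p₁) (B₀ := Localization.AtPrime q₁)
    (A := Localization.AtPrime p) Q e he hQ (LocalizedModule.mkLinearMap q₁.primeCompl M₁)
    (LocalizedModule.mkLinearMap p.primeCompl X) z hz hzQ

end Groth.Agent.RGCore
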