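import Groth.Agent.CAlgOdd.AssTensor
import Groth.Prelude.Def_FlatCA
import Mathlib.RingTheory.AdicCompletion.Basic

/-!
Universal injectivity of the map to the completion.
-/

set_option autoImplicit false
set_option linter.unusedSectionVars false

universe u

open TensorProduct

namespace Groth.Agent.RGCore

variable {R S : Type u} [CommRing R] [CommRing S] [Algebra R S] [IsNoetherianRing R] [IsNoetherianRing S]
  (I : Ideal R) (N : Type u) [AddCommGroup N] [Module S N] [Module R N] [IsScalarTower R S N] [Module.Finite S N]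

theorem univInj_adicCompletion_of
    (h : ∀ (Q : Type u) [AddCommGroup Q] [Module R Q], Module.Finite R Q →
      ∀ q ∈ associatedPrimes S (N ⊗[R] Q), I.map (algebraMap R S) ⊔ q ≠ ⊤) :
    FlatCA.UnivInj R (AdicCompletion.of I N) := by
  intro Z _ _
  rw [injective_iff_map_eq_zero]
  intro w hw
  apply (TensorProduct.comm R Z N).injective
  rw [map_zero]
  have hv : (AdicCompletion.of I N).rTensor Z (TensorProduct.comm R Z N w) = 0 := by
    have : (AdicCompletion.of I N).rTensor Z (TensorProduct.comm R Z N w) =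
        TensorProduct.comm R Z _ ((AdicCompletion.of I N).lTensor Z w) := by
      clear hw
      induction w with
      | zero => simp
      | add a b ha hb => simp only [map_add, ha, hb]
      | tmul c x => simp
    rw [this, hw, map_zero]
  generalize TensorProduct.comm R Z N w = v at hv ⊢
  obtain ⟨M', hM', z, rfl⟩ : ∃ M' : Submodule R Z, M'.FG ∧ ∃ z : N ⊗[R] M', M'.subtype.lTensor N z = v := by
    clear hv
    induction v with
    | zero => exact ⟨⊥, Submodule.fg_bot, 0, map_zero _⟩
    | tmul n c =>
      exact ⟨Submodule.span R {c}, Submodule.fg_span_singleton c, n ⊗ₜ ⟨c, Submodule.mem_span_singleton_self c⟩, rfl⟩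
    | add a b ha hb =>
      obtain ⟨P, hP, x, rfl⟩ := ha
      obtain ⟨P', hP', x', rfl⟩ := hb
      refine ⟨P ⊔ P', hP.sup hP', (Submodule.inclusion le_sup_left).lTensor N x +
        (Submodule.inclusion le_sup_right).lTensor N x', ?_⟩
      rw [map_add, ← LinearMap.lTensor_comp_apply, ← LinearMap.lTensor_comp_apply,
        Submodule.subtype_comp_inclusion, Submodule.subtype_comp_inclusion]
  have hz : M'.subtype.lTensor _ ((AdicCompletion.of I N).rTensor M' z) = 0 := by
    rw [← LinearMap.comp_apply, LinearMap.lTensor_comp_rTensor, ← LinearMap.rTensor_comp_lTensor, LinearMap.comp_apply]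
    exact hv
  obtain ⟨M'', hle, hM'', hz''⟩ := AssFiber.exists_fg_lTensor_inclusion_eq_zero (AdicCompletion I N) M' hM' _ hz
  let z₂ := (Submodule.inclusion hle).lTensor N z
  suffices z₂ = 0 by
    rw [← Submodule.subtype_comp_inclusion M' M'' hle, LinearMap.lTensor_comp_apply]
    show M''.subtype.lTensor N z₂ = 0
    rw [this, map_zero]
  have : Module.Finite R M'' := Module.Finite.iff_fg.2 hM''
  have : Module.Finite S (N ⊗[R] M'') := by
    obtain ⟨k, f, hf⟩ := Module.Finite.exists_fin' R M''
    refine Module.Finite.of_surjective (AlgebraTensorModule.lTensor S N f ∘ₗ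
      (TensorProduct.piScalarRight R S N (Fin k)).symm.toLinearMap) ?_
    exact (LinearMap.lTensor_surjective N hf).comp (LinearEquiv.surjective _)
  have hz₂ : (AdicCompletion.of I N).rTensor M'' z₂ = 0 := by
    show (AdicCompletion.of I N).rTensor M'' ((Submodule.inclusion hle).lTensor N z) = 0
    rw [← LinearMap.comp_apply, LinearMap.rTensor_comp_lTensor, ← LinearMap.lTensor_comp_rTensor, LinearMap.comp_apply]
    exact hz''
  let J : Ideal S := I.map (algebraMap R S)
  have hpow : ∀ n : ℕ, z₂ ∈ J ^ n • (⊤ : Submodule S (N ⊗[R] M'')) := by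
    intro n
    let K : Submodule R N := I ^ n • ⊤
    have h0 : K.mkQ.rTensor M'' z₂ = 0 := by
      rw [show K.mkQ = (AdicCompletion.eval I N n).comp (AdicCompletion.of I N) from
        LinearMap.ext fun x => (AdicCompletion.eval_of I N n x).symm, LinearMap.rTensor_comp_apply, hz₂, map_zero]
    obtain ⟨y, hy⟩ := ((rTensor_exact M'' (LinearMap.exact_subtype_mkQ K) (Submodule.mkQ_surjective _)) z₂).1 h0
    rw [← hy]
    clear hy h0
    induction y using TensorProduct.induction_on with
    | zero => rw [map_zero]; exact zero_mem _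
    | add a b ha hb => rw [map_add]; exact add_mem ha hb
    | tmul k c =>
      rw [LinearMap.rTensor_tmul]
      have hk : (k : N) ∈ I ^ n • (⊤ : Submodule R N) := k.2
      rw [Submodule.subtype_apply]
      generalize (k : N) = m at hk
      induction hk using Submodule.smul_induction_on' with
      | smul a ha m _ =>
        rw [← algebraMap_smul S a m, ← smul_tmul']
        refine Submodule.smul_mem_smul ?_ trivial
        rw [← Ideal.map_pow]
        exact Ideal.mem_map_of_mem _ ha
      | add a _ b _ ha hb => rw [add_tmul]; exact add_mem ha hb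
  obtain ⟨⟨r, hr⟩, hrz⟩ := (Ideal.mem_iInf_smul_pow_eq_bot_iff (I := J) z₂).1 ((Submodule.mem_iInf _).2 hpow)
  by_contra hne
  obtain ⟨q, hq, hle⟩ := exists_le_isAssociatedPrime_of_isNoetherianRing S z₂ hne
  refine h M'' inferInstance q hq ((Ideal.eq_top_iff_one _).2 ?_)
  have : 1 - r ∈ q := hle (Submodule.mem_colon_singleton.2 (by
    rw [sub_smul, one_smul, hrz, sub_self]
    exact Submodule.zero_mem _))
  have h2 := Submodule.add_mem (J ⊔ q) (Submodule.mem_sup_left hr) (Submodule.mem_sup_right this)
  rwa [add_sub_cancel] at h2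

theorem fiberIdeal_mem_associatedPrimes [Module.Flat R N] (Q : Type u) [AddCommGroup Q] [Module R Q]
    [Module.Finite R Q] (q : Ideal S) (hq : q ∈ associatedPrimes S (N ⊗[R] Q)) :
    ∃ (_ : q.IsPrime), FlatCA.fiberIdeal (q.under R) q ∈
      associatedPrimes ((q.under R).Fiber S) (FlatCA.fiberMod (q.under R) S N) := by
  have : q.IsPrime := hq.1
  refine ⟨this, ?_⟩
  let p := q.under R
  obtain ⟨hq', m, hm⟩ := CAlgOdd.AssTensor.exists_prime_of_mem N Q hq
  have hass : q ∈ FlatCA.ass S (N ⧸ AssFiber.pN p (S := S) N) := by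
    refine WeakAss.mem_ass_of_mem_weakAss_of_fg (IsNoetherian.noetherian q) ⟨m, ⟨hq', fun t ht => ?_⟩, fun L hL _ => ?_⟩
    · rw [hm]
      exact ⟨1, Submodule.mem_colon_singleton.2 (by rw [pow_one, Submodule.mem_bot]; exact WeakAss.mem_annEl.1 ht)⟩
    · rw [hm]
      intro t ht
      obtain ⟨k, hk⟩ := ht
      rw [Submodule.mem_colon_singleton, Submodule.mem_bot] at hk
      exact hL.1.mem_of_pow_mem k (hL.2 (WeakAss.mem_annEl.2 hk))
  rw [AssFiber.ass_quot_eq, AssFiber.ass_fiberMod_eq] at hass
  obtain ⟨L, ⟨hL, x, hx⟩, hLq⟩ := hass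
  have hmap : FlatCA.fiberIdeal p q = L := by
    refine (congrArg (Ideal.map _) hLq.symm).trans ?_
    refine le_antisymm Ideal.map_comap_le fun b hb => ?_
    obtain ⟨a, ha, s, hs⟩ := AssFiber.exists_smul_eq_includeRight p b
    have hu : IsUnit ((1 : p.ResidueField) ⊗ₜ[R] algebraMap R S a : p.Fiber S) := by
      rw [Algebra.algebraMap_eq_smul_one, ← smul_tmul, ← Algebra.algebraMap_eq_smul_one]
      have hne : algebraMap R p.ResidueField a ≠ 0 := fun h => ha (Ideal.algebraMap_residueField_eq_zero.1 h)
      exact (isUnit_iff_ne_zero.2 hne).map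
        (Algebra.TensorProduct.includeLeftRingHom (R := R) (A := p.ResidueField) (B := S))
    rw [← Ideal.unit_mul_mem_iff_mem _ hu, hs]
    refine Ideal.mem_map_of_mem _ ?_
    show (1 : p.ResidueField) ⊗ₜ[R] s ∈ L
    rw [← hs]
    exact L.mul_mem_left _ hb
  rw [hmap]
  refine ⟨hL, x, ?_⟩
  rw [show (⊥ : Submodule (p.Fiber S) (FlatCA.fiberMod p S N)).colon {x} = WeakAss.annEl (p.Fiber S) x by
    ext t; rw [Submodule.mem_colon_singleton, Submodule.mem_bot, WeakAss.mem_annEl],
    show WeakAss.annEl (p.Fiber S) x = L from hx.symm, hL.radical]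

end Groth.Agent.RGCore
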