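import Groth.Agent.RGCore.CompletionProjective
import Groth.Agent.RGCore.CompletionInj
import Groth.Agent.CAlgUI.Countable
import Mathlib.RingTheory.FiniteType

/-!
Projectivity over a complete ring.
-/

set_option autoImplicit false
set_option linter.unusedSectionVars false

universe u

open TensorProduct

namespace Groth.Agent.RGCore

variable {R S : Type u} [CommRing R] [CommRing S] [Algebra R S] [Algebra.FiniteType R S]
  (N : Type u) [AddCommGroup N] [Module S N] [Module R N] [IsScalarTower R S N] [Module.Finite S N]

variable (S) in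
include S in
/-- Finite modules over finite type algebras are countably generated over the base. -/
theorem isCountablyGenerated_of_finiteType : CAlg.IsCountablyGenerated R N := by
  obtain ⟨n, φ, hφ⟩ := Algebra.FiniteType.iff_quotient_mvPolynomial''.1 ‹Algebra.FiniteType R S›
  obtain ⟨k, g, hg⟩ := Module.Finite.exists_fin (R := S) (M := N)
  refine ⟨Set.range fun x : (Fin n →₀ ℕ) × Fin k => φ (MvPolynomial.monomial x.1 1) • g x.2,
    Set.countable_range _, eq_top_iff.2 fun z htop => ?_⟩
  clear htop
  have hz : z ∈ Submodule.span S (Set.range g) := hg ▸ trivial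
  obtain ⟨c, rfl⟩ := (Submodule.mem_span_range_iff_exists_fun S).1 hz
  refine Submodule.sum_mem _ fun i _ => ?_
  obtain ⟨t, ht⟩ := hφ (c i)
  rw [← ht, t.as_sum, map_sum, Finset.sum_smul]
  refine Submodule.sum_mem _ fun d _ => ?_
  rw [← mul_one (t.coeff d), ← MvPolynomial.C_mul_monomial, map_mul, ← MvPolynomial.algebraMap_eq, AlgHom.commutes,
    mul_smul, algebraMap_smul]
  exact Submodule.smul_mem _ _ (Submodule.subset_span ⟨(d, i), rfl⟩)

/-- Over a complete Noetherian ring: a flat module with projective reduction, whose relative assassin meets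
the reduction, is projective. -/
theorem projective_of_complete [IsNoetherianRing R] (I : Ideal R) [IsAdicComplete I R] [Module.Flat R N]
    [Module.Projective (R ⧸ I) (N ⧸ (I • ⊤ : Submodule R N))]
    (h : ∀ (p : Ideal R) (q : Ideal S) [p.IsPrime] [q.IsPrime] [q.LiesOver p],
      FlatCA.fiberIdeal p q ∈ associatedPrimes (p.Fiber S) (FlatCA.fiberMod p S N) → I.map (algebraMap R S) ⊔ q ≠ ⊤) :
    Module.Projective R N := by
  have : IsNoetherianRing S := Algebra.FiniteType.isNoetherianRing R S
  obtain ⟨-, hml⟩ := flat_ml_completion_of_projective I N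
  have hui : CAlgX.UniversallyInjective R (AdicCompletion.of I N) := fun Q _ _ =>
    (LinearMap.lTensor_inj_iff_rTensor_inj _ _).1
      (univInj_adicCompletion_of (S := S) I N (fun Q _ _ _ q hq => by
        obtain ⟨_, hass⟩ := fiberIdeal_mem_associatedPrimes (S := S) N Q q hq
        exact h (q.under R) q hass) Q)
  exact CAlgUI.projective_of_flat_ml_countablyGenerated (CAlgUI.ml_of_ui _ hui hml)
    (isCountablyGenerated_of_finiteType S N)

end Groth.Agent.RGCore
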