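import Groth.Agent.CAlgUI.FlatML
import Groth.Agent.CAlgUI.Projective
import Mathlib.RingTheory.AdicCompletion.Functoriality
import Mathlib.RingTheory.Filtration

/-!
The completion of a free module over a complete Noetherian ring, and of a flat module with projective reduction.
-/

set_option autoImplicit false
set_option linter.unusedSectionVars false

universe u

open TensorProduct

namespace Groth.Agent.RGCore

variable {R : Type u} [CommRing R]

/-- A universally injective submodule of a flat module is flat. -/
theorem flat_of_ui {M M' : Type u} [AddCommGroup M] [Module R M] [AddCommGroup M'] [Module R M'] [Module.Flat R M']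
    (f : M →ₗ[R] M') (hf : CAlgX.UniversallyInjective R f) : Module.Flat R M := by
  rw [Module.Flat.iff_lTensor_preserves_injective_linearMap]
  intro N N' _ _ _ _ g hg
  refine Function.Injective.of_comp (f := f.rTensor N') ?_
  rw [← LinearMap.coe_comp, LinearMap.rTensor_comp_lTensor, ← LinearMap.lTensor_comp_rTensor, LinearMap.coe_comp]
  exact (Module.Flat.lTensor_preserves_injective_linearMap g hg).comp (hf N)

section Free

variable (I : Ideal R) [IsAdicComplete I R] (α : Type u)

/-- The coordinates of an element of the completion of a free module. -/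
noncomputable def complCoord : AdicCompletion I (α →₀ R) →ₗ[R] (α → R) :=
  LinearMap.pi fun a =>
    (AdicCompletion.ofLinearEquiv I R).symm.toLinearMap ∘ₗ (AdicCompletion.map I (Finsupp.lapply a)).restrictScalars R

theorem mk_complCoord (x : AdicCompletion I (α →₀ R)) (n : ℕ) (f : α →₀ R)
    (hf : x.val n = Submodule.Quotient.mk f) (a : α) : complCoord I α x a - f a ∈ I ^ n := by
  have h1 : AdicCompletion.of I R (complCoord I α x a) = AdicCompletion.map I (Finsupp.lapply a) x :=
    AdicCompletion.of_ofLinearEquiv_symm I _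
  have h2 := congr(($h1).val n)
  rw [AdicCompletion.map_val_apply, hf, AdicCompletion.of_apply] at h2
  have h3 : complCoord I α x a - f a ∈ I ^ n • (⊤ : Submodule R R) := (Submodule.Quotient.eq _).1 h2
  rwa [Ideal.smul_top_eq_map, Algebra.algebraMap_self, Ideal.map_id] at h3

theorem mem_pow_smul_top_iff (n : ℕ) [IsNoetherianRing R] (f : α →₀ R) :
    f ∈ I ^ n • (⊤ : Submodule R (α →₀ R)) ↔ ∀ a, f a ∈ I ^ n := by
  refine ⟨fun h a => ?_, fun h => ?_⟩
  · induction h using Submodule.smul_induction_on' with
    | smul c hc g _ => rw [Finsupp.smul_apply, smul_eq_mul]; exact Ideal.mul_mem_right _ _ hc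
    | add g _ g' _ hg hg' => rw [Finsupp.add_apply]; exact add_mem hg hg'
  · rw [← Finsupp.sum_single f, Finsupp.sum]
    refine Submodule.sum_mem _ fun a _ => ?_
    rw [← mul_one (f a), ← smul_eq_mul, ← Finsupp.smul_single]
    exact Submodule.smul_mem_smul (h a) trivial

variable [IsNoetherianRing R]

theorem complCoord_injective : Function.Injective (complCoord I α) := by
  rw [injective_iff_map_eq_zero]
  intro x hx
  apply AdicCompletion.ext
  intro n
  obtain ⟨f, hf⟩ := Submodule.Quotient.mk_surjective _ (x.val n)
  rw [← hf, AdicCompletion.val_zero_apply, Submodule.Quotient.mk_eq_zero, mem_pow_smul_top_iff]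
  intro a
  have h := mk_complCoord I α x n f hf.symm a
  rw [hx, Pi.zero_apply, zero_sub] at h
  simpa using neg_mem h

theorem finite_setOf_complCoord (x : AdicCompletion I (α →₀ R)) (n : ℕ) :
    {a | complCoord I α x a ∉ I ^ n}.Finite := by
  obtain ⟨f, hf⟩ := Submodule.Quotient.mk_surjective _ (x.val n)
  refine f.finite_support.subset fun a ha => ?_
  refine Function.mem_support.2 fun h0 => ha ?_
  simpa [h0] using mk_complCoord I α x n f hf.symm a

theorem exists_complCoord_eq (y : α → R) (hy : ∀ n, {a | y a ∉ I ^ n}.Finite) :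
    ∃ x, complCoord I α x = y := by
  classical
  let f : ℕ → (α →₀ R) := fun n =>
    Finsupp.onFinset (hy n).toFinset (fun a => if y a ∈ I ^ n then 0 else y a) fun a ha => by
      rw [Set.Finite.mem_toFinset]
      intro h
      exact ha (if_pos h)
  have hfy : ∀ n a, y a - f n a ∈ I ^ n := fun n a => by
    simp only [f, Finsupp.onFinset_apply]
    split_ifs with h
    · simpa using h
    · simp
  let x : AdicCompletion I (α →₀ R) := ⟨fun n => Submodule.Quotient.mk (f n), fun {m n} hmn => by
    show Submodule.Quotient.mk (f n) = Submodule.Quotient.mk (f m)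
    rw [Submodule.Quotient.eq, mem_pow_smul_top_iff]
    intro a
    rw [Finsupp.sub_apply]
    have := sub_mem (hfy m a) (Ideal.pow_le_pow_right hmn (hfy n a))
    rwa [sub_sub_sub_cancel_left] at this⟩
  refine ⟨x, funext fun a => ?_⟩
  rw [← sub_eq_zero]
  refine IsHausdorff.haus (I := I) inferInstance _ fun n => ?_
  rw [SModEq.zero, Ideal.smul_top_eq_map, Algebra.algebraMap_self, Ideal.map_id]
  have := sub_mem (mk_complCoord I α x n (f n) rfl a) (hfy n a)
  rwa [sub_sub_sub_cancel_right] at this

theorem ui_complCoord : CAlgX.UniversallyInjective R (complCoord I α) := by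
  classical
  haveI : Module.Flat R (α → R) :=
    CAlgUI.flat_powers (fun J _ => Module.finitePresentation_of_finite R J) α
  rw [CAlgUI.ui_iff_quotient_ideals]
  intro J hJ
  rw [injective_iff_map_eq_zero]
  intro w hw
  obtain ⟨x, rfl⟩ : ∃ x : AdicCompletion I (α →₀ R), x ⊗ₜ[R] (1 : R ⧸ J) = w := by
    clear hw
    induction w with
    | zero => exact ⟨0, zero_tmul _ _⟩
    | tmul x c =>
      obtain ⟨c, rfl⟩ := Ideal.Quotient.mk_surjective c
      exact ⟨c • x, by rw [smul_tmul, Algebra.smul_def, mul_one]; rfl⟩
    | add a b ha hb =>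
      obtain ⟨a, rfl⟩ := ha
      obtain ⟨b, rfl⟩ := hb
      exact ⟨a + b, add_tmul _ _ _⟩
  rw [LinearMap.rTensor_tmul, ← TensorProduct.tensorQuotEquivQuotSMul (α → R) J |>.map_eq_zero_iff,
    ← map_one (Ideal.Quotient.mk J), TensorProduct.tensorQuotEquivQuotSMul_tmul_mk, one_smul,
    Submodule.Quotient.mk_eq_zero] at hw
  have hcJ : ∀ a, complCoord I α x a ∈ J := fun a => by
    have h1 : complCoord I α x ∈ (J • ⊤ : Submodule R (α → R)) := hw
    generalize complCoord I α x = z at h1
    induction h1 using Submodule.smul_induction_on' with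
    | smul c hc g _ => exact Ideal.mul_mem_right _ _ hc
    | add g _ g' _ hg hg' => exact add_mem hg hg'
  obtain ⟨m, g, hg⟩ := Submodule.fg_iff_exists_fin_generating_family.1 hJ
  obtain ⟨k, hk⟩ := I.exists_pow_inf_eq_pow_smul (M := R) J
  -- the coefficients
  have hex : ∀ a, ∃ c : Fin m → R, complCoord I α x a = ∑ j, c j * g j ∧
      ∀ e, complCoord I α x a ∈ I ^ (k + e) → ∀ j, c j ∈ I ^ e := by
    intro a
    set z := complCoord I α x a
    by_cases hall : ∀ e, z ∈ I ^ e
    · refine ⟨0, ?_, fun e _ j => zero_mem _⟩
      have : z = 0 := IsHausdorff.haus (I := I) inferInstance z fun n => by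
        rw [SModEq.zero, Ideal.smul_top_eq_map, Algebra.algebraMap_self, Ideal.map_id]
        exact hall n
      simp [this]
    push_neg at hall
    let e₀ := Nat.find hall - 1 - k
    have hmem : z ∈ I ^ e₀ • J := by
      by_cases hk' : k + e₀ ≤ Nat.find hall - 1 ∧ 0 < e₀
      · have hz1 : z ∈ I ^ (k + e₀) := by
          have := Nat.find_min hall (m := k + e₀) (by omega)
          exact not_not.1 this
        have h2 : z ∈ I ^ (k + e₀) • (⊤ : Submodule R R) ⊓ J := by
          refine ⟨?_, hcJ a⟩
          rwa [SetLike.mem_coe, Ideal.smul_top_eq_map, Algebra.algebraMap_self, Ideal.map_id]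
        rw [hk (k + e₀) (Nat.le_add_right k e₀), Nat.add_sub_cancel_left] at h2
        exact (smul_mono_right (I ^ e₀) inf_le_right : _ ≤ I ^ e₀ • (J : Submodule R R)) h2
      · have : e₀ = 0 := by omega
        rw [this, pow_zero, Ideal.one_eq_top, Submodule.top_smul]
        exact hcJ a
    have hJg : (J : Submodule R R) = Submodule.span R (Set.range g) := hg.symm
    rw [hJg, Submodule.mem_ideal_smul_span_iff_exists_sum] at hmem
    obtain ⟨c, hc, hcsum⟩ := hmem
    refine ⟨fun j => c j, ?_, fun e he j => ?_⟩
    · rw [← hcsum, Finsupp.sum_fintype _ _ (by simp)]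
      rfl
    · refine Ideal.pow_le_pow_right ?_ (hc j)
      by_contra hlt
      exact Nat.find_spec hall (Ideal.pow_le_pow_right (by omega) he)
  choose c hc hcpow using hex
  have hy : ∀ j, ∃ y, complCoord I α y = fun a => c a j := fun j =>
    exists_complCoord_eq I α _ fun n => (finite_setOf_complCoord I α x (k + n)).subset fun a ha hmem =>
      ha (hcpow a n hmem j)
  choose y hy using hy
  have hxsum : x = ∑ j, g j • y j := complCoord_injective I α (funext fun a => by
    rw [map_sum, Finset.sum_apply, hc a]
    exact Finset.sum_congr rfl fun j _ => by rw [map_smul, Pi.smul_apply, hy, smul_eq_mul, mul_comm])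
  rw [hxsum, sum_tmul]
  refine Finset.sum_eq_zero fun j _ => ?_
  rw [smul_tmul, Algebra.smul_def, mul_one, Ideal.Quotient.algebraMap_eq,
    Ideal.Quotient.eq_zero_iff_mem.2 (show g j ∈ J from hg ▸ Submodule.subset_span ⟨j, rfl⟩), tmul_zero]

/-- The completion of a free module over a complete Noetherian ring is flat and Mittag-Leffler. -/
theorem flat_ml_completion_free :
    Module.Flat R (AdicCompletion I (α →₀ R)) ∧ CAlg.IsMittagLeffler R (AdicCompletion I (α →₀ R)) :=
  haveI : Module.Flat R (α → R) :=
    CAlgUI.flat_powers (fun J _ => Module.finitePresentation_of_finite R J) α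
  ⟨flat_of_ui _ (ui_complCoord I α), CAlgUI.ml_of_ui _ (ui_complCoord I α) (CAlgUI.ml_powers α)⟩

end Free

end Groth.Agent.RGCore
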