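import Groth.Agent.RGCore.CompletionML
import Groth.Agent.S6270

/-!
The completion of a flat module with projective reduction is a retract of the completion of a free module.
-/

set_option autoImplicit false
set_option linter.unusedSectionVars false

universe u

open TensorProduct

namespace Groth.Agent.RGCore

variable {R : Type u} [CommRing R]

/-- Maps out of a module which is projective over a quotient lift along surjections of modules killed by the ideal. -/
theorem exists_lift_of_projective_quotient (J : Ideal R) (P : Type u) [AddCommGroup P] [Module R P]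
    [Module (R ⧸ J) P] [IsScalarTower R (R ⧸ J) P] [Module.Projective (R ⧸ J) P]
    {X Y : Type u} [AddCommGroup X] [Module R X] [AddCommGroup Y] [Module R Y]
    (hX : ∀ a ∈ J, ∀ x : X, a • x = 0) (g : X →ₗ[R] Y) (hg : Function.Surjective g) (h : P →ₗ[R] Y) :
    ∃ h' : P →ₗ[R] X, g ∘ₗ h' = h := by
  classical
  obtain ⟨σ, hσ⟩ := Module.projective_def'.1 ‹Module.Projective (R ⧸ J) P›
  choose x hx using fun p => hg (h p)
  let φ : P → ((R ⧸ J) →ₗ[R] X) := fun p => Submodule.liftQ J (LinearMap.toSpanSingleton R X (x p))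
    fun a ha => by
      rw [LinearMap.mem_ker, LinearMap.toSpanSingleton_apply]
      exact hX a ha _
  let Ψ : (P →₀ R ⧸ J) →ₗ[R] X := Finsupp.lsum R φ
  have key : ∀ z : P →₀ R ⧸ J, g (Ψ z) = h (Finsupp.linearCombination (R ⧸ J) id z) := by
    intro z
    induction z using Finsupp.induction_linear with
    | zero => simp
    | add a b ha hb => simp only [map_add, ha, hb]
    | single p c =>
      obtain ⟨c, rfl⟩ := Ideal.Quotient.mk_surjective c
      simp only [Ψ, Finsupp.lsum_single, Finsupp.linearCombination_single, id]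
      show g (c • x p) = h (Ideal.Quotient.mk J c • p)
      rw [map_smul, hx, ← map_smul, ← Ideal.Quotient.algebraMap_eq, algebraMap_smul]
  refine ⟨Ψ ∘ₗ σ.restrictScalars R, LinearMap.ext fun p => ?_⟩
  exact (key _).trans (congrArg h (LinearMap.congr_fun hσ p))

variable (I : Ideal R) (M : Type u) [AddCommGroup M] [Module R M] [Module.Flat R M]

/-- The reductions modulo powers are projective. -/
theorem projective_quotient_pow [Module.Projective (R ⧸ I) (M ⧸ (I • ⊤ : Submodule R M))] (n : ℕ) :
    Module.Projective (R ⧸ I ^ n) (M ⧸ (I ^ n • ⊤ : Submodule R M)) := by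
  let A := R ⧸ I ^ n
  let Ī : Ideal A := I.map (Ideal.Quotient.mk (I ^ n))
  have hI : IsNilpotent Ī := ⟨n, by rw [← Ideal.map_pow, Ideal.map_quotient_self]; rfl⟩
  let eI : (R ⧸ I) ⊗[R] M ≃ₗ[R ⧸ I] M ⧸ (I • ⊤ : Submodule R M) :=
    { TensorProduct.quotTensorEquivQuotSMul M I with
      map_smul' := fun c x => by
        obtain ⟨c, rfl⟩ := Ideal.Quotient.mk_surjective c
        rw [← Ideal.Quotient.algebraMap_eq]
        simp only [algebraMap_smul, RingHom.id_apply]
        exact map_smul (TensorProduct.quotTensorEquivQuotSMul M I) c x }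
  have : Module.Projective (R ⧸ I) ((R ⧸ I) ⊗[R] M) := Module.Projective.of_equiv eI.symm
  let : Algebra (R ⧸ I) (A ⧸ Ī) :=
    (Ideal.quotientMap Ī (Ideal.Quotient.mk (I ^ n)) Ideal.le_comap_map).toAlgebra
  have : IsScalarTower R (R ⧸ I) (A ⧸ Ī) := .of_algebraMap_eq fun _ => rfl
  have : Module.Projective (A ⧸ Ī) ((A ⧸ Ī) ⊗[A] (A ⊗[R] M)) :=
    Module.Projective.of_equiv ((AlgebraTensorModule.cancelBaseChange R (R ⧸ I) (A ⧸ Ī) (A ⧸ Ī) M) ≪≫ₗ
      (AlgebraTensorModule.cancelBaseChange R A (A ⧸ Ī) (A ⧸ Ī) M).symm)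
  have hP : Module.Projective A (A ⊗[R] M) := Groth.Agent.S6270.result Ī hI (A ⊗[R] M) this
  let en : A ⊗[R] M ≃ₗ[A] M ⧸ (I ^ n • ⊤ : Submodule R M) :=
    { TensorProduct.quotTensorEquivQuotSMul M (I ^ n) with
      map_smul' := fun c x => by
        obtain ⟨c, rfl⟩ := Ideal.Quotient.mk_surjective c
        rw [← Ideal.Quotient.algebraMap_eq]
        simp only [algebraMap_smul, RingHom.id_apply]
        exact map_smul (TensorProduct.quotTensorEquivQuotSMul M (I ^ n)) c x }
  exact Module.Projective.of_equiv en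

/-- The completion of a flat module with projective reduction, over a complete Noetherian ring, is flat and
Mittag-Leffler. -/
theorem flat_ml_completion_of_projective [IsNoetherianRing R] [IsAdicComplete I R]
    [Module.Projective (R ⧸ I) (M ⧸ (I • ⊤ : Submodule R M))] :
    Module.Flat R (AdicCompletion I M) ∧ CAlg.IsMittagLeffler R (AdicCompletion I M) := by
  classical
  let F := M →₀ R
  let lc : F →ₗ[R] M := Finsupp.linearCombination R id
  let f : ∀ n, (F ⧸ (I ^ n • ⊤ : Submodule R F)) →ₗ[R] (M ⧸ (I ^ n • ⊤ : Submodule R M)) := fun n =>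
    lc.reduceModIdeal (I ^ n)
  have hlc : Function.Surjective lc := fun m =>
    ⟨Finsupp.single m 1, (Finsupp.linearCombination_single R _ _).trans (one_smul R m)⟩
  have hf : ∀ n, Function.Surjective (f n) := by
    intro n y
    obtain ⟨m, rfl⟩ := Submodule.Quotient.mk_surjective _ y
    obtain ⟨z, rfl⟩ := hlc m
    exact ⟨Submodule.Quotient.mk z, rfl⟩
  have hle : ∀ (X : Type u) [AddCommGroup X] [Module R X] (n : ℕ),
      (I ^ (n + 1) • ⊤ : Submodule R X) ≤ I ^ n • ⊤ := fun X _ _ n =>
    Submodule.smul_mono_left (Ideal.pow_le_pow_right n.le_succ)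
  have step : ∀ (n : ℕ) (s : (M ⧸ (I ^ n • ⊤ : Submodule R M)) →ₗ[R] F ⧸ (I ^ n • ⊤ : Submodule R F)),
      f n ∘ₗ s = LinearMap.id →
      ∃ s' : (M ⧸ (I ^ (n + 1) • ⊤ : Submodule R M)) →ₗ[R] F ⧸ (I ^ (n + 1) • ⊤ : Submodule R F),
        f (n + 1) ∘ₗ s' = LinearMap.id ∧
        Submodule.factor (hle F n) ∘ₗ s' = s ∘ₗ Submodule.factor (hle M n) := by
    intro n s hs
    have := projective_quotient_pow I M (n + 1)
    have hkill : ∀ (X : Type u) [AddCommGroup X] [Module R X], ∀ a ∈ I ^ (n + 1),
        ∀ x : X ⧸ (I ^ (n + 1) • ⊤ : Submodule R X), a • x = 0 := by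
      intro X _ _ a ha x
      obtain ⟨x, rfl⟩ := Submodule.Quotient.mk_surjective _ x
      rw [← Submodule.Quotient.mk_smul, Submodule.Quotient.mk_eq_zero]
      exact Submodule.smul_mem_smul ha trivial
    obtain ⟨t, ht⟩ := exists_lift_of_projective_quotient (I ^ (n + 1)) (M ⧸ (I ^ (n + 1) • ⊤ : Submodule R M))
      (hkill F) (f (n + 1)) (hf _) LinearMap.id
    let K := LinearMap.ker (f (n + 1))
    let K' := LinearMap.ker (f n)
    have hnat : ∀ z, f n (Submodule.factor (hle F n) z) = Submodule.factor (hle M n) (f (n + 1) z) := by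
      intro z
      obtain ⟨z, rfl⟩ := Submodule.Quotient.mk_surjective _ z
      rfl
    let red : K →ₗ[R] K' := ((Submodule.factor (hle F n)).comp K.subtype).codRestrict K' fun z => by
      show f n (Submodule.factor (hle F n) z.1) = 0
      rw [hnat, LinearMap.mem_ker.1 z.2, map_zero]
    have hred : Function.Surjective red := by
      rintro ⟨z, hz⟩
      obtain ⟨z, rfl⟩ := Submodule.Quotient.mk_surjective _ z
      have hz' : lc z ∈ (I ^ n • ⊤ : Submodule R M) := (Submodule.Quotient.mk_eq_zero _).1 hz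
      rw [← (LinearMap.range_eq_top.2 hlc : LinearMap.range lc = ⊤), LinearMap.range_eq_map,
        ← Submodule.map_smul''] at hz'
      obtain ⟨z', hz₁, hz₂⟩ := hz'
      refine ⟨⟨Submodule.Quotient.mk (z - z'), ?_⟩, Subtype.ext ?_⟩
      · show Submodule.Quotient.mk (lc (z - z')) = 0
        rw [map_sub, hz₂, sub_self]
        rfl
      · show (Submodule.Quotient.mk (z - z') : F ⧸ (I ^ n • ⊤ : Submodule R F)) = Submodule.Quotient.mk z
        rw [Submodule.Quotient.eq]
        simpa using neg_mem hz₁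
    have hδ : ∀ x, (s ∘ₗ Submodule.factor (hle M n) - Submodule.factor (hle F n) ∘ₗ t) x ∈ K' := fun x => by
      show f n _ = 0
      rw [LinearMap.sub_apply, map_sub, LinearMap.comp_apply, LinearMap.comp_apply, hnat,
        show f (n + 1) (t x) = x from LinearMap.congr_fun ht x]
      exact sub_eq_zero.2 (LinearMap.congr_fun hs _)
    obtain ⟨d, hd⟩ := exists_lift_of_projective_quotient (I ^ (n + 1)) (M ⧸ (I ^ (n + 1) • ⊤ : Submodule R M))
      (fun a ha z => Subtype.ext (hkill F a ha z.1)) red hred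
      ((s ∘ₗ Submodule.factor (hle M n) - Submodule.factor (hle F n) ∘ₗ t).codRestrict K' hδ)
    refine ⟨t + K.subtype ∘ₗ d, LinearMap.ext fun x => ?_, LinearMap.ext fun x => ?_⟩
    · rw [LinearMap.comp_apply, LinearMap.add_apply, map_add, LinearMap.comp_apply, Submodule.subtype_apply,
        LinearMap.mem_ker.1 (d x).2, add_zero]
      exact LinearMap.congr_fun ht x
    · have h1 := congrArg Subtype.val (LinearMap.congr_fun hd x)
      change Submodule.factor (hle F n) (d x).1 = s (Submodule.factor (hle M n) x) - Submodule.factor (hle F n) (t x) at h1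
      rw [LinearMap.comp_apply, LinearMap.add_apply, map_add, LinearMap.comp_apply, Submodule.subtype_apply, h1,
        add_sub_cancel]
      rfl
  choose next hnext₁ hnext₂ using step
  have h0 : f 0 ∘ₗ (0 : (M ⧸ (I ^ 0 • ⊤ : Submodule R M)) →ₗ[R] _) = LinearMap.id := LinearMap.ext fun x => by
    obtain ⟨x, rfl⟩ := Submodule.Quotient.mk_surjective _ x
    have : (Submodule.Quotient.mk x : M ⧸ (I ^ 0 • ⊤ : Submodule R M)) = 0 := by
      rw [Submodule.Quotient.mk_eq_zero, pow_zero, Ideal.one_eq_top, Submodule.top_smul]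
      trivial
    rw [LinearMap.id_apply, this, map_zero]
  let S : ∀ n, {s : (M ⧸ (I ^ n • ⊤ : Submodule R M)) →ₗ[R] F ⧸ (I ^ n • ⊤ : Submodule R F) //
      f n ∘ₗ s = LinearMap.id} := fun n => Nat.rec ⟨0, h0⟩ (fun k s => ⟨next k s.1 s.2, hnext₁ k s.1 s.2⟩) n
  have hS : ∀ {m n : ℕ} (hmn : m ≤ n),
      AdicCompletion.transitionMap I F hmn ∘ₗ (S n).1 = (S m).1 ∘ₗ AdicCompletion.transitionMap I M hmn := by
    intro m n hmn
    induction hmn with
    | refl =>
      ext x
      simp [AdicCompletion.transitionMap]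
    | @step k hk ih =>
      ext x
      have h1 : Submodule.factor (hle F k) ((S (k + 1)).1 (Submodule.Quotient.mk x)) =
          (S k).1 (Submodule.Quotient.mk x) :=
        LinearMap.congr_fun (hnext₂ k (S k).1 (S k).2) (Submodule.Quotient.mk x)
      have h2 := LinearMap.congr_fun ih (Submodule.Quotient.mk x)
      simp only [LinearMap.comp_apply] at h2 ⊢
      rw [← h1] at h2
      refine Eq.trans ?_ h2
      obtain ⟨z, hz⟩ := Submodule.Quotient.mk_surjective _ ((S (k + 1)).1 (Submodule.Quotient.mk x))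
      show AdicCompletion.transitionMap I F (Nat.le.step hk) ((S (k + 1)).1 (Submodule.Quotient.mk x)) = _
      rw [← hz]
      rfl
  let σ : AdicCompletion I M →ₗ[R] AdicCompletion I F :=
    AdicCompletion.lift I (fun n => (S n).1 ∘ₗ AdicCompletion.eval I M n) fun {m n} hmn => by
      rw [← LinearMap.comp_assoc, hS hmn, LinearMap.comp_assoc, AdicCompletion.transitionMap_comp_eval]
  have hret : (AdicCompletion.map I lc).restrictScalars R ∘ₗ σ = LinearMap.id := LinearMap.ext fun x => by
    apply AdicCompletion.ext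
    intro n
    exact LinearMap.congr_fun (S n).2 (x.val n)
  obtain ⟨hflat, hml⟩ := flat_ml_completion_free I M
  exact ⟨Module.Flat.of_retract σ _ hret, CAlgUI.ml_of_ui σ (CAlgUI.ui_of_leftInverse _ hret) hml⟩

end Groth.Agent.RGCore
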