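import Mathlib
import Groth.Agent.S0397

/-!
# The content lemma at a prime

`R₀ → B₀` and `R₀ → A` are local homomorphisms of local rings, `R₀` and `B₀` Noetherian, such that
`κ(B₀) ⊗ κ(A)` is a domain, and `E` is a `B₀`-module flat over `R₀`.  For an `A`-module `X` and an element
`v` of `E ⊗ X` killed by a power of the maximal ideal of `B₀` and by none of the elements `t` of
`B₀ ⊗ A` which are nonzero in `κ(B₀) ⊗ κ(A)`, there is a nonzero element of `X` lying in every submodule
`Y` of `X` with `t • v` coming from `E ⊗ Y` for such a `t`.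
-/

set_option autoImplicit false
set_option linter.unusedSectionVars false

universe u

open TensorProduct IsLocalRing

namespace Groth.Agent.RGCore

section basisMod

variable {R : Type u} [CommRing R]

/-- Elements of `E` forming a basis modulo `I` give coordinates on `E ⊗ X` for `X` killed by `I`. -/
theorem exists_coord (I : Ideal R) (E : Type u) [AddCommGroup E] [Module R E]
    [Module.Free (R ⧸ I) ((R ⧸ I) ⊗[R] E)] :
    ∃ (ι : Type u) (e : ι → E), ∀ (X : Type u) [AddCommGroup X] [Module R X],
      (∀ r ∈ I, ∀ x : X, r • x = 0) →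
        Function.Bijective (Finsupp.lsum R (fun i => TensorProduct.mk R E X (e i))) := by
  classical
  let b := Module.Free.chooseBasis (R ⧸ I) ((R ⧸ I) ⊗[R] E)
  have hsurj : ∀ z : (R ⧸ I) ⊗[R] E, ∃ e : E, (1 : R ⧸ I) ⊗ₜ[R] e = z := by
    intro z
    induction z with
    | zero => exact ⟨0, tmul_zero _ _⟩
    | tmul r x =>
      obtain ⟨r, rfl⟩ := Ideal.Quotient.mk_surjective r
      exact ⟨r • x, by rw [← smul_tmul, Algebra.smul_def, mul_one, Ideal.Quotient.algebraMap_eq]⟩
    | add y z hy hz =>
      obtain ⟨y', rfl⟩ := hy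
      obtain ⟨z', rfl⟩ := hz
      exact ⟨y' + z', tmul_add _ _ _⟩
  choose e he using fun i => hsurj (b i)
  refine ⟨_, e, fun X _ _ hX => ?_⟩
  let act : (R ⧸ I) →ₗ[R] X →ₗ[R] X :=
    Submodule.liftQ I (LinearMap.lsmul R X) fun r hr => LinearMap.ext fun x => hX r hr x
  have hact : ∀ r x, act (Ideal.Quotient.mk I r) x = r • x := fun r x => rfl
  let coord : E →ₗ[R] _ := (b.repr.toLinearMap.restrictScalars R) ∘ₗ (TensorProduct.mk R (R ⧸ I) E 1)
  let inv : E ⊗[R] X →ₗ[R] _ →₀ X := TensorProduct.lift
    (LinearMap.mk₂ R (fun y x => Finsupp.mapRange.linearMap (act.flip x) (coord y))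
      (fun y y' x => by simp only [map_add])
      (fun c y x => by simp only [map_smul])
      (fun y x x' => by
        ext i
        simp [Finsupp.mapRange.linearMap_apply, Finsupp.mapRange_apply, map_add])
      (fun c y x => by
        ext i
        simp [Finsupp.mapRange.linearMap_apply, Finsupp.mapRange_apply, map_smul]))
  let f := Finsupp.lsum R (fun i => TensorProduct.mk R E X (e i))
  have h1 : inv ∘ₗ f = LinearMap.id := by
    refine Finsupp.lhom_ext fun i x => ?_
    simp only [f, LinearMap.comp_apply, Finsupp.lsum_single, TensorProduct.mk_apply, inv,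
      TensorProduct.lift.tmul, LinearMap.mk₂_apply, LinearMap.id_apply]
    rw [show coord (e i) = Finsupp.single i (1 : R ⧸ I) by
      show b.repr ((1 : R ⧸ I) ⊗ₜ[R] e i) = _
      rw [he, Module.Basis.repr_self]]
    rw [Finsupp.mapRange.linearMap_apply, Finsupp.mapRange_single]
    show Finsupp.single i (act (Ideal.Quotient.mk I 1) x) = _
    rw [hact, one_smul]
  refine ⟨Function.LeftInverse.injective (g := inv) fun z => LinearMap.congr_fun h1 z, fun z => ?_⟩
  induction z with
  | zero => exact ⟨0, map_zero _⟩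
  | add y z hy hz =>
    obtain ⟨a, rfl⟩ := hy
    obtain ⟨c, rfl⟩ := hz
    exact ⟨a + c, map_add _ _ _⟩
  | tmul y x =>
    let l := coord y
    choose r hr using fun i => Ideal.Quotient.mk_surjective (I := I) (l i)
    refine ⟨∑ i ∈ l.support, Finsupp.single i (r i • x), ?_⟩
    have hd : (1 : R ⧸ I) ⊗ₜ[R] (y - ∑ i ∈ l.support, r i • e i) = 0 := by
      rw [tmul_sub, sub_eq_zero, tmul_sum]
      conv_lhs => rw [← b.linearCombination_repr ((1 : R ⧸ I) ⊗ₜ[R] y)]
      rw [Finsupp.linearCombination_apply, Finsupp.sum]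
      refine Finset.sum_congr rfl fun i _ => ?_
      rw [show b.repr ((1 : R ⧸ I) ⊗ₜ[R] y) i = l i from rfl, ← hr i, tmul_smul, he,
        ← algebraMap_smul (R ⧸ I) (r i) (b i), Ideal.Quotient.algebraMap_eq]
    have hd' : (y - ∑ i ∈ l.support, r i • e i) ⊗ₜ[R] x = 0 := by
      let g : (R ⧸ I) ⊗[R] E →ₗ[R] E ⊗[R] X :=
        ((TensorProduct.comm R X E).toLinearMap) ∘ₗ (act.flip x).rTensor E
      have := congr(g $hd)
      simpa [g, show act 1 x = x from (hact 1 x).trans (one_smul R x)] using this
    rw [sub_tmul, sub_eq_zero] at hd'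
    rw [map_sum, hd', sum_tmul]
    refine Finset.sum_congr rfl fun i _ => ?_
    simp only [Finsupp.lsum_single, TensorProduct.mk_apply, smul_tmul]

end basisMod

section Tau

variable {R₀ B₀ A : Type u} [CommRing R₀] [CommRing B₀] [CommRing A] [Algebra R₀ B₀] [Algebra R₀ A]
variable (K : Type u) [AddCommGroup K] [Module R₀ K] [Module B₀ K] [IsScalarTower R₀ B₀ K]
variable (X : Type u) [AddCommGroup X] [Module R₀ X] [Module A X] [IsScalarTower R₀ A X]

/-- The action of `B₀ ⊗ A` on `K ⊗ X`. -/
noncomputable def tau : B₀ ⊗[R₀] A →ₗ[R₀] Module.End R₀ (K ⊗[R₀] X) :=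
  TensorProduct.lift <| LinearMap.mk₂ R₀
    (fun b a => TensorProduct.map (Algebra.lsmul R₀ R₀ K b) (Algebra.lsmul R₀ R₀ X a))
    (fun b b' a => by rw [map_add, map_add_left])
    (fun c b a => by rw [map_smul, map_smul_left])
    (fun b a a' => by rw [map_add, map_add_right])
    (fun c b a => by rw [map_smul, map_smul_right])

theorem tau_tmul (b : B₀) (a : A) (k : K) (x : X) :
    tau K X (b ⊗ₜ[R₀] a) (k ⊗ₜ[R₀] x) = (b • k) ⊗ₜ[R₀] (a • x) := rfl

variable {K X}
variable {K' : Type u} [AddCommGroup K'] [Module R₀ K'] [Module B₀ K'] [IsScalarTower R₀ B₀ K']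
variable {X' : Type u} [AddCommGroup X'] [Module R₀ X'] [Module A X'] [IsScalarTower R₀ A X']

theorem tau_lTensor (g : X →ₗ[A] X') (t : B₀ ⊗[R₀] A) (z : K ⊗[R₀] X) :
    (g.restrictScalars R₀).lTensor K (tau K X t z) = tau K X' t ((g.restrictScalars R₀).lTensor K z) := by
  induction t with
  | zero => simp
  | add t t' h h' => simp only [map_add, LinearMap.add_apply, h, h']
  | tmul b a =>
    induction z with
    | zero => simp
    | add z z' h h' => simp only [map_add, h, h']
    | tmul k x => simp [tau_tmul]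

theorem tau_rTensor (f : K →ₗ[B₀] K') (t : B₀ ⊗[R₀] A) (z : K ⊗[R₀] X) :
    (f.restrictScalars R₀).rTensor X (tau K X t z) = tau K' X t ((f.restrictScalars R₀).rTensor X z) := by
  induction t with
  | zero => simp
  | add t t' h h' => simp only [map_add, LinearMap.add_apply, h, h']
  | tmul b a =>
    induction z with
    | zero => simp
    | add z z' h h' => simp only [map_add, h, h']
    | tmul k x => simp [tau_tmul]

theorem tau_smul (t : B₀ ⊗[R₀] A) (b : B₀) (z : K ⊗[R₀] X) :
    tau K X t (b • z) = b • tau K X t z := by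
  induction t with
  | zero => simp
  | add t t' h h' => simp only [map_add, LinearMap.add_apply, h, h', smul_add]
  | tmul c a =>
    induction z with
    | zero => simp
    | add z z' h h' => simp only [smul_add, map_add, h, h']
    | tmul k x => simp only [smul_tmul', tau_tmul, smul_comm b c]

theorem tau_mul (t t' : B₀ ⊗[R₀] A) (z : K ⊗[R₀] X) :
    tau K X (t * t') z = tau K X t (tau K X t' z) := by
  induction t with
  | zero => simp
  | add t s h h' => simp only [add_mul, map_add, LinearMap.add_apply, h, h']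
  | tmul b a =>
    induction t' with
    | zero => simp
    | add t s h h' => simp only [mul_add, map_add, LinearMap.add_apply, h, h']
    | tmul b' a' =>
      induction z with
      | zero => simp
      | add z z' h h' => simp only [map_add, h, h']
      | tmul k x => simp [tau_tmul, mul_smul]

end Tau

section Content

variable {R₀ : Type u} [CommRing R₀] [IsLocalRing R₀]
  {B₀ : Type u} [CommRing B₀] [IsLocalRing B₀] [Algebra R₀ B₀] [IsLocalHom (algebraMap R₀ B₀)]
  {A : Type u} [CommRing A] [IsLocalRing A] [Algebra R₀ A] [IsLocalHom (algebraMap R₀ A)]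

variable (R₀ B₀ A) in
/-- Reduction to the residue fields. -/
noncomputable def theta : B₀ ⊗[R₀] A →ₐ[R₀] ResidueField B₀ ⊗[R₀] ResidueField A :=
  Algebra.TensorProduct.map (IsScalarTower.toAlgHom R₀ B₀ _) (IsScalarTower.toAlgHom R₀ A _)

theorem tau_residue (t : B₀ ⊗[R₀] A) (z : ResidueField B₀ ⊗[R₀] ResidueField A) :
    tau (ResidueField B₀) (ResidueField A) t z = theta R₀ B₀ A t * z := by
  induction t with
  | zero => simp
  | add t t' h h' => simp only [map_add, LinearMap.add_apply, h, h', add_mul]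
  | tmul b a =>
    induction z with
    | zero => simp
    | add z z' h h' => simp only [map_add, h, h', mul_add]
    | tmul k x => simp [tau_tmul, theta, Algebra.smul_def]

/-- Over the residue field of `B₀` the action of a good element is injective. -/
theorem eq_zero_of_tau_residue [IsDomain (ResidueField B₀ ⊗[R₀] ResidueField A)]
    (X : Type u) [AddCommGroup X] [Module R₀ X] [Module A X] [IsScalarTower R₀ A X]
    (hX : ∀ r ∈ maximalIdeal R₀, ∀ x : X, r • x = 0)
    {t : B₀ ⊗[R₀] A} (ht : theta R₀ B₀ A t ≠ 0) (z : ResidueField B₀ ⊗[R₀] X)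
    (hz : tau (ResidueField B₀) X t z = 0) : z = 0 := by
  classical
  let := Ideal.Quotient.field (maximalIdeal R₀)
  obtain ⟨ι, e, he⟩ := exists_coord (maximalIdeal R₀) (ResidueField B₀)
  obtain ⟨l, rfl⟩ := (he X hX).2 z
  let c : Submodule A X := Submodule.span A (Set.range fun i : l.support => l i)
  have hc : c.FG := Submodule.fg_span (Set.finite_range _)
  have hlc : ∀ i, l i ∈ c := fun i => by
    by_cases h : i ∈ l.support
    · exact Submodule.subset_span ⟨⟨i, h⟩, rfl⟩
    · rw [Finsupp.notMem_support_iff.1 h]; exact zero_mem _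
  have hcX : ∀ r ∈ maximalIdeal R₀, ∀ x : c, r • x = 0 := fun r hr x => Subtype.ext (hX r hr x)
  let l' : ι →₀ c := Finsupp.onFinset l.support (fun i => ⟨l i, hlc i⟩) fun i hi => by
    rw [Finsupp.mem_support_iff]
    exact fun h => hi (Subtype.ext h)
  have nat : ∀ {U V : Type u} [AddCommGroup U] [Module R₀ U] [AddCommGroup V] [Module R₀ V]
      (g : U →ₗ[R₀] V) (w : ι →₀ U),
      g.lTensor (ResidueField B₀) (Finsupp.lsum R₀ (fun i => TensorProduct.mk R₀ _ U (e i)) w) =
        Finsupp.lsum R₀ (fun i => TensorProduct.mk R₀ _ V (e i)) (w.mapRange g (map_zero g)) := by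
    intro U V _ _ _ _ g w
    induction w using Finsupp.induction_linear with
    | zero => simp
    | add a b ha hb => rw [map_add, map_add, ha, hb, Finsupp.mapRange_add (fun x y => map_add g x y), map_add]
    | single i x => simp [Finsupp.lsum_single, Finsupp.mapRange_single]
  have hl' : l'.mapRange (c.subtype.restrictScalars R₀) (map_zero _) = l := by ext i; simp [l']
  have hinj : Function.Injective ((c.subtype.restrictScalars R₀).lTensor (ResidueField B₀)) := by
    intro a b hab
    obtain ⟨a, rfl⟩ := (he c hcX).2 a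
    obtain ⟨b, rfl⟩ := (he c hcX).2 b
    rw [nat, nat] at hab
    exact congr_arg _ (Finsupp.mapRange_injective _ _ Subtype.val_injective ((he X hX).1 hab))
  set z' := Finsupp.lsum R₀ (fun i => TensorProduct.mk R₀ (ResidueField B₀) c (e i)) l' with hz'def
  have hz' : tau (ResidueField B₀) c t z' = 0 := by
    refine hinj ?_
    rw [map_zero, tau_lTensor, hz'def, nat, hl']
    exact hz
  -- reduce modulo the maximal ideal of `A`
  let Q := c ⧸ (maximalIdeal A) • (⊤ : Submodule A c)
  have hQ : Module.IsTorsionBySet A Q (maximalIdeal A : Set A) := by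
    rintro x ⟨a, ha⟩
    obtain ⟨x, rfl⟩ := Submodule.mkQ_surjective _ x
    rw [← map_smul, Submodule.mkQ_apply, Submodule.Quotient.mk_eq_zero]
    exact Submodule.smul_mem_smul ha trivial
  let : Module (ResidueField A) Q := hQ.module
  have : IsScalarTower A (ResidueField A) Q := hQ.isScalarTower
  have hl0 : ∀ i, ((maximalIdeal A) • (⊤ : Submodule A c)).mkQ (l' i) = 0 := by
    intro i
    rw [← Module.forall_dual_apply_eq_zero_iff (ResidueField A)]
    intro η
    let g : c →ₗ[A] ResidueField A :=
      (η.restrictScalars A) ∘ₗ ((maximalIdeal A) • (⊤ : Submodule A c)).mkQ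
    have h1 := congr((g.restrictScalars R₀).lTensor (ResidueField B₀) $hz')
    rw [map_zero, tau_lTensor, tau_residue, mul_eq_zero, or_iff_right ht, hz'def, nat] at h1
    have hk : ∀ r ∈ maximalIdeal R₀, ∀ x : ResidueField A, r • x = 0 := fun r hr x => by
      rw [Algebra.smul_def, IsScalarTower.algebraMap_apply R₀ A (ResidueField A)]
      rw [show algebraMap A (ResidueField A) (algebraMap R₀ A r) = 0 from
        (IsLocalRing.residue_eq_zero_iff _).2 (map_nonunit (algebraMap R₀ A) r hr), zero_mul]
    have := DFunLike.congr_fun ((he _ hk).1 (h1.trans (map_zero _).symm)) i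
    simpa [g] using this
  have hc0 : c = ⊥ := by
    refine Submodule.eq_bot_of_le_smul_of_le_jacobson_bot (maximalIdeal A) c hc ?_ (maximalIdeal_le_jacobson ⊥)
    refine Submodule.span_le.2 ?_
    rintro _ ⟨i, rfl⟩
    have h := (Submodule.Quotient.mk_eq_zero _).1 (hl0 i)
    have := Submodule.mem_map_of_mem (f := c.subtype) h
    rwa [Submodule.map_smul'', Submodule.map_top, Submodule.range_subtype] at this
  have : l = 0 := Finsupp.ext fun i => by simpa [hc0] using hlc i
  rw [this, map_zero]

variable (E : Type u) [AddCommGroup E] [Module R₀ E] [Module B₀ E] [IsScalarTower R₀ B₀ E]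

/-- The case of a module killed by the maximal ideal of `R₀` and an element killed by that of `B₀`. -/
theorem eq_zero_of_killed [IsDomain (ResidueField B₀ ⊗[R₀] ResidueField A)]
    (X : Type u) [AddCommGroup X] [Module R₀ X] [Module A X] [IsScalarTower R₀ A X]
    (hX : ∀ r ∈ maximalIdeal R₀, ∀ x : X, r • x = 0)
    {t : B₀ ⊗[R₀] A} (ht : theta R₀ B₀ A t ≠ 0) (z : E ⊗[R₀] X)
    (hz : ∀ b ∈ maximalIdeal B₀, b • z = 0) (hzt : tau E X t z = 0) : z = 0 := by
  classical
  let := Ideal.Quotient.field (maximalIdeal R₀)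
  obtain ⟨ι, y, hy⟩ := exists_coord (maximalIdeal R₀) X
  let mE : Submodule B₀ E := ((maximalIdeal R₀).map (algebraMap R₀ B₀)) • ⊤
  -- coordinates with respect to a basis of `X` modulo the maximal ideal, for modules killed by it
  have hco : ∀ (K : Type u) [AddCommGroup K] [Module R₀ K], (∀ r ∈ maximalIdeal R₀, ∀ k : K, r • k = 0) →
      Function.Bijective (Finsupp.lsum R₀ (fun i => (TensorProduct.mk R₀ K X).flip (y i))) := by
    intro K _ _ hK
    have h : Finsupp.lsum R₀ (fun i => (TensorProduct.mk R₀ K X).flip (y i)) =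
        (TensorProduct.comm R₀ X K).toLinearMap ∘ₗ Finsupp.lsum R₀ (fun i => TensorProduct.mk R₀ X K (y i)) := by
      refine Finsupp.lhom_ext fun i x => ?_
      simp
    rw [h]
    exact (TensorProduct.comm R₀ X K).bijective.comp (hy K hK)
  have hT : ∀ r ∈ maximalIdeal R₀, ∀ k : E ⧸ mE, r • k = 0 := by
    intro r hr k
    obtain ⟨e, rfl⟩ := mE.mkQ_surjective k
    rw [← algebraMap_smul B₀ r, ← map_smul, Submodule.mkQ_apply, Submodule.Quotient.mk_eq_zero]
    exact Submodule.smul_mem_smul (Ideal.mem_map_of_mem _ hr) trivial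
  let q : E →ₗ[B₀] E ⧸ mE := mE.mkQ
  have hqinj : Function.Injective ((q.restrictScalars R₀).rTensor X) := by
    rw [injective_iff_map_eq_zero]
    intro w hw
    obtain ⟨w', rfl⟩ := (rTensor_exact X (f := ((mE.restrictScalars R₀).subtype))
      (g := q.restrictScalars R₀) (fun e => by simp [q, Submodule.Quotient.mk_eq_zero])
      mE.mkQ_surjective w).1 hw
    suffices ((mE.restrictScalars R₀).subtype).rTensor X = 0 by rw [this, LinearMap.zero_apply]
    refine TensorProduct.ext' fun e x => ?_
    obtain ⟨e, he⟩ := e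
    rw [LinearMap.rTensor_tmul, LinearMap.zero_apply]
    show e ⊗ₜ[R₀] x = 0
    rw [Submodule.restrictScalars_mem] at he
    have he' : e ∈ (maximalIdeal R₀) • (⊤ : Submodule R₀ E) := by
      rw [← Submodule.restrictScalars_top R₀ B₀ E, ← Ideal.smul_restrictScalars]; exact he
    refine Submodule.smul_induction_on he' (fun r hr n _ => ?_) (fun a b ha hb => by rw [add_tmul, ha, hb, add_zero])
    rw [smul_tmul, hX r hr, tmul_zero]
  refine hqinj ?_
  rw [map_zero]
  obtain ⟨l, hl⟩ := (hco _ hT).2 ((q.restrictScalars R₀).rTensor X z)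
  have nat : ∀ {U V : Type u} [AddCommGroup U] [Module R₀ U] [AddCommGroup V] [Module R₀ V]
      (g : U →ₗ[R₀] V) (w : ι →₀ U),
      g.rTensor X (Finsupp.lsum R₀ (fun i => (TensorProduct.mk R₀ U X).flip (y i)) w) =
        Finsupp.lsum R₀ (fun i => (TensorProduct.mk R₀ V X).flip (y i)) (w.mapRange g (map_zero g)) := by
    intro U V _ _ _ _ g w
    induction w using Finsupp.induction_linear with
    | zero => simp
    | add a b ha hb => rw [map_add, map_add, ha, hb, Finsupp.mapRange_add (fun x y => map_add g x y), map_add]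
    | single i x => simp [Finsupp.lsum_single, Finsupp.mapRange_single]
  let G : Submodule B₀ (E ⧸ mE) := Submodule.torsionBySet B₀ (E ⧸ mE) (maximalIdeal B₀ : Set B₀)
  have hlG : ∀ i, l i ∈ G := by
    intro i
    rw [Submodule.mem_torsionBySet_iff]
    rintro ⟨b, hb⟩
    let g : E ⧸ mE →ₗ[R₀] E ⧸ mE := Algebra.lsmul R₀ R₀ (E ⧸ mE) b
    have hg : ∀ w, g.rTensor X w = b • w := by
      intro w
      induction w with
      | zero => simp
      | add a c ha hc => simp only [map_add, smul_add, ha, hc]
      | tmul a c => rw [LinearMap.rTensor_tmul, smul_tmul']; rfl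
    have hq : ∀ w, (q.restrictScalars R₀).rTensor X (b • w) = b • (q.restrictScalars R₀).rTensor X w := by
      intro w
      induction w with
      | zero => simp
      | add a c ha hc => simp only [map_add, smul_add, ha, hc]
      | tmul a c => simp [smul_tmul']
    have h1 := hg (Finsupp.lsum R₀ (fun i => (TensorProduct.mk R₀ (E ⧸ mE) X).flip (y i)) l)
    rw [nat, hl, ← hq, hz b hb, map_zero] at h1
    have := DFunLike.congr_fun ((hco _ hT).1 (h1.trans (map_zero _).symm)) i
    simpa [g] using this
  let : Module (ResidueField B₀) G := (Submodule.torsionBySet_isTorsionBySet (maximalIdeal B₀ : Set B₀)).module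
  have : IsScalarTower B₀ (ResidueField B₀) G :=
    (Submodule.torsionBySet_isTorsionBySet (maximalIdeal B₀ : Set B₀)).isScalarTower
  let l' : ι →₀ G := Finsupp.onFinset l.support (fun i => ⟨l i, hlG i⟩) fun i hi => by
    rw [Finsupp.mem_support_iff]
    exact fun h => hi (Subtype.ext h)
  have hl' : l'.mapRange (G.subtype.restrictScalars R₀) (map_zero _) = l := by ext i; simp [l']
  have hG : ∀ r ∈ maximalIdeal R₀, ∀ k : G, r • k = 0 := fun r hr k => Subtype.ext (hT r hr k)
  have hinj : Function.Injective ((G.subtype.restrictScalars R₀).rTensor X) := by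
    intro a b hab
    obtain ⟨a, rfl⟩ := (hco G hG).2 a
    obtain ⟨b, rfl⟩ := (hco G hG).2 b
    rw [nat, nat] at hab
    exact congr_arg _ (Finsupp.mapRange_injective _ _ Subtype.val_injective ((hco _ hT).1 hab))
  set w := Finsupp.lsum R₀ (fun i => (TensorProduct.mk R₀ G X).flip (y i)) l' with hwdef
  have hw : (G.subtype.restrictScalars R₀).rTensor X w = (q.restrictScalars R₀).rTensor X z := by
    rw [hwdef, nat, hl', hl]
  have hwt : tau G X t w = 0 := by
    refine hinj ?_
    rw [map_zero, tau_rTensor, hw, ← tau_rTensor, hzt, map_zero]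
  have hl0 : l' = 0 := by
    ext1 i
    rw [Finsupp.zero_apply, ← Module.forall_dual_apply_eq_zero_iff (ResidueField B₀)]
    intro ξ
    let g : G →ₗ[B₀] ResidueField B₀ := ξ.restrictScalars B₀
    have h1 := congr((g.restrictScalars R₀).rTensor X $hwt)
    rw [map_zero, tau_rTensor] at h1
    have h2 := eq_zero_of_tau_residue X hX ht _ h1
    rw [hwdef, nat] at h2
    have hk : ∀ r ∈ maximalIdeal R₀, ∀ x : ResidueField B₀, r • x = 0 := fun r hr x => by
      rw [Algebra.smul_def, IsScalarTower.algebraMap_apply R₀ B₀ (ResidueField B₀)]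
      rw [show algebraMap B₀ (ResidueField B₀) (algebraMap R₀ B₀ r) = 0 from
        (IsLocalRing.residue_eq_zero_iff _).2 (map_nonunit (algebraMap R₀ B₀) r hr), zero_mul]
    simpa [g] using DFunLike.congr_fun ((hco _ hk).1 (h2.trans (map_zero _).symm)) i
  rw [← hw, hwdef, hl0, map_zero, map_zero]

/-- A good element acts injectively on the part supported at the closed point. -/
theorem eq_zero_of_tau [Module.Flat R₀ E] [IsDomain (ResidueField B₀ ⊗[R₀] ResidueField A)]
    {t : B₀ ⊗[R₀] A} (ht : theta R₀ B₀ A t ≠ 0) :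
    ∀ (N : ℕ) (X : Type u) [AddCommGroup X] [Module R₀ X] [Module A X] [IsScalarTower R₀ A X],
      (∀ r ∈ maximalIdeal R₀ ^ N, ∀ x : X, r • x = 0) → ∀ (k : ℕ) (z : E ⊗[R₀] X),
        (∀ b ∈ maximalIdeal B₀ ^ k, b • z = 0) → tau E X t z = 0 → z = 0 := by
  intro N
  induction N with
  | zero =>
    intro X _ _ _ _ hX k z _ _
    have : Subsingleton X := ⟨fun a b => by
      rw [← one_smul R₀ a, ← one_smul R₀ b, hX 1 (by simp), hX 1 (by simp)]⟩
    exact Subsingleton.elim _ _
  | succ N ih =>
    intro X _ _ _ _ hX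
    let X₁ : Submodule A X := ((maximalIdeal R₀).map (algebraMap R₀ A)) • ⊤
    have hQ : ∀ r ∈ maximalIdeal R₀, ∀ x : X ⧸ X₁, r • x = 0 := by
      intro r hr x
      obtain ⟨x, rfl⟩ := X₁.mkQ_surjective x
      rw [← algebraMap_smul A r, ← map_smul, Submodule.mkQ_apply, Submodule.Quotient.mk_eq_zero]
      exact Submodule.smul_mem_smul (Ideal.mem_map_of_mem _ hr) trivial
    have h₁ : ∀ r ∈ maximalIdeal R₀ ^ N, ∀ x : X₁, r • x = 0 := by
      rintro r hr ⟨x, hx⟩
      refine Subtype.ext ?_
      show r • x = 0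
      have hx' : x ∈ (maximalIdeal R₀) • (⊤ : Submodule R₀ X) := by
        rw [← Submodule.restrictScalars_top R₀ A X, ← Ideal.smul_restrictScalars]; exact hx
      refine Submodule.smul_induction_on hx' (fun s hs n _ => ?_) (fun a b ha hb => by rw [smul_add, ha, hb, add_zero])
      rw [smul_smul]
      exact hX _ (pow_succ (maximalIdeal R₀) N ▸ Ideal.mul_mem_mul hr hs) n
    have hsm : ∀ (b : B₀) {U V : Type u} [AddCommGroup U] [Module R₀ U] [AddCommGroup V] [Module R₀ V]
        (g : U →ₗ[R₀] V) (w : E ⊗[R₀] U), g.lTensor E (b • w) = b • g.lTensor E w := fun b _ _ _ _ _ _ g w =>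
      (AlgebraTensorModule.lTensor B₀ E g).map_smul b w
    intro k
    induction k with
    | zero =>
      intro z hz _
      simpa using hz 1 (by simp)
    | succ k ihk =>
      intro z hz hzt
      have hz1 : ∀ b ∈ maximalIdeal B₀, b • z = 0 := fun b hb => by
        refine ihk _ (fun c hc => ?_) (by rw [tau_smul, hzt, smul_zero])
        rw [smul_smul]
        exact hz _ (pow_succ (maximalIdeal B₀) k ▸ Ideal.mul_mem_mul hc hb)
      have h0 : ((X₁.mkQ).restrictScalars R₀).lTensor E z = 0 :=
        eq_zero_of_killed E (X ⧸ X₁) hQ ht _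
          (fun b hb => by rw [← hsm, hz1 b hb, map_zero])
          (by rw [← tau_lTensor, hzt, map_zero])
      obtain ⟨w, rfl⟩ := (lTensor_exact E (f := X₁.subtype.restrictScalars R₀)
        (g := X₁.mkQ.restrictScalars R₀) (fun e => by simp [Submodule.Quotient.mk_eq_zero])
        X₁.mkQ_surjective z).1 h0
      have hi : Function.Injective ((X₁.subtype.restrictScalars R₀).lTensor E) :=
        Module.Flat.lTensor_preserves_injective_linearMap _ Subtype.val_injective
      have hw : w = 0 := ih X₁ h₁ (k + 1) w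
        (fun b hb => hi (by rw [hsm, hz b hb, map_zero]))
        (hi (by rw [tau_lTensor, hzt, map_zero]))
      rw [hw, map_zero]

/-- Elements killed by finitely many scalars come from the submodule they kill. -/
theorem mem_range_lTensor_torsion [Module.Flat R₀ E] (I : Ideal R₀) (hI : I.FG)
    (X : Type u) [AddCommGroup X] [Module R₀ X] (z : E ⊗[R₀] X) (hz : ∀ r ∈ I, r • z = 0) :
    ∃ w : E ⊗[R₀] Submodule.torsionBySet R₀ X (I : Set R₀),
      (Submodule.torsionBySet R₀ X (I : Set R₀)).subtype.lTensor E w = z := by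
  classical
  obtain ⟨G, rfl⟩ := hI
  let f : X →ₗ[R₀] (G → X) := LinearMap.pi fun r => LinearMap.lsmul R₀ X (r : R₀)
  have hexact : Function.Exact (Submodule.torsionBySet R₀ X (Ideal.span (G : Set R₀) : Set R₀)).subtype f := by
    intro x
    constructor
    · intro hx
      refine ⟨⟨x, ?_⟩, rfl⟩
      change x ∈ Submodule.torsionBySet R₀ X (Submodule.span R₀ (G : Set R₀) : Set R₀)
      rw [← Submodule.torsionBySet_eq_torsionBySet_span, Submodule.mem_torsionBySet_iff]
      exact fun r => congr_fun hx ⟨r, r.2⟩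
    · rintro ⟨⟨x, hx⟩, rfl⟩
      change x ∈ Submodule.torsionBySet R₀ X (Submodule.span R₀ (G : Set R₀) : Set R₀) at hx
      rw [← Submodule.torsionBySet_eq_torsionBySet_span, Submodule.mem_torsionBySet_iff] at hx
      funext r
      exact hx ⟨r, r.2⟩
  refine ((Module.Flat.lTensor_exact E hexact) z).1 ?_
  apply (TensorProduct.piRight R₀ R₀ E (fun _ : G => X)).injective
  rw [map_zero]
  funext r
  have : ∀ z : E ⊗[R₀] X, TensorProduct.piRight R₀ R₀ E (fun _ : G => X) (f.lTensor E z) r = (r : R₀) • z := by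
    intro z
    induction z with
    | zero => simp
    | add a b ha hb => simp only [map_add, Pi.add_apply, ha, hb, smul_add]
    | tmul a b => simp [f, TensorProduct.piRight_apply, tmul_smul]
  rw [this]
  exact hz _ (Submodule.subset_span r.2)

/-- The content lemma. -/
theorem exists_content [IsNoetherianRing R₀] [IsNoetherianRing B₀] [Module.Flat R₀ E]
    [IsDomain (ResidueField B₀ ⊗[R₀] ResidueField A)]
    (X : Type u) [AddCommGroup X] [Module R₀ X] [Module A X] [IsScalarTower R₀ A X]
    (v : E ⊗[R₀] X) (hv : ∀ b ∈ maximalIdeal B₀, ∃ k : ℕ, b ^ k • v = 0)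
    (hne : ∀ t : B₀ ⊗[R₀] A, theta R₀ B₀ A t ≠ 0 → tau E X t v ≠ 0) :
    ∃ x : X, x ≠ 0 ∧ ∀ (Y : Submodule A X) (t : B₀ ⊗[R₀] A), theta R₀ B₀ A t ≠ 0 →
      tau E X t v ∈ LinearMap.range ((Y.subtype.restrictScalars R₀).lTensor E) → x ∈ Y := by
  classical
  obtain ⟨k, hk⟩ : ∃ k, ∀ b ∈ maximalIdeal B₀ ^ k, b • v = 0 := by
    let J : Ideal B₀ := LinearMap.ker (LinearMap.toSpanSingleton B₀ _ v)
    have hJ : ∀ b, b ∈ J ↔ b • v = 0 := fun b => Iff.rfl
    have hle : maximalIdeal B₀ ≤ J.radical := fun b hb => let ⟨k, hk⟩ := hv b hb; ⟨k, (hJ _).2 hk⟩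
    obtain ⟨k, hk⟩ := Ideal.exists_pow_le_of_le_radical_of_fg hle (IsNoetherian.noetherian _)
    exact ⟨k, fun b hb => (hJ b).1 (hk hb)⟩
  let I : Ideal R₀ := maximalIdeal R₀ ^ k
  have hIv : ∀ r ∈ I, r • v = 0 := fun r hr => by
    rw [← algebraMap_smul B₀ r]
    refine hk _ ?_
    have := Ideal.mem_map_of_mem (algebraMap R₀ B₀) hr
    rw [Ideal.map_pow] at this
    have hle : (maximalIdeal R₀).map (algebraMap R₀ B₀) ≤ maximalIdeal B₀ :=
      Ideal.map_le_iff_le_comap.2 fun x hx => map_nonunit (algebraMap R₀ B₀) x hx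
    exact Ideal.pow_right_mono hle k this
  let X' : Submodule A X :=
    { (Submodule.torsionBySet R₀ X (I : Set R₀)).toAddSubmonoid with
      smul_mem' := fun a x hx => by
        change x ∈ Submodule.torsionBySet R₀ X (I : Set R₀) at hx
        show a • x ∈ Submodule.torsionBySet R₀ X (I : Set R₀)
        rw [Submodule.mem_torsionBySet_iff] at hx ⊢
        intro r
        rw [smul_comm, hx r, smul_zero] }
  have hX' : ∀ r ∈ I, ∀ x : X', r • x = 0 := fun r hr x =>
    Subtype.ext ((Submodule.mem_torsionBySet_iff _ _).1 x.2 ⟨r, hr⟩)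
  obtain ⟨w₀, hw₀⟩ := mem_range_lTensor_torsion E I (IsNoetherian.noetherian I) X v hIv
  let j : Submodule.torsionBySet R₀ X (I : Set R₀) →ₗ[R₀] X' :=
    { toFun := fun x => ⟨x.1, x.2⟩, map_add' := fun _ _ => rfl, map_smul' := fun _ _ => rfl }
  let v' : E ⊗[R₀] X' := j.lTensor E w₀
  have hv' : (X'.subtype.restrictScalars R₀).lTensor E v' = v := by
    rw [← hw₀, ← LinearMap.lTensor_comp_apply]
    rfl
  have hv'0 : v' ≠ 0 := fun h => hne 1
    (by rw [map_one]; exact one_ne_zero)
    (by rw [show v = 0 by rw [← hv', h, map_zero], map_zero])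
  have hkpos : 0 < k := by
    by_contra h
    obtain rfl : k = 0 := by omega
    exact hne 1 (by rw [map_one]; exact one_ne_zero)
      (by rw [show v = 0 by simpa using hk 1 (by simp), map_zero])
  have : Nontrivial (R₀ ⧸ I) := Ideal.Quotient.nontrivial_iff.2
    (ne_top_of_le_ne_top (IsLocalRing.maximalIdeal.isMaximal R₀).ne_top (Ideal.pow_le_self hkpos.ne'))
  have : IsLocalRing (R₀ ⧸ I) := .of_surjective' (Ideal.Quotient.mk I) Ideal.Quotient.mk_surjective
  have hnil : IsNilpotent (maximalIdeal (R₀ ⧸ I)) := by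
    have hle : maximalIdeal (R₀ ⧸ I) ≤ (maximalIdeal R₀).map (Ideal.Quotient.mk I) := by
      intro x hx
      obtain ⟨r, rfl⟩ := Ideal.Quotient.mk_surjective x
      refine Ideal.mem_map_of_mem _ ?_
      by_contra hr
      exact (IsLocalRing.mem_maximalIdeal _).1 hx ((IsLocalRing.notMem_maximalIdeal.1 hr).map _)
    refine ⟨k, le_bot_iff.1 ((Ideal.pow_right_mono hle k).trans ?_)⟩
    rw [← Ideal.map_pow, le_bot_iff, Ideal.map_eq_bot_iff_le_ker, Ideal.mk_ker]
  have : Module.Free (R₀ ⧸ I) ((R₀ ⧸ I) ⊗[R₀] E) :=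
    Groth.Agent.S0397.result hnil
  obtain ⟨ι, e, he⟩ := exists_coord I E
  obtain ⟨l, hl⟩ := (he X' hX').2 v'
  obtain ⟨i, hi⟩ : ∃ i, l i ≠ 0 := by
    by_contra h
    push Not at h
    exact hv'0 (by rw [← hl, show l = 0 from Finsupp.ext h, map_zero])
  refine ⟨(l i).1, fun h => hi (Subtype.ext h), fun Y t ht hY => ?_⟩
  let Y' : Submodule A X' := Y.comap X'.subtype
  let g : X' ⧸ Y' →ₗ[A] X ⧸ Y := Submodule.mapQ _ _ X'.subtype le_rfl
  have hg : Function.Injective g := by
    rw [injective_iff_map_eq_zero]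
    intro a ha
    obtain ⟨a, rfl⟩ := Y'.mkQ_surjective a
    simp only [g, Submodule.mapQ_apply, Submodule.mkQ_apply, Submodule.Quotient.mk_eq_zero] at ha ⊢
    exact ha
  have hXq : ∀ r ∈ I, ∀ x : X' ⧸ Y', r • x = 0 := by
    intro r hr x
    obtain ⟨x, rfl⟩ := Y'.mkQ_surjective x
    rw [← algebraMap_smul A r, ← map_smul, algebraMap_smul, hX' r hr, map_zero]
  have hz : (Y'.mkQ.restrictScalars R₀).lTensor E v' = 0 := by
    refine eq_zero_of_tau E ht k (X' ⧸ Y') hXq k _ (fun b hb => ?_) ?_
    · have hi' : Function.Injective ((X'.subtype.restrictScalars R₀).lTensor E) :=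
        Module.Flat.lTensor_preserves_injective_linearMap _ Subtype.val_injective
      have : b • v' = 0 := hi' (by
        rw [map_zero, show (X'.subtype.restrictScalars R₀).lTensor E (b • v') =
          b • (X'.subtype.restrictScalars R₀).lTensor E v' from
            (AlgebraTensorModule.lTensor B₀ E (X'.subtype.restrictScalars R₀)).map_smul b v', hv', hk b hb])
      rw [show b • (Y'.mkQ.restrictScalars R₀).lTensor E v' = (Y'.mkQ.restrictScalars R₀).lTensor E (b • v') from
        ((AlgebraTensorModule.lTensor B₀ E (Y'.mkQ.restrictScalars R₀)).map_smul b v').symm, this, map_zero]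
    · refine (Module.Flat.lTensor_preserves_injective_linearMap (M := E) (g.restrictScalars R₀) hg) ?_
      rw [map_zero, tau_lTensor, ← LinearMap.lTensor_comp_apply,
        show g.restrictScalars R₀ ∘ₗ Y'.mkQ.restrictScalars R₀ =
          Y.mkQ.restrictScalars R₀ ∘ₗ X'.subtype.restrictScalars R₀ from rfl,
        LinearMap.lTensor_comp_apply, hv', ← tau_lTensor]
      obtain ⟨w, hw⟩ := hY
      rw [← hw, ← LinearMap.lTensor_comp_apply,
        show Y.mkQ.restrictScalars R₀ ∘ₗ Y.subtype.restrictScalars R₀ = 0 from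
          LinearMap.ext fun y => (Submodule.Quotient.mk_eq_zero Y).2 y.2,
        LinearMap.lTensor_zero, LinearMap.zero_apply]
  rw [← hl] at hz
  have nat : ∀ w : ι →₀ X', (Y'.mkQ.restrictScalars R₀).lTensor E
      (Finsupp.lsum R₀ (fun i => TensorProduct.mk R₀ E X' (e i)) w) =
        Finsupp.lsum R₀ (fun i => TensorProduct.mk R₀ E (X' ⧸ Y') (e i)) (w.mapRange Y'.mkQ (map_zero _)) := by
    intro w
    induction w using Finsupp.induction_linear with
    | zero => simp
    | add a b ha hb => rw [map_add, map_add, ha, hb, Finsupp.mapRange_add (fun x y => map_add _ x y), map_add]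
    | single i x => simp [Finsupp.lsum_single, Finsupp.mapRange_single]
  rw [nat] at hz
  have := DFunLike.congr_fun ((he _ hXq).1 (hz.trans (map_zero _).symm)) i
  rw [Finsupp.mapRange_apply, Finsupp.zero_apply, Submodule.mkQ_apply, Submodule.Quotient.mk_eq_zero] at this
  exact this

end Content

end Groth.Agent.RGCore
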