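import Mathlib.LinearAlgebra.Pi
import Mathlib.Algebra.Exact.Basic
import Mathlib.Algebra.Module.Projective
import Mathlib.RingTheory.Finiteness.Basic

/-!
Splitting chains of short exact sequences.
-/

set_option autoImplicit false

universe u

namespace Groth.Agent.RGCore

/-- A short exact sequence with projective quotient splits. -/
theorem exists_equiv_prod {R X M M' : Type u} [CommRing R] [AddCommGroup X] [Module R X] [AddCommGroup M] [Module R M]
    [AddCommGroup M'] [Module R M'] [Module.Projective R M'] (a : X →ₗ[R] M) (b : M →ₗ[R] M')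
    (ha : Function.Injective a) (hex : Function.Exact a b) (hb : Function.Surjective b) :
    Nonempty (M ≃ₗ[R] X × M') := by
  obtain ⟨l, hl⟩ := Module.projective_lifting_property b LinearMap.id hb
  obtain ⟨e, -, -⟩ := ((hex.split_tfae' (f := a) (g := b)).out 0 2 rfl rfl).1 ⟨ha, l, hl⟩
  exact ⟨e⟩

/-- A chain of split extensions is a product. -/
theorem exists_equiv_pi_of_chain {R : Type u} [CommRing R] : ∀ (n : ℕ), 0 < n → ∀ (M F : ℕ → Type u)
    [∀ i, AddCommGroup (M i)] [∀ i, Module R (M i)] [∀ i, AddCommGroup (F i)] [∀ i, Module R (F i)],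
    (∀ i, i + 1 < n → Nonempty (M i ≃ₗ[R] F i × M (i + 1))) → Nonempty (M (n - 1) ≃ₗ[R] F (n - 1)) →
      Nonempty (M 0 ≃ₗ[R] ∀ i : Fin n, F i) := by
  intro n
  induction n with
  | zero => exact fun h => absurd h (lt_irrefl 0)
  | succ k ih =>
    intro _ M F _ _ _ _ hstep hlast
    obtain rfl | hk := Nat.eq_zero_or_pos k
    · obtain ⟨e⟩ := hlast
      exact ⟨e.trans (LinearEquiv.piUnique R fun i : Fin 1 => F i).symm⟩
    · obtain ⟨e⟩ := hstep 0 (by omega)
      obtain ⟨e'⟩ := ih hk (fun i => M (i + 1)) (fun i => F (i + 1)) (fun i hi => hstep (i + 1) (by omega)) (by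
        show Nonempty (M (k - 1 + 1) ≃ₗ[R] F (k - 1 + 1))
        rw [Nat.sub_add_cancel hk]
        exact hlast)
      exact ⟨(e.trans (LinearEquiv.prodCongr (LinearEquiv.refl R (F 0)) e')).trans
        (Fin.consLinearEquiv R (fun i : Fin (k + 1) => F i))⟩

end Groth.Agent.RGCore
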