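import Groth.Agent.RGCore.DevissageStep
import Groth.Agent.RGCore.DevissageChain
import Mathlib.RingTheory.Spectrum.Prime.Chevalley

/-!
The step of a dévissage over a basic open of the base.
-/

set_option autoImplicit false
set_option linter.unusedSectionVars false

universe u

open TensorProduct

namespace Groth.Agent.RGCore

/-- Flatness over a basic open, in elementary form. -/
def FlatOff {R : Type u} [CommRing R] (f : R) (M : Type u) [AddCommGroup M] [Module R M] : Prop :=
  ∀ (J : Ideal R) (y : M ⊗[R] J), J.subtype.lTensor M y = 0 → ∃ k : ℕ, f ^ k • y = 0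

section FlatOff

variable {R : Type u} [CommRing R] {M : Type u} [AddCommGroup M] [Module R M]

theorem flatOff_of_flat [Module.Flat R M] (f : R) : FlatOff f M := fun J y hy =>
  ⟨0, by rw [pow_zero, one_smul]; exact Module.Flat.iff_lTensor_injective'.1 ‹_› J (hy.trans (map_zero _).symm)⟩

theorem FlatOff.mono {f : R} (h : FlatOff f M) (g : R) : FlatOff (g * f) M := fun J y hy => by
  obtain ⟨k, hk⟩ := h J y hy
  exact ⟨k, by rw [mul_pow, mul_smul, hk, smul_zero]⟩

theorem FlatOff.congr {f : R} {M' : Type u} [AddCommGroup M'] [Module R M'] (e : M ≃ₗ[R] M') (h : FlatOff f M) :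
    FlatOff f M' := fun J y hy => by
  let F := TensorProduct.congr e (LinearEquiv.refl R J)
  have hF : ∀ z : M ⊗[R] J, J.subtype.lTensor M' (F z) = e.toLinearMap.rTensor R (J.subtype.lTensor M z) := by
    intro z
    induction z with
    | zero => simp
    | add a b ha hb => simp only [map_add, ha, hb]
    | tmul a b => simp [F]
  obtain ⟨y', rfl⟩ := F.surjective y
  obtain ⟨k, hk⟩ := h J y' ((TensorProduct.congr e (LinearEquiv.refl R R)).injective (by
    rw [hF] at hy
    rw [map_zero]
    exact hy))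
  exact ⟨k, by rw [← map_smul, hk, map_zero]⟩

theorem FlatOff.flatAt {B : Type u} [CommRing B] [Algebra R B] [Module B M] [IsScalarTower R B M] {f : R}
    (h : FlatOff f M) (q : Ideal B) [q.IsPrime] (hf : algebraMap R B f ∉ q) : FlatCA.FlatAt R q M := by
  unfold FlatCA.FlatAt
  rw [FlatModel.flat_localized_iff q.primeCompl (LocalizedModule.mkLinearMap q.primeCompl M)]
  intro J y hy
  obtain ⟨k, hk⟩ := h J y hy
  exact ⟨algebraMap R B (f ^ k), fun h' => hf (‹q.IsPrime›.mem_of_pow_mem k (by rwa [map_pow] at h')),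
    by rw [algebraMap_smul]; exact hk⟩

end FlatOff

section Step

variable {R B : Type u} [CommRing R] [CommRing B] [Algebra R B] [Algebra.FinitePresentation R B] [Module.Flat R B]
  {M : Type u} [AddCommGroup M] [Module R M] [Module B M] [IsScalarTower R B M] [Module.FinitePresentation B M]

/-- A map from a finite free module which is bijective at the generic point of the fibre, into a module flat
there, is inverted by a linear map up to an element not vanishing on that fibre. -/
theorem exists_partial_inverse (rr : Ideal R) [rr.IsPrime] [hP : (rr.map (algebraMap R B)).IsPrime]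
    [(rr.map (algebraMap R B)).LiesOver rr] (hflat : FlatCA.FlatAt R (rr.map (algebraMap R B)) M)
    {ι : Type u} [Fintype ι] [DecidableEq ι] (α : (ι → B) →ₗ[B] M)
    (hα : Function.Bijective (α.baseChange (rr.map (algebraMap R B)).ResidueField)) :
    ∃ t ∉ rr.map (algebraMap R B), ∃ β : M →ₗ[B] ι → B, ∀ x, β (α x) = t • x := by
  classical
  let P := rr.map (algebraMap R B)
  obtain ⟨k, g, hg⟩ := Module.Finite.exists_fin' B M
  choose t ht y hy using fun j : Fin k => exists_smul_mem_range rr α hα.2 (g (Pi.single j 1))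
  have hT : ∏ j, t j ∉ P := fun h => by
    obtain ⟨j, -, hj⟩ := hP.prod_mem_iff.1 h
    exact ht j hj
  let Y : (Fin k → B) →ₗ[B] ι → B := (Pi.basisFun B (Fin k)).constr B fun j => (∏ i ∈ Finset.univ.erase j, t i) • y j
  have hY : ∀ z, α (Y z) = (∏ j, t j) • g z := by
    suffices α ∘ₗ Y = (∏ j, t j) • g from fun z => LinearMap.congr_fun this z
    refine (Pi.basisFun B (Fin k)).ext fun j => ?_
    simp only [Y, LinearMap.comp_apply, LinearMap.smul_apply]
    rw [Module.Basis.constr_basis, map_smul, hy, smul_smul, Pi.basisFun_apply]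
    rw [Finset.prod_erase_mul _ _ (Finset.mem_univ j)]
  have hkill : ∀ x, α x = 0 → ∃ s ∉ P, s • x = 0 := fun x hx => by
    obtain ⟨s, hs, hsx⟩ := killed_generic rr α hα.1 hflat (Z := R) ((1 : R) ⊗ₜ[R] x) (by
      rw [LinearMap.lTensor_tmul, LinearMap.restrictScalars_apply, hx, tmul_zero])
    refine ⟨s, hs, ?_⟩
    simpa using congr(TensorProduct.lid R (ι → B) $hsx)
  obtain ⟨G, hG⟩ := Module.FinitePresentation.fg_ker g hg
  choose s hs hsx using fun z : G => hkill (Y z.1) (by
    rw [hY, show g z.1 = 0 from LinearMap.mem_ker.1 (hG.le (Submodule.subset_span z.2)), smul_zero])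
  let S₀ := ∏ z : G, s z
  have hS₀ : S₀ ∉ P := fun h => by
    obtain ⟨z, -, hz⟩ := hP.prod_mem_iff.1 h
    exact hs z hz
  have hle : LinearMap.ker g ≤ LinearMap.ker (S₀ • Y) := by
    rw [← hG, Submodule.span_le]
    intro z hz
    show S₀ • Y z = 0
    rw [show S₀ = (∏ w ∈ Finset.univ.erase (⟨z, hz⟩ : G), s w) * s ⟨z, hz⟩ from
      (Finset.prod_erase_mul _ _ (Finset.mem_univ _)).symm, mul_smul, hsx ⟨z, hz⟩, smul_zero]
  let β : M →ₗ[B] ι → B := (Submodule.liftQ _ (S₀ • Y) hle).comp (g.quotKerEquivOfSurjective hg).symm.toLinearMap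
  have hβ : ∀ z, β (g z) = S₀ • Y z := fun z => by
    simp only [β, LinearMap.comp_apply, LinearEquiv.coe_coe]
    rw [show (g.quotKerEquivOfSurjective hg).symm (g z) = Submodule.Quotient.mk z from
      (LinearEquiv.symm_apply_eq _).2 rfl]
    rfl
  have hαβ : ∀ m, α (β m) = (S₀ * ∏ j, t j) • m := fun m => by
    obtain ⟨z, rfl⟩ := hg m
    rw [hβ, map_smul, hY, smul_smul]
  choose s' hs' hsx' using fun i : ι => hkill (β (α (Pi.single i 1)) - (S₀ * ∏ j, t j) • Pi.single i 1) (by
    rw [map_sub, hαβ, map_smul, sub_self])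
  have hS' : ∏ i, s' i ∉ P := fun h => by
    obtain ⟨i, -, hi⟩ := hP.prod_mem_iff.1 h
    exact hs' i hi
  refine ⟨(∏ i, s' i) * (S₀ * ∏ j, t j), hP.mul_notMem hS' (hP.mul_notMem hS₀ hT), (∏ i, s' i) • β, fun x => ?_⟩
  suffices ((∏ i, s' i) • β) ∘ₗ α = ((∏ i, s' i) * (S₀ * ∏ j, t j)) • LinearMap.id from LinearMap.congr_fun this x
  refine (Pi.basisFun B ι).ext fun i => ?_
  simp only [LinearMap.comp_apply, LinearMap.smul_apply, LinearMap.id_apply, Pi.basisFun_apply, mul_smul]
  rw [← sub_eq_zero, ← smul_sub, ← mul_smul S₀, ← Finset.prod_erase_mul _ _ (Finset.mem_univ i), mul_smul, hsx' i,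
    smul_zero]

/-- Elements killed by an element which is nonzero on all fibres over a basic open are killed by a power of the
element cutting out the basic open. -/
theorem exists_pow_smul_eq_zero (H : ∀ (K : Type u) [Field K] [Algebra R K], IsDomain (K ⊗[R] B)) (f : R) (t : B)
    (hV : ∀ (p : Ideal R) [p.IsPrime], f ∉ p → ∃ Q : Ideal B, Q.IsPrime ∧ Q.LiesOver p ∧ t ∉ Q)
    {ι : Type u} [Fintype ι] [DecidableEq ι] {Z : Type u} [AddCommGroup Z] [Module R Z] (w : Z ⊗[R] (ι → B))
    (hw : ((LinearMap.lsmul B (ι → B) t).restrictScalars R).lTensor Z w = 0) : ∃ k : ℕ, f ^ k • w = 0 := by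
  let Zf := LocalizedModule (Submonoid.powers f) Z
  let m := LocalizedModule.mkLinearMap (Submonoid.powers f) Z
  have h0 : m.rTensor (ι → B) w = 0 := by
    refine eq_zero_of_lsmul' H _ t (fun p hp => ?_) (by
      rw [← LinearMap.comp_apply, LinearMap.lTensor_comp_rTensor, ← LinearMap.rTensor_comp_lTensor,
        LinearMap.comp_apply, hw, map_zero])
    obtain ⟨x, hx⟩ := hp
    haveI : p.IsPrime := hx.1.1
    refine hV p fun hfp => ?_
    obtain ⟨n, ⟨s, hs⟩, hns⟩ : ∃ (n : ℕ) (s : p.primeCompl), (s : R) * f ^ n ∈ (Submodule.span R {x}).annihilator := by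
      have : IsNilpotent (Ideal.Quotient.mk ((Submodule.span R {x}).annihilator.map
          (algebraMap R (Localization.AtPrime p))) (algebraMap R _ f)) := by
        rw [← mem_nilradical, nilradical_eq_sInf, Ideal.mem_sInf]
        intro Q hQ
        have hQ' : Q.IsPrime := hQ
        let Q₀ := (Q.comap (Ideal.Quotient.mk ((Submodule.span R {x}).annihilator.map
          (algebraMap R (Localization.AtPrime p))))).comap (algebraMap R (Localization.AtPrime p))
        have hQ₀ : Q₀.IsPrime := Ideal.comap_isPrime _ _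
        have hle : Q₀ ≤ p := fun a ha => by
          by_contra hap
          exact (hQ'.comap (Ideal.Quotient.mk _)).ne_top
            (Ideal.eq_top_of_isUnit_mem _ ha (IsLocalization.map_units (Localization.AtPrime p) (⟨a, hap⟩ : p.primeCompl)))
        have hann : (Submodule.span R {x}).annihilator ≤ Q₀ := fun a ha => by
          show Ideal.Quotient.mk _ (algebraMap R _ a) ∈ Q
          rw [Ideal.Quotient.eq_zero_iff_mem.2 (Ideal.mem_map_of_mem _ ha)]
          exact Q.zero_mem
        exact hx.2 ⟨hQ₀, hann⟩ hle hfp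
      obtain ⟨n, hn⟩ := this
      rw [← map_pow, ← map_pow, Ideal.Quotient.eq_zero_iff_mem] at hn
      obtain ⟨s, hs, hsn⟩ := (IsLocalization.algebraMap_mem_map_algebraMap_iff p.primeCompl _ _ _).1 hn
      exact ⟨n, ⟨s, hs⟩, hsn⟩
    have h1 : f ^ n • (s • x) = 0 := by
      rw [smul_smul, mul_comm]
      exact (Submodule.mem_annihilator_span_singleton _ _).1 hns
    have hu : s • x = 0 := ((Module.End.isUnit_iff _).1
      (IsLocalizedModule.map_units m (⟨f ^ n, n, rfl⟩ : Submonoid.powers f))).1 (a₁ := s • x) (a₂ := 0) (by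
        rw [map_zero]; exact h1)
    exact hs (hx.1.2 ((Submodule.mem_annihilator_span_singleton _ _).2 hu))
  obtain ⟨⟨_, k, rfl⟩, hk⟩ :=
    (IsLocalizedModule.eq_zero_iff (Submonoid.powers f) (AlgebraTensorModule.rTensor R (ι → B) m)).1 h0
  exact ⟨k, hk⟩

/-- The step of a dévissage over a basic open. -/
theorem devissage_step_away (H : ∀ (K : Type u) [Field K] [Algebra R K], IsDomain (K ⊗[R] B)) (rr : Ideal R)
    [rr.IsPrime] [hP : (rr.map (algebraMap R B)).IsPrime] {f : R} (hf : f ∉ rr) (hflat : FlatOff f M)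
    {r : ℕ} (α : (Fin r → B) →ₗ[B] M)
    (hα : Function.Bijective (α.baseChange (rr.map (algebraMap R B)).ResidueField)) :
    ∃ g ∉ rr, FlatOff (g * f) (M ⧸ LinearMap.range α) ∧ ∀ x, α x = 0 → ∃ k : ℕ, (g * f) ^ k • x = 0 := by
  classical
  let P := rr.map (algebraMap R B)
  obtain ⟨x₀⟩ : Nonempty (PrimeSpectrum (rr.ResidueField ⊗[R] B)) := by
    haveI := H rr.ResidueField
    infer_instance
  have hPo : P.LiesOver rr := ⟨le_antisymm Ideal.le_comap_map (fun a ha => by
    let Q := x₀.asIdeal.comap (Algebra.TensorProduct.includeRight : B →ₐ[R] rr.ResidueField ⊗[R] B)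
    have hPQ : P ≤ Q := Ideal.map_le_iff_le_comap.2 fun b hb => by
      show (1 : rr.ResidueField) ⊗ₜ[R] algebraMap R B b ∈ x₀.asIdeal
      rw [Algebra.algebraMap_eq_smul_one, tmul_smul, smul_tmul', Algebra.smul_def,
        Ideal.algebraMap_residueField_eq_zero.2 hb, zero_mul, zero_tmul]
      exact zero_mem _
    by_contra hb
    have h1 : (1 : rr.ResidueField) ⊗ₜ[R] algebraMap R B a ∈ x₀.asIdeal := hPQ ha
    rw [Algebra.algebraMap_eq_smul_one, tmul_smul, smul_tmul', Algebra.smul_def, mul_one] at h1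
    refine x₀.isPrime.ne_top (Ideal.eq_top_of_isUnit_mem _ h1 ?_)
    rw [← mul_one (algebraMap R rr.ResidueField a), ← smul_eq_mul, ← smul_tmul', ← Algebra.TensorProduct.one_def,
      ← Algebra.algebraMap_eq_smul_one]
    exact (IsUnit.mk0 _ fun h => hb (Ideal.algebraMap_residueField_eq_zero.1 h)).map _)⟩
  have hfP : algebraMap R B f ∉ P := fun h => hf (by rw [hPo.over]; exact h)
  let c : (ULift.{u} (Fin r) → B) ≃ₗ[B] (Fin r → B) := LinearEquiv.funCongrLeft B B Equiv.ulift.symm
  have hα' : Function.Bijective ((α ∘ₗ c.toLinearMap).baseChange P.ResidueField) := by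
    rw [LinearMap.baseChange_comp, LinearMap.coe_comp]
    exact hα.comp (LinearEquiv.baseChange B P.ResidueField _ _ c).bijective
  obtain ⟨t, ht, β, hβ⟩ := exists_partial_inverse rr (hflat.flatAt P hfP) _ hα'
  have hopen := PrimeSpectrum.isOpenMap_comap_of_hasGoingDown_of_finitePresentation (R := R) (S := B)
    _ (PrimeSpectrum.basicOpen t).2
  obtain ⟨_, ⟨_, ⟨g, rfl⟩, rfl⟩, hgrr, hgV⟩ := PrimeSpectrum.isBasis_basic_opens.exists_subset_of_mem_open
    (show (⟨rr, ‹_›⟩ : PrimeSpectrum R) ∈ PrimeSpectrum.comap (algebraMap R B) ''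
      (PrimeSpectrum.basicOpen t : Set (PrimeSpectrum B)) from ⟨⟨P, hP⟩, ht, PrimeSpectrum.ext hPo.over.symm⟩) hopen
  have hgr : g ∉ rr := hgrr
  have hV : ∀ (p : Ideal R) [p.IsPrime], g * f ∉ p → ∃ Q : Ideal B, Q.IsPrime ∧ Q.LiesOver p ∧ t ∉ Q := by
    intro p hp hgf
    obtain ⟨⟨Q, hQ⟩, htQ, hQp⟩ := hgV (show (⟨p, hp⟩ : PrimeSpectrum R) ∈ PrimeSpectrum.basicOpen g from
      fun h => hgf (p.mul_mem_right _ h))
    exact ⟨Q, hQ, ⟨congrArg PrimeSpectrum.asIdeal hQp.symm⟩, htQ⟩
  have key : ∀ {Z : Type u} [AddCommGroup Z] [Module R Z] (w : Z ⊗[R] (Fin r → B)),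
      (α.restrictScalars R).lTensor Z w = 0 → ∃ k : ℕ, (g * f) ^ k • w = 0 := by
    intro Z _ _ w hw
    let w' := (c.symm.toLinearMap.restrictScalars R).lTensor Z w
    have hcc : (c.toLinearMap.restrictScalars R).lTensor Z w' = w := by
      rw [← LinearMap.lTensor_comp_apply, show (c.toLinearMap.restrictScalars R).comp
        (c.symm.toLinearMap.restrictScalars R) = LinearMap.id from LinearMap.ext fun x => c.apply_symm_apply x,
        LinearMap.lTensor_id_apply]
    obtain ⟨k, hk⟩ := exists_pow_smul_eq_zero H (g * f) t hV w' (by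
      rw [show (LinearMap.lsmul B (ULift.{u} (Fin r) → B) t).restrictScalars R =
        ((β.restrictScalars R).comp ((α.restrictScalars R).comp (c.toLinearMap.restrictScalars R))) from
          LinearMap.ext fun x => (hβ x).symm]
      rw [LinearMap.lTensor_comp_apply, LinearMap.lTensor_comp_apply, hcc, hw, map_zero])
    exact ⟨k, by rw [← hcc, ← map_smul, hk, map_zero]⟩
  refine ⟨g, hgr, ?_, fun x hx => ?_⟩
  · let W : Submonoid B := Submonoid.powers (algebraMap R B (g * f))
    have hN : Module.Flat R (LocalizedModule W M) := by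
      rw [FlatModel.flat_localized_iff W (LocalizedModule.mkLinearMap W M)]
      intro J y hy
      obtain ⟨k, hk⟩ := hflat.mono g J y hy
      exact ⟨algebraMap R B (g * f) ^ k, ⟨k, rfl⟩, by rw [← map_pow, algebraMap_smul]; exact hk⟩
    have := flat_localized_coker W α hN fun J w hw => by
      obtain ⟨k, hk⟩ := key w hw
      refine ⟨algebraMap R B (g * f) ^ k, ⟨k, rfl⟩, ?_⟩
      rw [← map_pow]
      convert hk using 1
      rw [show (LinearMap.lsmul B (Fin r → B) (algebraMap R B ((g * f) ^ k))).restrictScalars R =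
        (g * f) ^ k • LinearMap.id from LinearMap.ext fun x => algebraMap_smul B _ x,
        LinearMap.lTensor_smul, LinearMap.smul_apply, LinearMap.lTensor_id_apply]
    rw [FlatModel.flat_localized_iff W (LocalizedModule.mkLinearMap W (M ⧸ LinearMap.range α))] at this
    intro J y hy
    obtain ⟨_, ⟨k, rfl⟩, hk⟩ := this J y hy
    exact ⟨k, by simp only at hk; rwa [← map_pow, algebraMap_smul] at hk⟩
  · obtain ⟨k, hk⟩ := key (Z := R) ((1 : R) ⊗ₜ x) (by
      rw [LinearMap.lTensor_tmul, LinearMap.restrictScalars_apply, hx, tmul_zero])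
    exact ⟨k, by simpa using congr(TensorProduct.lid R (Fin r → B) $hk)⟩

end Step

end Groth.Agent.RGCore

namespace Groth.Agent.RGCore

open AlgebraicGeometry CategoryTheory Limits

/-- Geometrically irreducible fibres are stable under base change. -/
theorem geomIrredFibres_baseChange {R B : Type u} [CommRing R] [CommRing B] [Algebra R B]
    (h : FlatCA.GeomIrredFibres R B) (R' : Type u) [CommRing R'] [Algebra R R'] :
    FlatCA.GeomIrredFibres R' (R' ⊗[R] B) := by
  let f := Spec.map (CommRingCat.ofHom (algebraMap R R'))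
  let g := Spec.map (CommRingCat.ofHom (algebraMap R B))
  haveI : GeometricallyIrreducible g := h
  have hfst : GeometricallyIrreducible (pullback.fst f g) := inferInstance
  have hsq : CommSq (pullbackSpecIso R R' B).inv (Spec.map (CommRingCat.ofHom (algebraMap R' (R' ⊗[R] B))))
      (pullback.fst f g) (𝟙 _) := ⟨by rw [Category.comp_id]; exact pullbackSpecIso_inv_fst' R R' B⟩
  exact MorphismProperty.of_isPullback (P := @GeometricallyIrreducible) (IsPullback.of_horiz_isIso hsq) hfst

/-- Base change to a basic open of a map whose kernel is killed there is injective. -/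
theorem injective_baseChange_away {R X M : Type u} [CommRing R] [AddCommGroup X] [Module R X] [AddCommGroup M]
    [Module R M] (f : R) (a : X →ₗ[R] M) (h : ∀ x, a x = 0 → ∃ k : ℕ, f ^ k • x = 0) :
    Function.Injective (a.baseChange (Localization.Away f)) := by
  rw [injective_iff_map_eq_zero]
  intro z hz
  obtain ⟨⟨x, c⟩, hx⟩ := IsLocalizedModule.surj (Submonoid.powers f) (TensorProduct.mk R (Localization.Away f) X 1) z
  have h1 : (TensorProduct.mk R (Localization.Away f) M 1) (a x) = 0 := by
    show (1 : Localization.Away f) ⊗ₜ[R] a x = 0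
    rw [← LinearMap.baseChange_tmul, ← TensorProduct.mk_apply, ← hx, Submonoid.smul_def,
      LinearMap.map_smul_of_tower, hz, smul_zero]
  obtain ⟨⟨_, j, rfl⟩, hj⟩ := (IsLocalizedModule.eq_zero_iff (Submonoid.powers f) _).1 h1
  obtain ⟨k, hk⟩ := h (f ^ j • x) (by rw [map_smul]; exact hj)
  rw [smul_smul, ← pow_add] at hk
  have h2 : (TensorProduct.mk R (Localization.Away f) X 1) x = 0 :=
    (IsLocalizedModule.eq_zero_iff (Submonoid.powers f) _).2 ⟨⟨f ^ (k + j), k + j, rfl⟩, hk⟩
  rw [← hx] at h2
  exact ((Module.End.isUnit_iff _).1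
    (IsLocalizedModule.map_units (TensorProduct.mk R (Localization.Away f) X 1) c)).1 (a₁ := z) (a₂ := 0)
      (by rw [map_zero]; exact h2)

end Groth.Agent.RGCore
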