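import Groth.Prelude.Def_FlatCA
import Groth.Agent.Grass60.Std
import Mathlib.AlgebraicGeometry.Pullbacks
import Mathlib.AlgebraicGeometry.Properties
import Mathlib.RingTheory.Smooth.StandardSmoothOfFree

/-!
Criteria for geometrically integral fibres and for smoothness of given relative dimension.
-/

set_option autoImplicit false
set_option linter.style.haveILetI false

universe u

open TensorProduct AlgebraicGeometry CategoryTheory Limits

namespace Groth.Agent.RGCore

/-- Fibrewise domains give geometrically integral fibres. -/
theorem geomIntegral_of_isDomain {A S : Type u} [CommRing A] [CommRing S] [Algebra A S]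
    (H : ∀ (K : Type u) [Field K] [Algebra A K], IsDomain (K ⊗[A] S)) : FlatCA.GeomIntegralFibres A S := by
  refine ⟨fun K _ y Z fst snd h => ?_⟩
  obtain ⟨φ, rfl⟩ : ∃ φ, Spec.map φ = y := ⟨Spec.preimage y, Spec.map_preimage y⟩
  letI : Algebra A K := φ.hom.toAlgebra
  haveI := H K
  have h0 : IsPullback (pullback.fst (Spec.map (CommRingCat.ofHom (algebraMap A S))) (Spec.map φ))
      (pullback.snd _ _) (Spec.map (CommRingCat.ofHom (algebraMap A S))) (Spec.map φ) :=
    IsPullback.of_hasPullback _ _
  haveI : IsDomain ((CommRingCat.of (K ⊗[A] S)) : Type u) := ‹IsDomain (K ⊗[A] S)›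
  exact IsIntegral.of_isIso
    ((pullbackSpecIso A K S).inv ≫ (pullbackSymmetry _ _).hom ≫ (h0.isoIsPullback _ _ h).hom)

/-- A localisation of the base change of an étale algebra over a polynomial ring is smooth of relative
dimension the number of variables. -/
theorem smoothRelDim_away {R R' D : Type u} [CommRing R] [CommRing R'] [CommRing D] [Algebra R R'] [Algebra R D]
    {n : ℕ} [Algebra (MvPolynomial (Fin n) R) D] [IsScalarTower R (MvPolynomial (Fin n) R) D]
    [Algebra.Etale (MvPolynomial (Fin n) R) D] (g : R' ⊗[R] D) :
    FlatCA.SmoothRelDim n R' (Localization.Away g) := by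
  haveI h1 : Algebra.IsStandardSmoothOfRelativeDimension n R (MvPolynomial (Fin n) R) := by
    simpa using Grass60.isStandardSmoothOfRelativeDimension_mvPolynomial R (Fin n)
  haveI h2 : Algebra.IsStandardSmoothOfRelativeDimension 0 (MvPolynomial (Fin n) R) D :=
    Algebra.Etale.iff_isStandardSmoothOfRelativeDimension_zero.1 inferInstance
  haveI h3 : Algebra.IsStandardSmoothOfRelativeDimension n R D := by
    simpa using Algebra.IsStandardSmoothOfRelativeDimension.trans (n := n) (m := 0) R (MvPolynomial (Fin n) R) D
  haveI h4 : Algebra.IsStandardSmoothOfRelativeDimension 0 (R' ⊗[R] D) (Localization.Away g) :=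
    Algebra.IsStandardSmoothOfRelativeDimension.localization_away g
  haveI h5 : Algebra.IsStandardSmoothOfRelativeDimension n R' (Localization.Away g) := by
    simpa using Algebra.IsStandardSmoothOfRelativeDimension.trans (n := n) (m := 0) R' (R' ⊗[R] D) (Localization.Away g)
  show SmoothOfRelativeDimension n _
  rw [HasRingHomProperty.Spec_iff (P := @SmoothOfRelativeDimension n)]
  exact RingHom.locally_of RingHom.isStandardSmoothOfRelativeDimension_respectsIso _
    ((RingHom.isStandardSmoothOfRelativeDimension_algebraMap n).2 h5)

end Groth.Agent.RGCore
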