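import Groth.Agent.S2141
import Groth.Agent.FibDim.Alg
import Groth.Prelude.Def_FlatCA
import Mathlib

/-!
Coordinates at a point of a fibre: a quasi-finite map from affine space of the local dimension, with purely
transcendental residue field at the image.
-/

set_option autoImplicit false
set_option linter.style.haveILetI false
set_option maxHeartbeats 1000000
set_option synthInstance.maxHeartbeats 200000

universe u

open TensorProduct

namespace Groth.Agent.RGCore

/-- A finite type algebra over a field has a transcendence basis of a residue field among the images of its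
elements. -/
theorem exists_residue_basis {k B : Type u} [Field k] [CommRing B] [Algebra k B] [Algebra.FiniteType k B]
    (q : Ideal B) [q.IsPrime] :
    ∃ (r : ℕ) (b : Fin r → B), Algebra.trdeg k q.ResidueField = r ∧
      IsTranscendenceBasis k fun i => algebraMap B q.ResidueField (b i) := by
  classical
  obtain ⟨s, hs⟩ := Algebra.FiniteType.out (R := k) (A := B)
  let S := (IsScalarTower.toAlgHom k B q.ResidueField) '' (s : Set B)
  have hmem : ∀ b, algebraMap B q.ResidueField b ∈ Algebra.adjoin k S := fun b => by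
    rw [← AlgHom.map_adjoin, hs, Algebra.map_top]
    exact ⟨b, rfl⟩
  haveI : Algebra.IsAlgebraic (Algebra.adjoin k S) q.ResidueField := ⟨fun z => by
    obtain ⟨a, b, hb, rfl⟩ := IsFractionRing.div_surjective (A := B ⧸ q) z
    obtain ⟨a, rfl⟩ := Ideal.Quotient.mk_surjective a
    obtain ⟨b, rfl⟩ := Ideal.Quotient.mk_surjective b
    have hb0 : algebraMap (B ⧸ q) q.ResidueField (Ideal.Quotient.mk q b) ≠ 0 :=
      IsFractionRing.to_map_ne_zero_of_mem_nonZeroDivisors hb
    have hmk : ∀ c, algebraMap (B ⧸ q) q.ResidueField (Ideal.Quotient.mk q c) = algebraMap B q.ResidueField c :=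
      fun c => rfl
    rw [hmk, hmk] at *
    refine ⟨Polynomial.C (⟨_, hmem b⟩ : Algebra.adjoin k S) * Polynomial.X - Polynomial.C ⟨_, hmem a⟩,
      fun h => hb0 ?_, ?_⟩
    · have := congr_arg (fun p => p.coeff 1) h
      simpa [Subtype.ext_iff] using this
    · simp [Subalgebra.algebraMap_def, mul_div_cancel₀ _ hb0]⟩
  obtain ⟨t, hts, ht⟩ := exists_isTranscendenceBasis_subset (R := k) (A := q.ResidueField) S
  have htfin : t.Finite := (s.finite_toSet.image _).subset hts
  haveI := htfin.fintype
  let e : Fin (Fintype.card t) ≃ t := (Fintype.equivFin t).symm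
  choose b hbs hb using fun i => hts (e i).2
  refine ⟨Fintype.card t, b, ?_, ?_⟩
  · rw [← ht.cardinalMk_eq_trdeg, Cardinal.mk_fintype]
  · have : (fun i => algebraMap B q.ResidueField (b i)) = Subtype.val ∘ e := funext fun i => hb i
    rw [this]
    exact ht.comp_equiv e

/-- A prime of a noetherian ring is cut out, among the primes below it, by as many elements as its height. -/
theorem exists_isolating {B : Type u} [CommRing B] [IsNoetherianRing B] (x : Ideal B) [x.IsPrime] (m : ℕ)
    (hm : x.height = m) :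
    ∃ b : Fin m → B, (∀ i, b i ∈ x) ∧ ∀ Q : Ideal B, Q.IsPrime → Q ≤ x → (∀ i, b i ∈ Q) → Q = x := by
  classical
  obtain ⟨J, hJx, hJs, hJh⟩ := exists_spanRank_le_and_le_height_of_le_height x m hm.ge
  have hfg : J.FG := IsNoetherian.noetherian J
  haveI := (Submodule.FG.finite_generators hfg).fintype
  have hcard : Fintype.card J.generators ≤ m := by
    have := J.generators_card
    rw [Cardinal.mk_fintype] at this
    exact_mod_cast this.le.trans hJs
  let e := Fintype.equivFin J.generators
  refine ⟨fun i => if h : (i : ℕ) < Fintype.card J.generators then (e.symm ⟨i, h⟩).1 else 0, fun i => ?_,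
    fun Q hQ hQx hbQ => ?_⟩
  · dsimp only
    split
    · exact hJx (Submodule.FG.generators_mem J (e.symm _).2)
    · exact x.zero_mem
  · have hJQ : J ≤ Q := by
      rw [← J.span_generators]
      refine Submodule.span_le.2 fun g hg => ?_
      have := hbQ ⟨e ⟨g, hg⟩, (e ⟨g, hg⟩).2.trans_le hcard⟩
      simp only [dif_pos (e ⟨g, hg⟩).2] at this
      simpa using this
    by_contra hne
    haveI := hQ
    have hlt : Q < x := lt_of_le_of_ne hQx hne
    have h1 : Q.height < x.height := Ideal.height_strict_mono_of_isPrime hlt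
    exact absurd ((hJh.trans (Ideal.height_mono hJQ)).trans_lt h1) (by rw [hm]; exact lt_irrefl _)

section Coord

variable {R C : Type u} [CommRing R] [CommRing C] [Algebra R C] [Algebra.FiniteType R C] (p : Ideal R) [p.IsPrime]
  (z : Ideal C) [z.IsPrime] [z.LiesOver p]

/-- Coordinates at a point of a fibre. -/
theorem exists_coords (x : PrimeSpectrum (p.Fiber C))
    (hxz : x.asIdeal.comap Algebra.TensorProduct.includeRight.toRingHom = z) (n : ℕ)
    (hn : FlatMor.localDim (PrimeSpectrum (p.Fiber C)) x = n) :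
    ∃ (φ : MvPolynomial (Fin n) R →ₐ[R] C) (_ : (z.comap φ.toRingHom).LiesOver p),
      (letI := φ.toRingHom.toAlgebra; Algebra.QuasiFiniteAt (MvPolynomial (Fin n) R) z) ∧
      FlatCA.PurelyTranscendental p (z.comap φ.toRingHom) := by
  classical
  letI : Algebra p.ResidueField x.asIdeal.ResidueField :=
    IsLocalRing.ResidueField.algebra (Localization.AtPrime x.asIdeal)
  let ιC : C →ₐ[R] (p.Fiber C) := Algebra.TensorProduct.includeRight
  haveI : IsNoetherianRing (p.Fiber C) := Algebra.FiniteType.isNoetherianRing p.ResidueField (p.Fiber C)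
  obtain ⟨r, b₁, hr, hbasis⟩ := exists_residue_basis (k := p.ResidueField) x.asIdeal
  have hdim := S2141.result (k := p.ResidueField) x.asIdeal r hr
  rw [hn, IsLocalization.AtPrime.ringKrullDim_eq_height x.asIdeal] at hdim
  obtain ⟨m, hm, rfl⟩ : ∃ m : ℕ, x.asIdeal.height = m ∧ n = m + r := by
    have h' : (n : ℕ∞) = x.asIdeal.height + r := WithBot.coe_inj.1 hdim
    obtain ⟨m, hm⟩ := ENat.ne_top_iff_exists.1 (Ideal.height_ne_top_of_isPrime (I := x.asIdeal))
    refine ⟨m, hm.symm, ?_⟩
    rw [← hm] at h'
    exact_mod_cast h'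
  obtain ⟨b₂, hb₂x, hiso⟩ := exists_isolating x.asIdeal m hm
  choose s₁ hs₁ c₁ hc₁ using fun i => Ideal.Fiber.exists_smul_eq_one_tmul p (b₁ i)
  choose s₂ hs₂ c₂ hc₂ using fun i => Ideal.Fiber.exists_smul_eq_one_tmul p (b₂ i)
  have hu : ∀ {s : R}, s ∉ p → IsUnit (algebraMap R (p.Fiber C) s) := fun {s} hs => by
    rw [IsScalarTower.algebraMap_apply R p.ResidueField (p.Fiber C)]
    exact ((isUnit_iff_ne_zero.2 (by simpa using hs)) : IsUnit (algebraMap R p.ResidueField s)).map _
  let t : Fin (m + r) → C := Fin.append c₂ c₁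
  let φ : MvPolynomial (Fin (m + r)) R →ₐ[R] C := MvPolynomial.aeval t
  let ξ : Fin r → x.asIdeal.ResidueField := fun i => algebraMap (p.Fiber C) x.asIdeal.ResidueField (ιC (c₁ i))
  have hξ : IsTranscendenceBasis p.ResidueField ξ := by
    let u : Fin r → p.ResidueField := fun i => algebraMap R p.ResidueField (s₁ i)
    have hu0 : ∀ i, u i ≠ 0 := fun i => by simpa [u] using hs₁ i
    have hξu : ∀ i, ξ i = algebraMap p.ResidueField x.asIdeal.ResidueField (u i) * algebraMap (p.Fiber C) x.asIdeal.ResidueField (b₁ i) := fun i => by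
      show algebraMap (p.Fiber C) x.asIdeal.ResidueField ((1 : p.ResidueField) ⊗ₜ c₁ i) = _
      rw [← hc₁ i, Algebra.smul_def, map_mul, ← IsScalarTower.algebraMap_apply, ← IsScalarTower.algebraMap_apply]
    have hadj : Algebra.adjoin p.ResidueField (Set.range ξ) = Algebra.adjoin p.ResidueField (Set.range fun i => algebraMap (p.Fiber C) x.asIdeal.ResidueField (b₁ i)) := by
      refine le_antisymm (Algebra.adjoin_le ?_) (Algebra.adjoin_le ?_) <;> rintro _ ⟨i, rfl⟩
      · rw [hξu]
        exact mul_mem (Subalgebra.algebraMap_mem _ _) (Algebra.subset_adjoin ⟨i, rfl⟩)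
      · show algebraMap (p.Fiber C) x.asIdeal.ResidueField (b₁ i) ∈ _
        rw [show algebraMap (p.Fiber C) x.asIdeal.ResidueField (b₁ i) = algebraMap p.ResidueField x.asIdeal.ResidueField (u i)⁻¹ * ξ i by
          rw [hξu, ← mul_assoc, ← map_mul, inv_mul_cancel₀ (hu0 i), map_one, one_mul]]
        exact mul_mem (Subalgebra.algebraMap_mem _ _) (Algebra.subset_adjoin ⟨i, rfl⟩)
    haveI : Algebra.IsAlgebraic (Algebra.adjoin p.ResidueField (Set.range ξ)) x.asIdeal.ResidueField := hadj ▸ hbasis.isAlgebraic
    exact Algebra.IsAlgebraic.isTranscendenceBasis_of_lift_le_trdeg_of_finite p.ResidueField ξ (by rw [hr, Cardinal.lift_natCast, Cardinal.mk_fin, Cardinal.lift_natCast])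
  have htB : ∀ i, ιC (φ (MvPolynomial.X (Fin.castAdd r i))) ∈ x.asIdeal := fun i => by
    simp only [φ, t, MvPolynomial.aeval_X, Fin.append_left]
    show (1 : p.ResidueField) ⊗ₜ c₂ i ∈ x.asIdeal
    rw [← hc₂ i, Algebra.smul_def]
    exact Ideal.mul_mem_left _ _ (hb₂x i)
  let y := z.comap φ.toRingHom
  have hyp : y.LiesOver p := ⟨by
    rw [z.over_def p, Ideal.under, Ideal.under, Ideal.comap_comap]
    exact congrArg (fun f => Ideal.comap f z) φ.comp_algebraMap.symm⟩
  have hyx : ∀ a, a ∈ y ↔ ιC (φ a) ∈ x.asIdeal := fun a => by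
    show φ a ∈ z ↔ _
    rw [← hxz]
    rfl
  refine ⟨φ, hyp, ?_, ?_⟩
  · letI := φ.toRingHom.toAlgebra
    haveI : IsScalarTower R (MvPolynomial (Fin (m + r)) R) C :=
      IsScalarTower.of_algebraMap_eq' φ.comp_algebraMap.symm
    haveI : Algebra.FiniteType (MvPolynomial (Fin (m + r)) R) C :=
      Algebra.FiniteType.of_restrictScalars_finiteType R _ C
    let zz : PrimeSpectrum C := ⟨z, inferInstance⟩
    let ψ : MvPolynomial (Fin r) p.ResidueField →ₐ[p.ResidueField] (p.Fiber C) := MvPolynomial.aeval fun i => ιC (c₁ i)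
    have hψx : ∀ f, ψ f ∈ x.asIdeal → f = 0 := fun f hf => by
      refine hξ.1 ?_
      rw [map_zero, ← Ideal.algebraMap_residueField_eq_zero (I := x.asIdeal) |>.2 hf]
      show _ = (IsScalarTower.toAlgHom p.ResidueField (p.Fiber C) x.asIdeal.ResidueField).comp ψ f
      congr 1
      exact MvPolynomial.algHom_ext fun i => by simp [ψ, ξ]
    have hψmap : ∀ g, ψ (MvPolynomial.map (algebraMap R p.ResidueField) g) =
        ιC (φ (MvPolynomial.rename (Fin.natAdd m) g)) := fun g => by
      induction g using MvPolynomial.induction_on with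
      | C a => simp [ψ, φ, ιC, ← IsScalarTower.algebraMap_apply]
      | add a b ha hb => simp only [map_add, ha, hb]
      | mul_X a i ha => simp only [map_mul, ha, MvPolynomial.map_X]; simp [ψ, φ, t, ιC]
    have key : ∀ Q : PrimeSpectrum (p.Fiber C), (Q.asIdeal.comap ιC.toRingHom).comap φ.toRingHom = y →
        (Q.asIdeal ≤ x.asIdeal ∨ x.asIdeal ≤ Q.asIdeal) → Q = x := by
      intro Q hQy hQx
      have hQ' : ∀ a, ιC (φ a) ∈ Q.asIdeal ↔ ιC (φ a) ∈ x.asIdeal := fun a => by
        rw [← hyx, ← hQy]; rfl
      refine PrimeSpectrum.ext ?_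
      rcases hQx with hle | hge
      · refine hiso _ Q.2 hle fun i => ?_
        have h1 := (hQ' _).2 (htB i)
        simp only [φ, t, MvPolynomial.aeval_X, Fin.append_left] at h1
        change (1 : p.ResidueField) ⊗ₜ c₂ i ∈ Q.asIdeal at h1
        rw [← hc₂ i, Algebra.smul_def] at h1
        exact (Ideal.unit_mul_mem_iff_mem _ (hu (hs₂ i))).1 h1
      · refine le_antisymm (fun a ha => ?_) hge
        by_contra hax
        have hψQ : ∀ f, ψ f ∈ Q.asIdeal → f = 0 := fun f hf => by
          obtain ⟨s, hs, g, hg⟩ := FibDim.exists_C_mul_mem_range p f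
          refine hψx f ((Ideal.unit_mul_mem_iff_mem _ (hu hs)).1 ?_)
          have hψg : algebraMap R (p.Fiber C) s * ψ f = ιC (φ (MvPolynomial.rename (Fin.natAdd m) g)) := by
            rw [show algebraMap R (p.Fiber C) s * ψ f = ψ (MvPolynomial.C (algebraMap R p.ResidueField s) * f) by
              rw [map_mul, MvPolynomial.aeval_C, ← IsScalarTower.algebraMap_apply], hg]
            exact hψmap g
          rw [hψg]
          refine (hQ' _).1 ?_
          rw [← hψg]
          exact Ideal.mul_mem_left _ _ hf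
        have hax0 : algebraMap (p.Fiber C) x.asIdeal.ResidueField a ≠ 0 := fun h => hax (Ideal.algebraMap_residueField_eq_zero.1 h)
        obtain ⟨P, hP, hPa⟩ := (hξ.isAlgebraic.isAlgebraic (algebraMap (p.Fiber C) x.asIdeal.ResidueField a))
        let e := hξ.1.aevalEquiv
        let P' : Polynomial (MvPolynomial (Fin r) p.ResidueField) := P.map e.symm.toRingEquiv.toRingHom
        have hP' : P' ≠ 0 := (Polynomial.map_ne_zero_iff e.symm.injective).2 hP
        have hev : ∀ f, algebraMap (p.Fiber C) x.asIdeal.ResidueField (ψ f) = algebraMap _ x.asIdeal.ResidueField (e f) := fun f => by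
          show (IsScalarTower.toAlgHom p.ResidueField (p.Fiber C) x.asIdeal.ResidueField).comp ψ f = (e f : x.asIdeal.ResidueField)
          refine Eq.trans ?_ (hξ.1.algebraMap_aevalEquiv f).symm
          congr 1
          exact MvPolynomial.algHom_ext fun i => by simp [ψ, ξ]
        letI : Algebra (MvPolynomial (Fin r) p.ResidueField) (p.Fiber C) := ψ.toRingHom.toAlgebra
        have hroot : Polynomial.aeval (algebraMap (p.Fiber C) ((p.Fiber C) ⧸ x.asIdeal) a) P' = 0 := by
          refine IsFractionRing.injective ((p.Fiber C) ⧸ x.asIdeal) x.asIdeal.ResidueField ?_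
          rw [map_zero, ← hPa, Polynomial.aeval_def, Polynomial.hom_eval₂, Polynomial.eval₂_map,
            Polynomial.aeval_def]
          refine Polynomial.eval₂_congr (RingHom.ext fun c => ?_) rfl rfl
          show algebraMap (p.Fiber C) x.asIdeal.ResidueField (ψ (e.symm c)) = _
          rw [hev, AlgEquiv.apply_symm_apply]
        have hne := Ideal.comap_ne_bot_of_root_mem (f := algebraMap (MvPolynomial (Fin r) p.ResidueField) ((p.Fiber C) ⧸ x.asIdeal))
          (I := Q.asIdeal.map (Ideal.Quotient.mk x.asIdeal))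
          (r := algebraMap (p.Fiber C) ((p.Fiber C) ⧸ x.asIdeal) a) (fun h => hax (Ideal.Quotient.eq_zero_iff_mem.1 h))
          (Ideal.mem_map_of_mem _ ha) hP' hroot
        obtain ⟨f, hf, hf0⟩ := Submodule.exists_mem_ne_zero_of_ne_bot hne
        refine hf0 (hψQ f ?_)
        rw [Ideal.mem_comap] at hf
        obtain ⟨w, hw, hwf⟩ := (Ideal.mem_map_iff_of_surjective _ Ideal.Quotient.mk_surjective).1 hf
        have h2 : w - ψ f ∈ x.asIdeal := Ideal.Quotient.eq.1 hwf
        simpa using Q.asIdeal.sub_mem hw (hge h2)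
    refine Algebra.QuasiFiniteAt.of_isOpen_singleton_fiber zz ?_
    let Y := PrimeSpectrum.comap (algebraMap (MvPolynomial (Fin (m + r)) R) C) zz
    let F := Y.asIdeal.Fiber C
    let eY := PrimeSpectrum.preimageHomeomorphFiber (MvPolynomial (Fin (m + r)) R) C Y
    rw [← eY.isOpen_image, Set.image_singleton]
    haveI : IsNoetherianRing F := Algebra.FiniteType.isNoetherianRing Y.asIdeal.ResidueField F
    haveI : IsJacobsonRing F := isJacobsonRing_of_finiteType (A := Y.asIdeal.ResidueField)
    have hfib : ∀ w : PrimeSpectrum F, (w ⤳ eY ⟨zz, rfl⟩ ∨ eY ⟨zz, rfl⟩ ⤳ w) → w = eY ⟨zz, rfl⟩ := by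
      intro w hw
      obtain ⟨⟨v, hv⟩, rfl⟩ := eY.surjective w
      have hvy : v.asIdeal.comap φ.toRingHom = y := congr_arg PrimeSpectrum.asIdeal hv
      haveI : v.asIdeal.LiesOver p := ⟨by
        rw [hyp.over, ← hvy, Ideal.under, Ideal.under, Ideal.comap_comap]
        exact congrArg (fun f => Ideal.comap f v.asIdeal) φ.comp_algebraMap⟩
      let o := PrimeSpectrum.primesOverOrderIsoFiber R C p
      have hoz : o ⟨z, ‹_›, ‹_›⟩ = x := by
        rw [← o.eq_symm_apply]
        exact Subtype.ext hxz.symm
      have hcmp : v.asIdeal ≤ z ∨ z ≤ v.asIdeal := by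
        rcases hw with h | h
        · exact .inl ((PrimeSpectrum.le_iff_specializes _ _).2
            (Topology.IsInducing.subtypeVal.specializes_iff.2 (eY.isEmbedding.isInducing.specializes_iff.1 h)))
        · exact .inr ((PrimeSpectrum.le_iff_specializes _ _).2
            (Topology.IsInducing.subtypeVal.specializes_iff.2 (eY.isEmbedding.isInducing.specializes_iff.1 h)))
      let Qv := o ⟨v.asIdeal, v.2, ‹_›⟩
      have hQv : Qv.asIdeal.comap ιC.toRingHom = v.asIdeal := congr_arg Subtype.val (o.symm_apply_apply _)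
      have hQx : Qv = x := key Qv (by rw [hQv, hvy]) (hcmp.imp
        (fun h => hoz ▸ o.monotone (a := ⟨v.asIdeal, v.2, ‹_›⟩) (b := ⟨z, ‹_›, ‹_›⟩) h)
        (fun h => hoz ▸ o.monotone (a := ⟨z, ‹_›, ‹_›⟩) (b := ⟨v.asIdeal, v.2, ‹_›⟩) h))
      refine congr_arg eY (Subtype.ext (PrimeSpectrum.ext ?_))
      show v.asIdeal = z
      rw [← hQv, hQx, hxz]
    refine ((PrimeSpectrum.isOpen_singleton_tfae_of_isNoetherian_of_isJacobsonRing (eY ⟨zz, rfl⟩)).out 0 2 rfl rfl).2 ⟨?_, ?_⟩
    · refine isClosed_of_closure_subset fun w hw => ?_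
      exact Set.mem_singleton_iff.2 (hfib w (.inr (specializes_iff_mem_closure.2 hw)))
    · intro a b hab ha
      rw [Set.mem_singleton_iff] at ha ⊢
      exact hfib b (.inl (ha ▸ hab))
  · letI := (Ideal.ResidueField.mapₐ p y (Algebra.ofId R _) hyp.over).toRingHom.toAlgebra
    let j₀ : y.ResidueField →ₐ[R] x.asIdeal.ResidueField :=
      Ideal.ResidueField.mapₐ y x.asIdeal (ιC.comp φ) (Ideal.ext fun a => hyx a)
    let j : y.ResidueField →ₐ[p.ResidueField] x.asIdeal.ResidueField :=
      { j₀.toRingHom with commutes' := fun c => DFunLike.congr_fun (Ideal.ResidueField.algHom_ext (I := p)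
          (f := j₀.comp ({ (algebraMap p.ResidueField y.ResidueField) with
            commutes' := fun a => (Ideal.ResidueField.mapₐ p y (Algebra.ofId R _) hyp.over).commutes a } :
            p.ResidueField →ₐ[R] y.ResidueField))
          (g := IsScalarTower.toAlgHom R p.ResidueField x.asIdeal.ResidueField) (Subsingleton.elim _ _)) c }
    have hj : ∀ a, j (algebraMap _ y.ResidueField a) = algebraMap (p.Fiber C) x.asIdeal.ResidueField (ιC (φ a)) := fun a =>
      Ideal.ResidueField.map_algebraMap _ _ _ _ _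
    let T' : ULift.{u} (Fin r) → y.ResidueField := fun i =>
      algebraMap (MvPolynomial (Fin (m + r)) R) y.ResidueField (MvPolynomial.X (Fin.natAdd m i.down))
    have hjT : (fun i => j (T' i)) = ξ ∘ ULift.down := funext fun i => by simp [T', hj, φ, t, ξ]
    have hξ' : IsTranscendenceBasis p.ResidueField (fun i => j (T' i)) := hjT ▸ hξ.comp_equiv Equiv.ulift
    refine ⟨_, T', ⟨AlgebraicIndependent.of_comp j hξ'.1, fun s hs hTs => ?_⟩, ?_⟩
    · have h1 : AlgebraicIndepOn p.ResidueField id (j '' s) := AlgebraicIndependent.image_of_comp s j id (hs.map' j.toRingHom.injective)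
      have h2 := hξ'.2 (j '' s) h1 (by rintro _ ⟨i, rfl⟩; exact ⟨_, hTs ⟨i, rfl⟩, rfl⟩)
      refine (j.toRingHom.injective.image_injective ?_)
      show j '' Set.range T' = j '' s
      rw [← h2, ← Set.range_comp]
      rfl
    · let E := IntermediateField.adjoin p.ResidueField (Set.range T')
      refine eq_top_iff.2 fun c _ => ?_
      have hmem : ∀ a : MvPolynomial (Fin (m + r)) R, algebraMap _ y.ResidueField a ∈ E := by
        intro a
        induction a using MvPolynomial.induction_on with
        | C a =>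
          rw [← MvPolynomial.algebraMap_eq, ← IsScalarTower.algebraMap_apply,
            ← (Ideal.ResidueField.mapₐ p y (Algebra.ofId R _) hyp.over).commutes a]
          exact E.algebraMap_mem (algebraMap R p.ResidueField a)
        | add a b ha hb => rw [map_add]; exact E.add_mem ha hb
        | mul_X a i ha =>
          rw [map_mul]
          refine E.mul_mem ha ?_
          refine Fin.addCases (fun i => ?_) (fun i => IntermediateField.subset_adjoin p.ResidueField _ ⟨⟨i⟩, rfl⟩) i
          rw [Ideal.algebraMap_residueField_eq_zero.2 ((hyx _).2 (htB i))]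
          exact E.zero_mem
      obtain ⟨a, b, -, rfl⟩ := IsFractionRing.div_surjective (A := MvPolynomial (Fin (m + r)) R ⧸ y) c
      obtain ⟨a, rfl⟩ := Ideal.Quotient.mk_surjective a
      obtain ⟨b, rfl⟩ := Ideal.Quotient.mk_surjective b
      exact E.div_mem (hmem a) (hmem b)

end Coord

end Groth.Agent.RGCore
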