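import Groth.Agent.RGCore.GeomIntNhd
import Groth.Agent.RGCore.QFCoord
import Groth.Agent.RGCore.GeomIntConv
import Groth.Agent.FibDim.Top
import Groth.Agent.S1276
import Mathlib.RingTheory.Unramified.LocalStructure
import Mathlib.RingTheory.TensorProduct.Quotient

/-!
Helpers for the existence of elementary dévissages.
-/

set_option autoImplicit false
set_option linter.style.haveILetI false
set_option maxHeartbeats 1000000
set_option synthInstance.maxHeartbeats 200000

universe u

open TensorProduct FlatCA

namespace Groth.Agent.RGCore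

/-- Base change of a point with trivial residue extension has trivial residue extension. -/
theorem bijective_residue_baseChange {R R' S : Type u} [CommRing R] [CommRing R'] [CommRing S] [Algebra R R']
    [Algebra R S] {p : Ideal R} {q : Ideal R'} [p.IsPrime] [q.IsPrime] [q.LiesOver p]
    (H : Function.Bijective (Ideal.ResidueField.mapₐ p q (Algebra.ofId R R') (q.over_def p)))
    (Q : Ideal (R' ⊗[R] S)) [Q.IsPrime] [Q.LiesOver q] (a : Ideal S) [a.IsPrime]
    (ha : a = Q.comap Algebra.TensorProduct.includeRight.toRingHom) :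
    Function.Bijective (Ideal.ResidueField.map a Q Algebra.TensorProduct.includeRight.toRingHom ha) := by
  let f := Ideal.ResidueField.map a Q Algebra.TensorProduct.includeRight.toRingHom ha
  let g : q.ResidueField →+* Q.ResidueField :=
    Ideal.ResidueField.map q Q Algebra.TensorProduct.includeLeftRingHom (Q.over_def q)
  have hap : p = a.comap (algebraMap R S) := by
    ext r
    rw [ha, q.over_def p, Q.over_def q]
    show algebraMap R' (R' ⊗[R] S) (algebraMap R R' r) ∈ Q ↔
      (Algebra.TensorProduct.includeRight : S →ₐ[R] R' ⊗[R] S) (algebraMap R S r) ∈ Q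
    rw [AlgHom.commutes, IsScalarTower.algebraMap_apply R R' (R' ⊗[R] S)]
  let h := Ideal.ResidueField.map p a (algebraMap R S) hap
  have hcomp : g.comp (Ideal.ResidueField.mapₐ p q (Algebra.ofId R R') (q.over_def p)).toRingHom = f.comp h := by
    refine Ideal.ResidueField.ringHom_ext (RingHom.ext fun r => ?_)
    show g (Ideal.ResidueField.mapₐ p q (Algebra.ofId R R') (q.over_def p) (algebraMap R p.ResidueField r)) =
      f (h (algebraMap R p.ResidueField r))
    rw [AlgHom.commutes, IsScalarTower.algebraMap_apply R R' q.ResidueField]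
    simp only [f, g, h, Ideal.ResidueField.map_algebraMap]
    refine congr_arg _ ?_
    show (algebraMap R R' r) ⊗ₜ[R] (1 : S) = _
    exact ((Algebra.TensorProduct.includeRight : S →ₐ[R] R' ⊗[R] S).commutes r).symm
  refine ⟨f.injective, fun w => ?_⟩
  have hmem : ∀ t, algebraMap (R' ⊗[R] S) Q.ResidueField t ∈ f.fieldRange := by
    intro t
    induction t with
    | zero => rw [map_zero]; exact f.fieldRange.zero_mem
    | add a b ha hb => rw [map_add]; exact f.fieldRange.add_mem ha hb
    | tmul r s =>
      rw [show (r ⊗ₜ[R] s : R' ⊗[R] S) = (r ⊗ₜ 1) * (1 ⊗ₜ s) by simp, map_mul]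
      refine f.fieldRange.mul_mem ?_ ⟨algebraMap S _ s, Ideal.ResidueField.map_algebraMap _ _ _ _ _⟩
      obtain ⟨c, hc⟩ := H.2 (algebraMap R' q.ResidueField r)
      exact ⟨h c, ((DFunLike.congr_fun hcomp c).symm.trans (congr_arg g hc)).trans
        (Ideal.ResidueField.map_algebraMap _ _ _ _ _)⟩
  obtain ⟨c, d, -, rfl⟩ := IsFractionRing.div_surjective (A := (R' ⊗[R] S) ⧸ Q) w
  obtain ⟨c, rfl⟩ := Ideal.Quotient.mk_surjective c
  obtain ⟨d, rfl⟩ := Ideal.Quotient.mk_surjective d
  exact f.fieldRange.div_mem (hmem c) (hmem d)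

/-- Purely transcendental residue fields are kept by trivial residue extensions. -/
theorem purelyTranscendental_congr {R D R' D' : Type u} [CommRing R] [CommRing D] [CommRing R'] [CommRing D']
    [Algebra R D] [Algebra R' D'] (i : R →+* R') (j : D →+* D')
    (hij : j.comp (algebraMap R D) = (algebraMap R' D').comp i)
    (p : Ideal R) [p.IsPrime] (y : Ideal D) [y.IsPrime] [y.LiesOver p]
    (p' : Ideal R') [p'.IsPrime] (y' : Ideal D') [y'.IsPrime] [y'.LiesOver p']
    (hp : p = p'.comap i) (hy : y = y'.comap j)
    (hi : Function.Bijective (Ideal.ResidueField.map p p' i hp))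
    (hj : Function.Bijective (Ideal.ResidueField.map y y' j hy))
    (h : FlatCA.PurelyTranscendental p y) : FlatCA.PurelyTranscendental p' y' := by
  letI := (Ideal.ResidueField.mapₐ p y (Algebra.ofId R D) (y.over_def p)).toRingHom.toAlgebra
  letI := (Ideal.ResidueField.mapₐ p' y' (Algebra.ofId R' D') (y'.over_def p')).toRingHom.toAlgebra
  let f := RingEquiv.ofBijective _ hi
  let g := RingEquiv.ofBijective _ hj
  have hfg : ∀ c, algebraMap p'.ResidueField y'.ResidueField (f c) = g (algebraMap p.ResidueField y.ResidueField c) := by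
    intro c
    refine DFunLike.congr_fun (f := (algebraMap p'.ResidueField y'.ResidueField).comp f.toRingHom)
      (g := g.toRingHom.comp (algebraMap p.ResidueField y.ResidueField))
      (Ideal.ResidueField.ringHom_ext (RingHom.ext fun r => ?_)) c
    show Ideal.ResidueField.mapₐ p' y' (Algebra.ofId R' D') (y'.over_def p')
        (Ideal.ResidueField.map p p' i hp (algebraMap R p.ResidueField r)) =
      Ideal.ResidueField.map y y' j hy
        (Ideal.ResidueField.mapₐ p y (Algebra.ofId R D) (y.over_def p) (algebraMap R p.ResidueField r))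
    rw [Ideal.ResidueField.map_algebraMap, AlgHom.commutes, AlgHom.commutes,
      IsScalarTower.algebraMap_apply R D y.ResidueField, IsScalarTower.algebraMap_apply R' D' y'.ResidueField,
      Ideal.ResidueField.map_algebraMap]
    exact congr_arg _ (DFunLike.congr_fun hij r).symm
  obtain ⟨ι, x, hx, htop⟩ := h
  refine ⟨ι, g ∘ x, ⟨(algebraicIndependent_ringHom_iff_of_comp_eq f g g.injective
    (RingHom.ext hfg)).2 hx.1, fun s hs hxs => ?_⟩, ?_⟩
  · have h1 : (fun a : g ⁻¹' s => (a.1 : y.ResidueField)) = g.symm ∘ (fun b : s => (b.1 : y'.ResidueField)) ∘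
        fun a : g ⁻¹' s => (⟨g a.1, a.2⟩ : s) := funext fun a => (g.symm_apply_apply _).symm
    have h2 : AlgebraicIndepOn p.ResidueField id (g ⁻¹' s) := by
      show AlgebraicIndependent p.ResidueField fun a : g ⁻¹' s => (a.1 : y.ResidueField)
      rw [h1]
      refine (algebraicIndependent_ringHom_iff_of_comp_eq f.symm g.symm g.symm.injective
        (RingHom.ext fun c => ?_)).2 (hs.comp _ fun a b hab => Subtype.ext (g.injective (congr_arg Subtype.val hab)))
      obtain ⟨c, rfl⟩ := f.surjective c
      simp [hfg]
    have h3 := hx.2 _ h2 (by rintro _ ⟨i, rfl⟩; exact hxs ⟨i, rfl⟩)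
    rw [Set.range_comp, h3, Set.image_preimage_eq _ g.surjective]
  · let E := IntermediateField.adjoin p'.ResidueField (Set.range (g ∘ x))
    let F : IntermediateField p.ResidueField y.ResidueField :=
      (E.toSubfield.comap g.toRingHom).toIntermediateField fun c => by
        show g (algebraMap p.ResidueField y.ResidueField c) ∈ E
        rw [← hfg]
        exact E.algebraMap_mem _
    have hF : F = ⊤ := top_le_iff.1 (htop ▸ IntermediateField.adjoin_le_iff.2 (by
      rintro _ ⟨i, rfl⟩
      exact IntermediateField.subset_adjoin p'.ResidueField _ ⟨i, rfl⟩))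
    refine eq_top_iff.2 fun b _ => ?_
    obtain ⟨a, rfl⟩ := g.surjective b
    exact (show a ∈ F from hF ▸ IntermediateField.mem_top)

end Groth.Agent.RGCore
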