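import Groth.Agent.RGCore.DevissageStep
import Groth.Agent.S1231
import Mathlib.RingTheory.Spectrum.Prime.Chevalley

/-!
Flatness along an elementary dévissage.
-/

set_option autoImplicit false
set_option linter.unusedSectionVars false
set_option linter.style.haveILetI false

universe u

open TensorProduct FlatCA

namespace Groth.Agent.RGCore

section Finite

variable {R B A : Type u} [CommRing R] [CommRing B] [CommRing A] [Algebra R B] [Algebra R A] [Algebra B A]
  [IsScalarTower R B A] [Module.Finite B A]
  (M : Type u) [AddCommGroup M] [Module R M] [Module A M] [IsScalarTower R A M] [Module B M]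
  [IsScalarTower B A M] [IsScalarTower R B M]

/-- Flatness at a point below finitely many points follows from flatness at all of them. -/
theorem flatAt_of_forall (P : Ideal B) [P.IsPrime]
    (h : ∀ (Q : Ideal A) [Q.IsPrime], Q.LiesOver P → FlatCA.FlatAt R Q M) : FlatCA.FlatAt R P M := by
  unfold FlatCA.FlatAt at h ⊢
  rw [FlatModel.flat_localized_iff P.primeCompl (LocalizedModule.mkLinearMap P.primeCompl M)]
  intro J y hy
  let I : Ideal A := (Submodule.span A {y}).annihilator
  by_contra hcon
  push Not at hcon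
  obtain ⟨Q, hIQ, hQ, hQP⟩ := Ideal.exists_ideal_over_prime_of_isIntegral P I fun b hb => by
    by_contra hbP
    refine hcon b hbP ?_
    have := (Submodule.mem_annihilator_span_singleton _ _).1 (Ideal.mem_comap.1 hb)
    rwa [algebraMap_smul] at this
  obtain ⟨a, ha, hay⟩ :=
    (FlatModel.flat_localized_iff Q.primeCompl (LocalizedModule.mkLinearMap Q.primeCompl M)).1 (h Q ⟨hQP.symm⟩) J y hy
  exact ha (hIQ ((Submodule.mem_annihilator_span_singleton _ _).2 hay))

end Finite

/-- Flatness on a basic open is flatness at its points. -/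
theorem flat_away_iff {R S : Type u} [CommRing R] [CommRing S] [Algebra R S] (M : Type u) [AddCommGroup M]
    [Module S M] [Module R M] [IsScalarTower R S M] (g : S) :
    Module.Flat R (LocalizedModule (Submonoid.powers g) M) ↔
      ∀ (Q : Ideal S) [Q.IsPrime], g ∉ Q → FlatCA.FlatAt R Q M := by
  rw [FlatModel.flat_localized_iff (Submonoid.powers g) (LocalizedModule.mkLinearMap (Submonoid.powers g) M)]
  constructor
  · intro h Q _ hg
    show Module.Flat R _
    rw [FlatModel.flat_localized_iff Q.primeCompl (LocalizedModule.mkLinearMap Q.primeCompl M)]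
    intro J y hy
    obtain ⟨s, ⟨k, rfl⟩, hs⟩ := h J y hy
    exact ⟨g ^ k, fun h' => hg (‹Q.IsPrime›.mem_of_pow_mem k h'), hs⟩
  · intro h J y hy
    have hrad : g ∈ ((Submodule.span S {y}).annihilator).radical := by
      rw [Ideal.radical_eq_sInf, Submodule.mem_sInf]
      rintro (Q : Ideal S) ⟨hQ, hQp⟩
      by_contra hg
      haveI := hQp
      obtain ⟨s, hs, hsy⟩ := (FlatModel.flat_localized_iff Q.primeCompl
        (LocalizedModule.mkLinearMap Q.primeCompl M)).1 (h Q hg) J y hy
      exact hs (hQ ((Submodule.mem_annihilator_span_singleton _ _).2 hsy))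
    obtain ⟨k, hk⟩ := hrad
    exact ⟨g ^ k, ⟨k, rfl⟩, (Submodule.mem_annihilator_span_singleton _ _).1 hk⟩

section BaseChange

variable {R S S' : Type u} [CommRing R] [CommRing S] [CommRing S'] [Algebra R S] [Algebra R S'] [Algebra S S']
  [IsScalarTower R S S'] [Module.Flat S S']
  (N : Type u) [AddCommGroup N] [Module R N] [Module S N] [IsScalarTower R S N]
  {N' : Type u} [AddCommGroup N'] [Module R N'] [Module S' N'] [Module S N'] [IsScalarTower R S' N']
  [IsScalarTower S S' N'] (f : N →ₗ[S] N')
  (Q : Ideal S) [Q.IsPrime] (Q' : Ideal S') [Q'.IsPrime] [Q'.LiesOver Q]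

/-- Flatness at a point is insensitive to flat base change of the algebra. -/
theorem flatAt_baseChange_iff (hf : IsBaseChange S' f) :
    FlatCA.FlatAt R Q N ↔ FlatCA.FlatAt R Q' N' := by
  suffices H : FlatCA.FlatAt R Q N ↔ FlatCA.FlatAt R Q' (S' ⊗[S] N) from
    H.trans ⟨flatAt_congr Q' hf.equiv, flatAt_congr Q' hf.equiv.symm⟩
  unfold FlatCA.FlatAt
  rw [FlatModel.flat_localized_iff Q.primeCompl (LocalizedModule.mkLinearMap Q.primeCompl N),
    FlatModel.flat_localized_iff Q'.primeCompl (LocalizedModule.mkLinearMap Q'.primeCompl (S' ⊗[S] N))]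
  refine forall_congr' fun J => ?_
  let θ : N ⊗[R] J →ₗ[S] N ⊗[R] R := AlgebraTensorModule.lTensor S N J.subtype
  let φ : (S' ⊗[S] N) ⊗[R] J ≃ₗ[S'] S' ⊗[S] (N ⊗[R] J) := AlgebraTensorModule.assoc R S S' S' N J
  let φR : (S' ⊗[S] N) ⊗[R] R ≃ₗ[S'] S' ⊗[S] (N ⊗[R] R) := AlgebraTensorModule.assoc R S S' S' N R
  have hφ : ∀ z, φR (J.subtype.lTensor (S' ⊗[S] N) z) = θ.lTensor S' (φ z) := by
    intro z
    induction z with
    | zero => simp
    | add a b ha hb => simp only [map_add, ha, hb]
    | tmul w j =>
      induction w with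
      | zero => simp
      | add a b ha hb => simp only [TensorProduct.add_tmul, map_add, ha, hb]
      | tmul s v => simp [φ, φR, θ]
  have hexact : Function.Exact ((LinearMap.ker θ).subtype.lTensor S') (θ.lTensor S') :=
    Module.Flat.lTensor_exact S' (LinearMap.exact_subtype_ker_map θ)
  constructor
  · intro h z hz
    have hz' : θ.lTensor S' (φ z) = 0 := by rw [← hφ, hz, map_zero]
    obtain ⟨w, hw⟩ := (hexact _).1 hz'
    obtain ⟨s, hs, hsw⟩ : ∃ s ∉ Q, s • w = 0 := by
      clear hw
      induction w with
      | zero => exact ⟨1, fun h1 => ‹Q.IsPrime›.ne_top ((Ideal.eq_top_iff_one _).2 h1), by simp⟩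
      | tmul a k =>
        obtain ⟨s, hs, hk⟩ := h k.1 k.2
        exact ⟨s, hs, by rw [TensorProduct.smul_tmul', TensorProduct.smul_tmul,
          show s • k = 0 from Subtype.ext hk, TensorProduct.tmul_zero]⟩
      | add a b ha hb =>
        obtain ⟨s, hs, ha⟩ := ha
        obtain ⟨t, ht, hb⟩ := hb
        exact ⟨s * t, fun h1 => (‹Q.IsPrime›.mem_or_mem h1).elim hs ht, by
          rw [smul_add, mul_comm, mul_smul, ha, smul_zero, zero_add, mul_comm, mul_smul, hb, smul_zero]⟩
    refine ⟨algebraMap S S' s, fun h1 => hs ((Ideal.mem_of_liesOver Q' Q s).2 h1), φ.injective ?_⟩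
    rw [map_smul, map_zero, algebraMap_smul, ← hw, ← map_smul, hsw, map_zero]
  · intro h k hk
    let τ : S ⧸ (Submodule.span S {k}).annihilator →ₗ[S] N ⊗[R] J :=
      Submodule.liftQ _ (LinearMap.toSpanSingleton S _ k) fun s hs =>
        (Submodule.mem_annihilator_span_singleton _ _).1 hs
    have hτ : Function.Injective τ := by
      simp only [τ]
      rw [← LinearMap.ker_eq_bot]
      apply Submodule.ker_liftQ_eq_bot
      exact fun s hs => (Submodule.mem_annihilator_span_singleton _ _).2 hs
    obtain ⟨s', hs', hs'k⟩ := h (φ.symm (1 ⊗ₜ k)) (φR.injective (by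
      rw [hφ, LinearEquiv.apply_symm_apply, LinearMap.lTensor_tmul, show θ k = 0 from hk, TensorProduct.tmul_zero,
        map_zero]))
    have h0 : s' ⊗ₜ[S] k = 0 := by
      rw [← map_smul] at hs'k
      have := (map_eq_zero_iff _ φ.symm.injective).1 hs'k
      rwa [TensorProduct.smul_tmul', smul_eq_mul, mul_one] at this
    have h1 : (s' ⊗ₜ[S] (Submodule.Quotient.mk 1 : S ⧸ (Submodule.span S {k}).annihilator)) = 0 := by
      refine Module.Flat.lTensor_preserves_injective_linearMap τ hτ ?_
      rw [LinearMap.lTensor_tmul, map_zero,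
        show τ (Submodule.Quotient.mk 1) = k from (Submodule.liftQ_apply _ _ _).trans (one_smul S k)]
      exact h0
    have h2 : s' ∈ ((Submodule.span S {k}).annihilator).map (algebraMap S S') := by
      have h3 : s' ∈ (Submodule.span S {k}).annihilator • (⊤ : Submodule S S') := by
        rw [← Submodule.Quotient.mk_eq_zero (p := (Submodule.span S {k}).annihilator • (⊤ : Submodule S S'))]
        exact (tensorQuotEquivQuotSMul S' (Submodule.span S {k}).annihilator).symm.injective
          ((tensorQuotEquivQuotSMul_symm_mk _ s').trans (h1.trans (map_zero _).symm))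
      rwa [Ideal.smul_top_eq_map, Submodule.restrictScalars_mem] at h3
    by_contra hcon
    push Not at hcon
    refine hs' ((Ideal.map_le_iff_le_comap.2 fun s hs => ?_) h2)
    by_contra hsQ
    exact hcon s (fun hQ => hsQ ((Ideal.mem_of_liesOver Q' Q s).1 hQ))
      ((Submodule.mem_annihilator_span_singleton _ _).1 hs)

end BaseChange

end Groth.Agent.RGCore
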