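import Groth.Agent.RGCore.GeomIntMain
import Groth.Agent.RGCore.FlatAtPoint
import Groth.Agent.FlatModel.Local
import Mathlib.RingTheory.Smooth.Flat
import Mathlib.RingTheory.Ideal.GoingUp
import Mathlib.AlgebraicGeometry.Geometrically.Irreducible

/-!
The step of a dévissage: a map from a free module over a smooth algebra with geometrically irreducible fibres
which is bijective at the generic point of the fibre.
-/

set_option autoImplicit false
set_option linter.unusedSectionVars false

universe u

open TensorProduct AlgebraicGeometry CategoryTheory Limits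

namespace Groth.Agent.RGCore

/-- Smooth algebras with geometrically irreducible fibres have geometrically integral fibres. -/
theorem isDomain_tensor_of_geomIrred {R B : Type u} [CommRing R] [CommRing B] [Algebra R B] [Algebra.Smooth R B]
    (h : FlatCA.GeomIrredFibres R B) (K : Type u) [Field K] [Algebra R K] : IsDomain (K ⊗[R] B) := by
  let f := Spec.map (CommRingCat.ofHom (algebraMap R B))
  let g := Spec.map (CommRingCat.ofHom (algebraMap R K))
  have : GeometricallyIrreducible f := h
  have h1 : IrreducibleSpace (pullback f g : Scheme.{u}) :=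
    GeometricallyIrreducible.geometrically_irreducibleSpace (f := f) g (pullback.fst f g) (pullback.snd f g)
      (IsPullback.of_hasPullback f g)
  have h2 : IrreducibleSpace (Spec (CommRingCat.of (K ⊗[R] B)) : Scheme.{u}) :=
    haveI := h1
    (pullbackSymmetry f g ≪≫ pullbackSpecIso R K B).hom.homeomorph.surjective.irreducibleSpace
      (Scheme.Hom.homeomorph _).continuous
  have h3 : (nilradical (K ⊗[R] B)).IsPrime := PrimeSpectrum.irreducibleSpace_iff_isPrime_nilradical.1 h2
  have : IsReduced (K ⊗[R] B) := Groth.Agent.S9407.result K (K ⊗[R] B)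
  rw [nilradical_eq_zero, Ideal.zero_eq_bot] at h3
  exact IsDomain.of_bot_isPrime _

section Transfer

variable {R B : Type u} [CommRing R] [CommRing B] [Algebra R B]

/-- Flatness at a point passes along a ring map to the module over the bigger ring. -/
theorem flatAt_of_flatAt_comap {A : Type u} [CommRing A] [Algebra R A] [Algebra B A] [IsScalarTower R B A]
    (qB : Ideal B) [qB.IsPrime] (qA : Ideal A) [qA.IsPrime] (hq : qA.comap (algebraMap B A) ≤ qB)
    (M : Type u) [AddCommGroup M] [Module R M] [Module A M] [IsScalarTower R A M] [Module B M]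
    [IsScalarTower B A M] [IsScalarTower R B M] (h : FlatCA.FlatAt R qB M) : FlatCA.FlatAt R qA M := by
  unfold FlatCA.FlatAt at h ⊢
  rw [FlatModel.flat_localized_iff qA.primeCompl (LocalizedModule.mkLinearMap qA.primeCompl M)]
  rw [FlatModel.flat_localized_iff qB.primeCompl (LocalizedModule.mkLinearMap qB.primeCompl M)] at h
  intro J y hy
  obtain ⟨b, hb, hby⟩ := h J y hy
  exact ⟨algebraMap B A b, fun h' => hb (hq h'), by rw [algebraMap_smul]; exact hby⟩

/-- Flatness at the only point of a finite algebra over a point. -/
theorem flatAt_of_unique {A : Type u} [CommRing A] [Algebra R A] [Algebra B A] [IsScalarTower R B A]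
    [Module.Finite B A] (qB : Ideal B) [qB.IsPrime] (qA : Ideal A) [qA.IsPrime]
    (huniq : ∀ (Q : Ideal A) [Q.IsPrime], Q.LiesOver qB → Q = qA)
    (M : Type u) [AddCommGroup M] [Module R M] [Module A M] [IsScalarTower R A M] [Module B M]
    [IsScalarTower B A M] [IsScalarTower R B M] (h : FlatCA.FlatAt R qA M) : FlatCA.FlatAt R qB M := by
  unfold FlatCA.FlatAt at h ⊢
  rw [FlatModel.flat_localized_iff qA.primeCompl (LocalizedModule.mkLinearMap qA.primeCompl M)] at h
  rw [FlatModel.flat_localized_iff qB.primeCompl (LocalizedModule.mkLinearMap qB.primeCompl M)]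
  intro J y hy
  obtain ⟨a, ha, hay⟩ := h J y hy
  let I : Ideal A := (Submodule.span A {y}).annihilator
  have haI : a ∈ I := (Submodule.mem_annihilator_span_singleton _ _).2 hay
  by_contra hcon
  push Not at hcon
  obtain ⟨Q, hIQ, hQ, hQB⟩ := Ideal.exists_ideal_over_prime_of_isIntegral qB I fun b hb => by
    by_contra hbq
    refine hcon b hbq ?_
    have := (Submodule.mem_annihilator_span_singleton _ _).1 (Ideal.mem_comap.1 hb)
    rwa [algebraMap_smul] at this
  exact ha ((huniq Q ⟨hQB.symm⟩) ▸ hIQ haI)

/-- Flatness at a point is invariant under isomorphisms. -/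
theorem flatAt_congr (q : Ideal B) [q.IsPrime] {M M' : Type u} [AddCommGroup M] [Module R M] [Module B M]
    [IsScalarTower R B M] [AddCommGroup M'] [Module R M'] [Module B M'] [IsScalarTower R B M'] (e : M ≃ₗ[B] M')
    (h : FlatCA.FlatAt R q M) : FlatCA.FlatAt R q M' := by
  unfold FlatCA.FlatAt at h ⊢
  rw [FlatModel.flat_localized_iff q.primeCompl (LocalizedModule.mkLinearMap q.primeCompl M')]
  rw [FlatModel.flat_localized_iff q.primeCompl (LocalizedModule.mkLinearMap q.primeCompl M)] at h
  intro J y hy
  let F := AlgebraTensorModule.rTensor (A := B) R J e.symm.toLinearMap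
  have hF : ∀ z : M' ⊗[R] J, J.subtype.lTensor M (F z) =
      (e.symm.toLinearMap.restrictScalars R).rTensor R (J.subtype.lTensor M' z) := by
    intro z
    induction z with
    | zero => simp
    | add a b ha hb => simp only [map_add, ha, hb]
    | tmul a b => simp [F]
  obtain ⟨b, hb, hby⟩ := h J (F y) (by rw [hF, hy, map_zero])
  refine ⟨b, hb, ?_⟩
  rw [← map_smul] at hby
  exact (injective_iff_map_eq_zero F).1
    ((TensorProduct.congr (e.symm.restrictScalars R) (LinearEquiv.refl R J)).injective) _ hby

end Transfer

section Step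

variable {R B : Type u} [CommRing R] [CommRing B] [Algebra R B] [Algebra.FiniteType R B] [Module.Flat R B]
  (H : ∀ (K : Type u) [Field K] [Algebra R K], IsDomain (K ⊗[R] B))
  {M : Type u} [AddCommGroup M] [Module R M] [Module B M] [IsScalarTower R B M] [Module.Finite B M]

include H in
/-- Over a local ring: a map from a finite free module which is injective at the generic point of the closed
fibre, into a module flat at a point of the closed fibre, is universally injective. -/
theorem eq_zero_of_generic_fibre [IsLocalRing R] (rr : Ideal R) [rr.IsPrime]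
    (hrr : rr = IsLocalRing.maximalIdeal R) [hP : (rr.map (algebraMap R B)).IsPrime]
    (qB : Ideal B) [qB.IsPrime] [qB.LiesOver rr] (hflat : FlatCA.FlatAt R qB M)
    {r : ℕ} (α : (Fin r → B) →ₗ[B] M)
    (hα : Function.Injective (α.baseChange (rr.map (algebraMap R B)).ResidueField))
    {Z : Type u} [AddCommGroup Z] [Module R Z] (w : Z ⊗[R] (Fin r → B))
    (hw : (α.restrictScalars R).lTensor Z w = 0) : w = 0 := by
  classical
  let P := rr.map (algebraMap R B)
  have : P.LiesOver rr := ⟨le_antisymm Ideal.le_comap_map
    (hrr ▸ IsLocalRing.le_maximalIdeal (Ideal.comap_ne_top _ hP.ne_top))⟩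
  have hPq : P ≤ qB := Ideal.map_le_iff_le_comap.2 (qB.over_def rr).le
  let c : (ULift.{u} (Fin r) → B) ≃ₗ[B] (Fin r → B) := LinearEquiv.funCongrLeft B B Equiv.ulift.symm
  let α' := α ∘ₗ c.toLinearMap
  have hα' : Function.Injective (α'.baseChange P.ResidueField) := by
    rw [LinearMap.baseChange_comp, LinearMap.coe_comp]
    exact hα.comp (LinearEquiv.baseChange B P.ResidueField _ _ c).injective
  let w' := (c.symm.toLinearMap.restrictScalars R).lTensor Z w
  have hcc : (c.toLinearMap.restrictScalars R).lTensor Z w' = w := by
    rw [← LinearMap.lTensor_comp_apply, show (c.toLinearMap.restrictScalars R).comp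
      (c.symm.toLinearMap.restrictScalars R) = LinearMap.id from LinearMap.ext fun x => c.apply_symm_apply x,
      LinearMap.lTensor_id_apply]
  have hw' : (α'.restrictScalars R).lTensor Z w' = 0 := by
    rw [show α'.restrictScalars R = (α.restrictScalars R).comp (c.toLinearMap.restrictScalars R) from rfl,
      LinearMap.lTensor_comp_apply, hcc, hw]
  obtain ⟨t, ht, htw⟩ := killed_generic rr α' hα' (flatAt_of_le M hPq hflat) w' hw'
  have : w' = 0 := by
    refine eq_zero_of_lsmul' H w' t (fun p hp => ?_) htw
    obtain ⟨m, hm⟩ := hp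
    haveI : p.IsPrime := hm.1.1
    obtain ⟨Q, hQP, hQ, hQp⟩ := Ideal.exists_ideal_le_liesOver_of_le (p := p) (q := rr) P
      (hrr ▸ IsLocalRing.le_maximalIdeal hm.1.1.ne_top)
    exact ⟨Q, hQ, hQp, fun h => ht (hQP h)⟩
  rw [← hcc, this, map_zero]

include H in
/-- The step of a dévissage over a local ring. -/
theorem devissage_step [IsLocalRing R] (rr : Ideal R) [rr.IsPrime] (hrr : rr = IsLocalRing.maximalIdeal R)
    [hP : (rr.map (algebraMap R B)).IsPrime] (qB : Ideal B) [qB.IsPrime] [qB.LiesOver rr]
    (hflat : FlatCA.FlatAt R qB M) {r : ℕ} (α : (Fin r → B) →ₗ[B] M)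
    (hα : Function.Injective (α.baseChange (rr.map (algebraMap R B)).ResidueField)) :
    Function.Injective α ∧ FlatCA.FlatAt R qB (M ⧸ LinearMap.range α) := by
  refine ⟨(injective_iff_map_eq_zero α).2 fun x hx => ?_, ?_⟩
  · have := eq_zero_of_generic_fibre H rr hrr qB hflat α hα (Z := R) ((1 : R) ⊗ₜ x) (by
      rw [LinearMap.lTensor_tmul, LinearMap.restrictScalars_apply, hx, tmul_zero])
    simpa using congr(TensorProduct.lid R (Fin r → B) $this)
  · refine flat_localized_coker qB.primeCompl α hflat fun J w hw => ⟨1, qB.primeCompl.one_mem, ?_⟩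
    rw [eq_zero_of_generic_fibre H rr hrr qB hflat α hα w hw, map_zero]

end Step

/-- Finitely presented modules over a subring are finitely presented over a finite algebra. -/
theorem fp_of_finite_algebra {B A : Type u} [CommRing B] [CommRing A] [Algebra B A] [Module.Finite B A]
    (M : Type u) [AddCommGroup M] [Module B M] [Module A M] [IsScalarTower B A M] [Module.FinitePresentation B M] :
    Module.FinitePresentation A M := by
  have : Module.Finite A M := Module.Finite.of_restrictScalars_finite B A M
  obtain ⟨k, g, hg⟩ := Module.Finite.exists_fin' A M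
  refine Module.finitePresentation_of_surjective g hg ?_
  have hfg : (LinearMap.ker (g.restrictScalars B)).FG := Module.FinitePresentation.fg_ker _ hg
  rw [LinearMap.ker_restrictScalars] at hfg
  exact Submodule.FG.of_restrictScalars B hfg

end Groth.Agent.RGCore
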