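import Groth.Agent.RGCore.DevissageExist
import Mathlib.RingTheory.Finiteness.Basic
import Mathlib.Algebra.Module.Torsion.Basic

/-!
Existence of elementary dévissages.
-/

set_option autoImplicit false
set_option linter.style.haveILetI false
set_option maxHeartbeats 1600000
set_option synthInstance.maxHeartbeats 200000

universe u

open TensorProduct FlatCA

namespace Groth.Agent.RGCore

/-- A closed subscheme of finite presentation carrying the module, of the right dimension in the fibre. -/
theorem exists_cut {R S : Type u} [CommRing R] [CommRing S] [Algebra R S] [Algebra.FiniteType R S]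
    (N : Type u) [AddCommGroup N] [Module S N] [Module R N] [IsScalarTower R S N] [Module.Finite S N]
    (p : Ideal R) [p.IsPrime] (q : Ideal S) [q.IsPrime] [q.LiesOver p] (n : ℕ)
    (x : PrimeSpectrum (p.Fiber S)) (hxq : x.asIdeal = FlatCA.fiberIdeal p q)
    (hx : x ∈ Module.support (p.Fiber S) (FlatCA.fiberMod p S N))
    (hn : FlatMor.localDim (Module.support (p.Fiber S) (FlatCA.fiberMod p S N)) ⟨x, hx⟩ = n) :
    ∃ I : Ideal S, I.FG ∧ I ≤ Module.annihilator S N ∧ I ≤ q ∧
      ∃ x' : PrimeSpectrum (p.Fiber (S ⧸ I)),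
        x'.asIdeal.comap Algebra.TensorProduct.includeRight.toRingHom = q.map (Ideal.Quotient.mk I) ∧
        FlatMor.localDim (PrimeSpectrum (p.Fiber (S ⧸ I))) x' = n := by
  obtain ⟨I, hfg, hann, hI⟩ := S1276.result (A := R) (B := S) N p
  let iS : S →ₐ[R] p.Fiber S := Algebra.TensorProduct.includeRight
  let σ : p.Fiber S →ₐ[p.ResidueField] p.Fiber (S ⧸ I) :=
    Algebra.TensorProduct.map (AlgHom.id p.ResidueField p.ResidueField) (Ideal.Quotient.mkₐ R I)
  have hσ : Function.Surjective σ :=
    Algebra.TensorProduct.map_surjective _ _ Function.surjective_id (Ideal.Quotient.mkₐ_surjective R I)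
  have hker : RingHom.ker σ.toRingHom = FlatCA.fiberIdeal p I := by
    have := Algebra.TensorProduct.lTensor_ker (A := p.ResidueField) (Ideal.Quotient.mkₐ R I)
      (Ideal.Quotient.mkₐ_surjective R I)
    rw [show RingHom.ker (Ideal.Quotient.mkₐ R I) = I from Ideal.Quotient.mkₐ_ker R I] at this
    exact this
  have hrange : Set.range (PrimeSpectrum.comap σ.toRingHom) =
      Module.support (p.Fiber S) (FlatCA.fiberMod p S N) := by
    rw [range_comap_of_surjective _ _ hσ, hker]
    ext w
    rw [PrimeSpectrum.mem_zeroLocus, SetLike.coe_subset_coe]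
    exact hI w
  let e : PrimeSpectrum (p.Fiber (S ⧸ I)) ≃ₜ Module.support (p.Fiber S) (FlatCA.fiberMod p S N) :=
    (PrimeSpectrum.isClosedEmbedding_comap_of_surjective _ σ.toRingHom hσ).isEmbedding.toHomeomorph.trans
      (Homeomorph.setCongr hrange)
  let o := PrimeSpectrum.primesOverOrderIsoFiber R S p
  have hxS : x.asIdeal.comap iS.toRingHom = q := by
    refine le_antisymm ?_ (hxq ▸ Ideal.le_comap_map)
    have hle : x.asIdeal ≤ (o ⟨q, ‹_›, ‹_›⟩).asIdeal := by
      rw [hxq]
      exact Ideal.map_le_iff_le_comap.2 (congr_arg Subtype.val (o.symm_apply_apply ⟨q, ‹_›, ‹_›⟩)).ge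
    exact (Ideal.comap_mono hle).trans (congr_arg Subtype.val (o.symm_apply_apply ⟨q, ‹_›, ‹_›⟩)).le
  let x' := e.symm ⟨x, hx⟩
  have hx' : x'.asIdeal.comap σ.toRingHom = x.asIdeal :=
    congr_arg (fun w : Module.support (p.Fiber S) (FlatCA.fiberMod p S N) => w.1.asIdeal) (e.apply_symm_apply ⟨x, hx⟩)
  have hIq : I ≤ q := by
    rw [← hxS]
    exact Ideal.map_le_iff_le_comap.1 ((hI x).2 hx)
  have hc : (x'.asIdeal.comap Algebra.TensorProduct.includeRight.toRingHom).comap (Ideal.Quotient.mk I) = q := by
    rw [← hxS, ← hx', Ideal.comap_comap, Ideal.comap_comap]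
    congr 1
  refine ⟨I, hfg, hann, hIq, x', ?_, ?_⟩
  · rw [← hc, Ideal.map_comap_of_surjective _ Ideal.Quotient.mk_surjective]
  · rw [← hn, ← FibDim.localDim_homeomorph e x', e.apply_symm_apply]

/-- A localisation at one element, without the algebra structures over other rings. -/
def Loc {A : Type u} [CommRing A] (a : A) : Type u := Localization.Away a

noncomputable instance {A : Type u} [CommRing A] (a : A) : CommRing (Loc a) :=
  inferInstanceAs (CommRing (Localization.Away a))

noncomputable instance {A : Type u} [CommRing A] (a : A) : Algebra A (Loc a) :=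
  inferInstanceAs (Algebra A (Localization.Away a))

instance {A : Type u} [CommRing A] (a : A) : IsLocalization.Away a (Loc a) :=
  inferInstanceAs (IsLocalization.Away a (Localization.Away a))

instance {A : Type u} [CommRing A] (a : A) : Algebra.Etale A (Loc a) :=
  inferInstanceAs (Algebra.Etale A (Localization.Away a))

theorem exists_prime_away {A B : Type u} [CommRing A] [CommRing B] [Algebra A B] (a : A) [IsLocalization.Away a B]
    (P : Ideal A) [P.IsPrime] (ha : a ∉ P) :
    ∃ (P' : Ideal B) (_ : P'.IsPrime) (h : P = P'.comap (algebraMap A B)),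
      Function.Bijective (Ideal.ResidueField.map P P' (algebraMap A B) h) := by
  have hd : Disjoint (Submonoid.powers a : Set A) P := by
    rwa [Ideal.disjoint_powers_iff_notMem_of_isPrime]
  haveI := IsLocalization.isPrime_of_isPrime_disjoint (.powers a) B P ‹_› hd
  have hl : (P.map (algebraMap A B)).LiesOver P :=
    IsLocalization.liesOver_map_of_isPrime_disjoint (.powers a) _ hd
  exact ⟨_, ‹_›, hl.over,
    (RingHom.surjectiveOnStalks_of_isLocalization (.powers a) _).residueFieldMap_bijective _ _ _⟩

/-- Trivial residue extensions compose. -/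
theorem bijective_residue_comp {A B C : Type u} [CommRing A] [CommRing B] [CommRing C] {a : Ideal A}
    {b : Ideal B} {c : Ideal C} [a.IsPrime] [b.IsPrime] [c.IsPrime] {f : A →+* B} {g : B →+* C}
    (hf : a = b.comap f) (hg : b = c.comap g) (hgf : a = c.comap (g.comp f))
    (h₁ : Function.Bijective (Ideal.ResidueField.map a b f hf))
    (h₂ : Function.Bijective (Ideal.ResidueField.map b c g hg)) :
    Function.Bijective (Ideal.ResidueField.map a c (g.comp f) hgf) := by
  have : Ideal.ResidueField.map a c (g.comp f) hgf =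
      (Ideal.ResidueField.map b c g hg).comp (Ideal.ResidueField.map a b f hf) :=
    Ideal.ResidueField.ringHom_ext (RingHom.ext fun r => by simp)
  rw [this]
  exact h₂.comp h₁

theorem bijective_residue_id {A : Type u} [CommRing A] (a : Ideal A) [a.IsPrime] (h : a = a.comap (RingHom.id A)) :
    Function.Bijective (Ideal.ResidueField.map a a (RingHom.id A) h) := by
  have : Ideal.ResidueField.map a a (RingHom.id A) h = RingHom.id a.ResidueField :=
    Ideal.ResidueField.ringHom_ext (RingHom.ext fun r => by simp)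
  rw [this]
  exact Function.bijective_id

/-- Elementary dévissages exist. -/
theorem nonempty_elemDevissage {R S : Type u} [CommRing R] [CommRing S] [Algebra R S] [Algebra.FiniteType R S]
    (N : Type u) [AddCommGroup N] [Module S N] [Module R N] [IsScalarTower R S N] [Module.Finite S N]
    (p : Ideal R) [p.IsPrime] (q : Ideal S) [q.IsPrime] [q.LiesOver p] (n : ℕ)
    (x : PrimeSpectrum (p.Fiber S)) (hxq : x.asIdeal = FlatCA.fiberIdeal p q)
    (hx : x ∈ Module.support (p.Fiber S) (FlatCA.fiberMod p S N))
    (hn : FlatMor.localDim (Module.support (p.Fiber S) (FlatCA.fiberMod p S N)) ⟨x, hx⟩ = n) :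
    Nonempty (FlatCA.ElemDevissage R S N p q n) := by
  classical
  obtain ⟨I, hIfg, hIann, hIq, x', hx', hn'⟩ := exists_cut N p q n x hxq hx hn
  let mkI : S →ₐ[R] S ⧸ I := Ideal.Quotient.mkₐ R I
  haveI hzprime : (q.map (Ideal.Quotient.mk I)).IsPrime :=
    Ideal.map_isPrime_of_surjective Ideal.Quotient.mk_surjective (by rwa [Ideal.mk_ker])
  have hzq : (q.map (Ideal.Quotient.mk I)).comap (Ideal.Quotient.mk I) = q := by
    rw [Ideal.comap_map_of_surjective _ Ideal.Quotient.mk_surjective, ← RingHom.ker_eq_comap_bot, Ideal.mk_ker,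
      sup_eq_left.2 hIq]
  haveI : (q.map (Ideal.Quotient.mk I)).LiesOver p := ⟨by
    conv_lhs => rw [q.over_def p, ← hzq, Ideal.under, Ideal.comap_comap]
    rfl⟩
  obtain ⟨φ, hφp, hQF, hpt⟩ := exists_coords p (q.map (Ideal.Quotient.mk I)) x' hx' n hn'
  choose t ht using fun i => Ideal.Quotient.mk_surjective (φ (MvPolynomial.X i))
  let φS : MvPolynomial (Fin n) R →ₐ[R] S := MvPolynomial.aeval t
  letI : Algebra (MvPolynomial (Fin n) R) S := φS.toRingHom.toAlgebra
  haveI : IsScalarTower R (MvPolynomial (Fin n) R) S := IsScalarTower.of_algebraMap_eq' φS.comp_algebraMap.symm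
  haveI : Algebra.FiniteType (MvPolynomial (Fin n) R) (S ⧸ I) :=
    Algebra.FiniteType.of_restrictScalars_finiteType R _ _
  have hφ : algebraMap (MvPolynomial (Fin n) R) (S ⧸ I) = φ.toRingHom := by
    have : mkI.comp φS = φ := MvPolynomial.algHom_ext fun i => by simp [mkI, φS, ht]
    rw [← this]
    rfl
  haveI hQF' : Algebra.QuasiFiniteAt (MvPolynomial (Fin n) R) (q.map (Ideal.Quotient.mk I)) := by
    convert hQF
    exact Algebra.algebra_ext _ _ fun r => DFunLike.congr_fun hφ r
  let y₀ := (q.map (Ideal.Quotient.mk I)).comap (algebraMap (MvPolynomial (Fin n) R) (S ⧸ I))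
  haveI : (q.map (Ideal.Quotient.mk I)).LiesOver y₀ := ⟨rfl⟩
  haveI hy₀q : q.LiesOver y₀ := ⟨by
    show y₀ = q.comap (algebraMap _ S)
    conv_rhs => rw [← hzq, Ideal.comap_comap]
    rfl⟩
  haveI hy₀p : y₀.LiesOver p := .tower_bot q y₀ p
  have hpt₀ : FlatCA.PurelyTranscendental p y₀ := by
    have key : ∀ (a b : Ideal (MvPolynomial (Fin n) R)) (_ : a.IsPrime) (_ : b.IsPrime) (_ : a.LiesOver p)
        (_ : b.LiesOver p), a = b → FlatCA.PurelyTranscendental p a → FlatCA.PurelyTranscendental p b := by
      rintro a b _ _ _ _ rfl h; exact h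
    exact key _ _ inferInstance inferInstance hφp hy₀p (by rw [← hφ]) hpt
  obtain ⟨P', _, _, _, Pp, _, _, e, he, P'', _, _, hP''q, heP'', bP', hfin, huniq⟩ :=
    Algebra.exists_etale_isIdempotentElem_forall_liesOver_eq y₀ (q.map (Ideal.Quotient.mk I))
  letI : Algebra R P' := ((algebraMap (MvPolynomial (Fin n) R) P').comp (algebraMap R _)).toAlgebra
  haveI : IsScalarTower R (MvPolynomial (Fin n) R) P' := IsScalarTower.of_algebraMap_eq' rfl
  haveI : Algebra.IsEtaleAt (MvPolynomial (Fin n) R) Pp :=
    Algebra.FormallyEtale.comp (MvPolynomial (Fin n) R) P' (Localization.AtPrime Pp)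
  obtain ⟨g₀, hg₀, hstd⟩ := Algebra.IsEtaleAt.exists_isStandardEtale (R := MvPolynomial (Fin n) R) Pp
  obtain ⟨y, _, hny⟩ := isEtaleNhd_away Pp g₀ hg₀
  obtain ⟨-, hly, bly⟩ := id hny
  haveI := hly
  haveI : y.LiesOver y₀ := .trans _ Pp _
  haveI : y.LiesOver p := .trans _ y₀ _
  have by0y : Function.Bijective (Ideal.ResidueField.map y₀ y
      (algebraMap (MvPolynomial (Fin n) R) (Localization.Away g₀)) (y.over_def y₀)) := by
    obtain ⟨-, _, b⟩ := isEtaleNhd_trans (p := y₀) (p₁ := Pp) (p₂ := y) ⟨‹_›, ‹_›, bP'⟩ hny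
    exact b
  have hpty : FlatCA.PurelyTranscendental p y :=
    purelyTranscendental_congr (RingHom.id R) (algebraMap (MvPolynomial (Fin n) R) (Localization.Away g₀))
      (by rw [RingHom.comp_id, ← IsScalarTower.algebraMap_eq]) p y₀ p y (Ideal.comap_id p).symm (y.over_def y₀)
      (bijective_residue_id p _) by0y hpt₀
  obtain ⟨R', _, _, p', _, y', _, g, hnR, hy'p, hy'y, hg, hGI⟩ := exists_geomInt_nhd (n := n) (D := Localization.Away g₀) p y hpty
  haveI := hy'p
  obtain ⟨hetR, hlR, bR⟩ := id hnR
  haveI := hlR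
  obtain ⟨yD, _, hnyD⟩ := isEtaleNhd_away y' g hg
  obtain ⟨-, hlyD, blyD⟩ := id hnyD
  haveI := hlyD
  haveI : yD.LiesOver p' := .trans _ y' _
  let iW : Localization.Away g₀ →ₐ[R] R' ⊗[R] Localization.Away g₀ := Algebra.TensorProduct.includeRight
  let jD : Localization.Away g₀ →+* Localization.Away g :=
    (algebraMap (R' ⊗[R] Localization.Away g₀) (Localization.Away g)).comp iW.toRingHom
  have hjDy : y = yD.comap jD := by
    rw [← hy'y, show y' = yD.comap (algebraMap _ (Localization.Away g)) from hlyD.over, Ideal.comap_comap]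
  have bjD : Function.Bijective (Ideal.ResidueField.map y yD jD hjDy) :=
    bijective_residue_comp hy'y.symm (yD.over_def y') hjDy (bijective_residue_baseChange bR y' y hy'y.symm) blyD
  have hjDR : ∀ r : R, jD (algebraMap R (Localization.Away g₀) r) =
      algebraMap R' (Localization.Away g) (algebraMap R R' r) := fun r => by
    show algebraMap _ (Localization.Away g) (iW (algebraMap R _ r)) = _
    rw [AlgHom.commutes, IsScalarTower.algebraMap_apply R R' (R' ⊗[R] Localization.Away g₀),
      ← IsScalarTower.algebraMap_apply R' (R' ⊗[R] Localization.Away g₀) (Localization.Away g)]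
  have hptD : FlatCA.PurelyTranscendental p' yD :=
    purelyTranscendental_congr (algebraMap R R') jD (RingHom.ext hjDR) p y p' yD (p'.over_def p) hjDy bR bjD hpty
  -- the algebra structures on the smooth algebra
  letI : Algebra (MvPolynomial (Fin n) R) (Localization.Away g) :=
    (jD.comp (algebraMap (MvPolynomial (Fin n) R) (Localization.Away g₀))).toAlgebra
  have hy₀yD : y₀ = yD.comap (algebraMap (MvPolynomial (Fin n) R) (Localization.Away g)) := by
    rw [RingHom.algebraMap_toAlgebra, ← Ideal.comap_comap, ← hjDy]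
    exact y.over_def y₀
  haveI : yD.LiesOver y₀ := ⟨hy₀yD⟩
  have bD : Function.Bijective (Ideal.ResidueField.mapₐ y₀ yD
      (Algebra.ofId (MvPolynomial (Fin n) R) (Localization.Away g)) (yD.over_def y₀)) :=
    bijective_residue_comp (y.over_def y₀) hjDy hy₀yD by0y bjD
  haveI hetD : Algebra.Etale (MvPolynomial (Fin n) R) (Localization.Away g) := by
    letI : Algebra (Localization.Away g₀) (R' ⊗[R] Localization.Away g₀) := Algebra.TensorProduct.rightAlgebra
    haveI : IsScalarTower (MvPolynomial (Fin n) R) (Localization.Away g₀) (Localization.Away g) :=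
      IsScalarTower.of_algebraMap_eq fun a => by
        rw [IsScalarTower.algebraMap_apply (Localization.Away g₀) (R' ⊗[R] Localization.Away g₀) (Localization.Away g)]
        rfl
    haveI : Algebra.Etale (Localization.Away g₀) (R' ⊗[R] Localization.Away g₀) :=
      Algebra.Etale.of_equiv (AlgEquiv.ofRingEquiv
        (f := (Algebra.TensorProduct.comm R (Localization.Away g₀) R').toRingEquiv) fun _ => rfl)
    haveI := Algebra.Etale.comp (Localization.Away g₀) (R' ⊗[R] Localization.Away g₀) (Localization.Away g)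
    exact Algebra.Etale.comp (MvPolynomial (Fin n) R) (Localization.Away g₀) (Localization.Away g)
  -- the point above `q`
  let F := Ideal.fiberIsoOfBijectiveResidueField (S := S) bD
  let qf := F.symm ⟨q, ‹_›, hy₀q⟩
  haveI := qf.2.1; haveI := qf.2.2
  have hqfq : qf.1.comap Algebra.TensorProduct.includeRight.toRingHom = q :=
    Ideal.comap_fiberIsoOfBijectiveResidueField_symm bD _
  let ι' : P' →ₐ[MvPolynomial (Fin n) R] Localization.Away g :=
    { jD.comp (algebraMap P' (Localization.Away g₀)) with
      commutes' := fun a => by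
        show jD (algebraMap P' (Localization.Away g₀) (algebraMap _ P' a)) = _
        rw [← IsScalarTower.algebraMap_apply]
        rfl }
  let σ : P' ⊗[MvPolynomial (Fin n) R] S →ₐ[MvPolynomial (Fin n) R] Localization.Away g ⊗[MvPolynomial (Fin n) R] S :=
    Algebra.TensorProduct.map ι' (AlgHom.id _ S)
  let π₀ : P' ⊗[MvPolynomial (Fin n) R] S →ₐ[P'] P' ⊗[MvPolynomial (Fin n) R] (S ⧸ I) :=
    Algebra.TensorProduct.map (AlgHom.id P' P') (Ideal.Quotient.mkₐ _ I)
  obtain ⟨e₁, he₁⟩ := Algebra.TensorProduct.map_surjective (AlgHom.id P' P')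
    (Ideal.Quotient.mkₐ (MvPolynomial (Fin n) R) I) Function.surjective_id (Ideal.Quotient.mkₐ_surjective _ I) e
  have hι'yD : yD.comap ι'.toRingHom = Pp := by
    rw [show ι'.toRingHom = jD.comp (algebraMap P' (Localization.Away g₀)) from rfl, ← Ideal.comap_comap, ← hjDy]
    exact (y.over_def Pp).symm
  have hσq : qf.1.comap σ.toRingHom = P''.comap π₀.toRingHom := by
    haveI : (qf.1.comap σ.toRingHom).LiesOver Pp := ⟨by
      ext a
      refine (Iff.of_eq (congr_arg (a ∈ ·) hι'yD.symm)).trans ?_
      refine (Iff.of_eq (congr_arg (ι' a ∈ ·) qf.2.2.over)).trans ?_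
      show ι' a ⊗ₜ (1 : S) ∈ qf.1 ↔ σ (a ⊗ₜ 1) ∈ qf.1
      simp [σ]⟩
    haveI : (P''.comap π₀.toRingHom).LiesOver Pp := ⟨by
      rw [P''.over_def Pp, Ideal.under, Ideal.under, Ideal.comap_comap]
      exact congrArg (fun f => Ideal.comap f P'') π₀.comp_algebraMap.symm⟩
    refine Ideal.eq_of_comap_eq_comap_of_bijective_residueFieldMap bP' _ _ ?_
    rw [Ideal.comap_comap, Ideal.comap_comap]
    calc qf.1.comap _ = q := by
          conv_rhs => rw [← hqfq]
          exact congrArg (fun f => Ideal.comap f qf.1) (RingHom.ext fun a => by simp [σ])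
      _ = P''.comap _ := by
          conv_lhs => rw [← hzq, ← hP''q, Ideal.comap_comap]
          exact congrArg (fun f => Ideal.comap f P'') (RingHom.ext fun a => by simp [π₀])
  let et := σ e₁
  have het : et ∉ qf.1 := fun h => heP'' (by
    have : e₁ ∈ qf.1.comap σ.toRingHom := h
    rw [hσq] at this
    exact (he₁ ▸ this : e ∈ P''))
  obtain ⟨q', _, hlq', blq'⟩ := exists_prime_away (B := Loc et) et qf.1 het
  haveI : q'.LiesOver qf.1 := ⟨hlq'⟩
  -- the algebra structures on `S'`
  let Sf := Localization.Away g ⊗[MvPolynomial (Fin n) R] S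
  let S' := Loc et
  let iS : S →ₐ[MvPolynomial (Fin n) R] Sf := Algebra.TensorProduct.includeRight
  let iD : Localization.Away g →+* S' := (algebraMap Sf S').comp Algebra.TensorProduct.includeLeftRingHom
  letI aSS' : Algebra S S' := ((algebraMap Sf S').comp iS.toRingHom).toAlgebra
  letI aDS' : Algebra (Localization.Away g) S' := iD.toAlgebra
  letI aR'S' : Algebra R' S' := (iD.comp (algebraMap R' (Localization.Away g))).toAlgebra
  letI aRS' : Algebra R S' := ((algebraMap S S').comp (algebraMap R S)).toAlgebra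
  have hPS' : ∀ a, algebraMap S S' (algebraMap (MvPolynomial (Fin n) R) S a) =
      iD (algebraMap (MvPolynomial (Fin n) R) (Localization.Away g) a) := fun a => by
    show algebraMap Sf S' (iS (algebraMap _ S a)) = algebraMap Sf S' _
    rw [AlgHom.commutes]
    rfl
  have hRS' : ∀ r, algebraMap R S' r = algebraMap R' S' (algebraMap R R' r) := fun r => by
    show algebraMap S S' (algebraMap R S r) = iD _
    rw [IsScalarTower.algebraMap_apply R (MvPolynomial (Fin n) R) S, hPS']
    refine congr_arg iD ?_
    show jD _ = _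
    rw [← IsScalarTower.algebraMap_apply, hjDR]
  haveI : IsScalarTower R S S' := IsScalarTower.of_algebraMap_eq fun _ => rfl
  haveI : IsScalarTower R R' S' := IsScalarTower.of_algebraMap_eq hRS'
  haveI : IsScalarTower R' (Localization.Away g) S' := IsScalarTower.of_algebraMap_eq fun _ => rfl
  haveI hetS : Algebra.Etale S S' := by
    letI : Algebra S Sf := Algebra.TensorProduct.rightAlgebra
    haveI : IsScalarTower S Sf S' := IsScalarTower.of_algebraMap_eq fun _ => rfl
    haveI : Algebra.Etale S Sf :=
      Algebra.Etale.of_equiv (AlgEquiv.ofRingEquiv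
        (f := (Algebra.TensorProduct.comm (MvPolynomial (Fin n) R) S (Localization.Away g)).toRingEquiv) fun _ => rfl)
    exact Algebra.Etale.comp S Sf S'
  have hq'q : q = q'.comap (algebraMap S S') := by
    rw [RingHom.algebraMap_toAlgebra, ← Ideal.comap_comap]
    exact hqfq.symm.trans (congr_arg (Ideal.comap iS.toRingHom) (q'.over_def qf.1))
  haveI : q'.LiesOver q := ⟨hq'q⟩
  have hnS : IsEtaleNhd S S' q q' := ⟨hetS, ‹_›,
    bijective_residue_comp hqfq.symm (q'.over_def qf.1) hq'q (bijective_residue_baseChange bD qf.1 q hqfq.symm) blq'⟩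
  have hq'y : q'.comap iD = yD := by
    rw [← Ideal.comap_comap]
    exact (congr_arg (Ideal.comap _) (q'.over_def qf.1).symm).trans (qf.2.2.over).symm
  haveI : q'.LiesOver p' := ⟨by
    rw [yD.over_def p', ← hq'y, Ideal.under, Ideal.under, Ideal.comap_comap]
    rfl⟩
  -- the closed subscheme and the module
  let IS := I.map (algebraMap S S')
  have hISq : IS ≤ q' := Ideal.map_le_iff_le_comap.2 (hq'q ▸ hIq)
  let C := S' ⧸ IS
  letI : Algebra (Localization.Away g) C := Ideal.Quotient.algebra _
  letI : Algebra R' C := Ideal.Quotient.algebra _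
  haveI : IsScalarTower R' (Localization.Away g) C := IsScalarTower.of_algebraMap_eq fun r => by
    show Ideal.Quotient.mk IS (algebraMap R' S' r) = Ideal.Quotient.mk IS _
    rw [IsScalarTower.algebraMap_apply R' (Localization.Away g) S']
  let G := S' ⊗[S] N
  have htors : Module.IsTorsionBySet S' G (IS : Set S') := fun m a => by
    obtain ⟨a, ha⟩ := a
    show a • m = 0
    induction m using TensorProduct.induction_on with
    | zero => simp
    | add m₁ m₂ h₁ h₂ => rw [smul_add, h₁, h₂, add_zero]
    | tmul s v =>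
      suffices IS ≤ (Submodule.span S' {((1 : S') ⊗ₜ[S] v : G)}).annihilator by
        rw [show (s ⊗ₜ[S] v : G) = s • ((1 : S') ⊗ₜ[S] v) by rw [TensorProduct.smul_tmul', smul_eq_mul, mul_one],
          smul_comm, (Submodule.mem_annihilator_span_singleton _ _).1 (this ha), smul_zero]
      refine Ideal.map_le_iff_le_comap.2 fun i hi => (Submodule.mem_annihilator_span_singleton _ _).2 ?_
      show algebraMap S S' i • ((1 : S') ⊗ₜ[S] v) = 0
      rw [TensorProduct.smul_tmul', algebraMap_smul, TensorProduct.smul_tmul,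
        Module.mem_annihilator.1 (hIann hi) v, TensorProduct.tmul_zero]
  letI mCG : Module C G := htors.module
  haveI tS'CG : IsScalarTower S' C G := htors.isScalarTower
  letI mDG : Module (Localization.Away g) G := Module.compHom G iD
  letI mR'G : Module R' G := Module.compHom G (algebraMap R' S')
  haveI : IsScalarTower (Localization.Away g) S' G := IsScalarTower.of_algebraMap_smul fun _ _ => rfl
  haveI : IsScalarTower R' S' G := IsScalarTower.of_algebraMap_smul fun _ _ => rfl
  haveI tDCG : IsScalarTower (Localization.Away g) C G :=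
    IsScalarTower.of_algebraMap_smul fun d m => algebraMap_smul C (iD d) m
  haveI tR'CG : IsScalarTower R' C G :=
    IsScalarTower.of_algebraMap_smul fun r m => algebraMap_smul C (algebraMap R' S' r) m
  haveI tR'DG : IsScalarTower R' (Localization.Away g) G :=
    IsScalarTower.of_algebraMap_smul fun r m => rfl
  haveI : Module.Finite C G := Module.Finite.of_restrictScalars_finite S' C G
  let z : Ideal C := q'.map (Ideal.Quotient.mk IS)
  haveI : z.IsPrime := Ideal.map_isPrime_of_surjective Ideal.Quotient.mk_surjective (by rwa [Ideal.mk_ker])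
  have hzc : z.comap (Ideal.Quotient.mk IS) = q' := by
    rw [Ideal.comap_map_of_surjective _ Ideal.Quotient.mk_surjective, ← RingHom.ker_eq_comap_bot, Ideal.mk_ker,
      sup_eq_left.2 hISq]
  haveI : z.LiesOver q' := ⟨hzc.symm⟩
  haveI : z.LiesOver yD := ⟨by rw [← hq'y, ← hzc, Ideal.comap_comap]; rfl⟩
  -- the map from the finite algebra
  letI : Algebra (MvPolynomial (Fin n) R) C :=
    ((algebraMap (Localization.Away g) C).comp (algebraMap (MvPolynomial (Fin n) R) (Localization.Away g))).toAlgebra
  let dC : Localization.Away g →ₐ[MvPolynomial (Fin n) R] C :=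
    { algebraMap (Localization.Away g) C with commutes' := fun _ => rfl }
  let sC : S →ₐ[MvPolynomial (Fin n) R] C :=
    { (Ideal.Quotient.mk IS).comp (algebraMap S S') with
      commutes' := fun a => congr_arg (Ideal.Quotient.mk IS) (hPS' a) }
  let cC : S ⧸ I →ₐ[MvPolynomial (Fin n) R] C := Ideal.Quotient.liftₐ I sC fun a ha =>
    Ideal.Quotient.eq_zero_iff_mem.2 (Ideal.mem_map_of_mem _ ha)
  let ρ₀ : P' ⊗[MvPolynomial (Fin n) R] (S ⧸ I) →ₐ[MvPolynomial (Fin n) R] C :=
    Algebra.TensorProduct.lift (dC.comp ι') cC fun _ _ => .all _ _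
  have hρσ : ∀ w, ρ₀ (π₀ w) = Ideal.Quotient.mk IS (algebraMap Sf S' (σ w)) := by
    intro w
    induction w with
    | zero => simp
    | add a b ha hb => simp only [map_add, ha, hb]
    | tmul a s =>
      simp only [π₀, σ, ρ₀, Algebra.TensorProduct.map_tmul, AlgHom.coe_id, id_eq,
        Algebra.TensorProduct.lift_tmul]
      show Ideal.Quotient.mk IS (iD (ι' a)) * Ideal.Quotient.mk IS (algebraMap Sf S' (iS s)) = _
      rw [← map_mul]
      refine congr_arg _ ((map_mul (algebraMap Sf S') _ _).symm.trans (congr_arg _ ?_))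
      show (ι' a ⊗ₜ[MvPolynomial (Fin n) R] (1 : S)) * (1 ⊗ₜ s) = _
      rw [Algebra.TensorProduct.tmul_mul_tmul, mul_one, one_mul]
  have hρe : IsUnit (ρ₀.toRingHom e) := by
    show IsUnit (ρ₀ e)
    rw [← he₁, hρσ]
    exact (IsLocalization.Away.algebraMap_isUnit et).map _
  let ρ := IsLocalization.Away.lift (S := Localization.Away e) e hρe
  have hρs : ∀ c (m : Localization.Away e), ρ (c • m) = ι' c • ρ m := by
    intro c m
    rw [Algebra.smul_def, map_mul, Algebra.smul_def,
      IsScalarTower.algebraMap_apply P' (P' ⊗[MvPolynomial (Fin n) R] (S ⧸ I)) (Localization.Away e),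
      IsLocalization.Away.lift_eq]
    congr 1
    show ρ₀ (c ⊗ₜ 1) = _
    simp [ρ₀]
    rfl
  haveI hfinC : Module.Finite (Localization.Away g) C := by
    obtain ⟨gens, hgens⟩ := hfin.fg_top
    refine ⟨⟨gens.image ρ, eq_top_iff.2 fun w _ => ?_⟩⟩
    rw [Finset.coe_image]
    have hM : ∀ m, ρ m ∈ Submodule.span (Localization.Away g) (ρ '' (gens : Set (Localization.Away e))) := by
      intro m
      have hm : m ∈ Submodule.span P' (gens : Set (Localization.Away e)) := hgens ▸ Submodule.mem_top
      induction hm using Submodule.span_induction with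
      | mem a ha => exact Submodule.subset_span ⟨a, ha, rfl⟩
      | zero => rw [map_zero]; exact Submodule.zero_mem _
      | add a b _ _ ha hb => rw [map_add]; exact Submodule.add_mem _ ha hb
      | smul c a _ ha => rw [hρs]; exact Submodule.smul_mem _ _ ha
    obtain ⟨w, rfl⟩ := Ideal.Quotient.mk_surjective w
    obtain ⟨v, k, rfl⟩ : ∃ (v : Sf) (k : ℕ), w = algebraMap Sf S' v * IsLocalization.Away.invSelf et ^ k := by
      obtain ⟨k, v, hk⟩ := IsLocalization.Away.surj et w
      exact ⟨v, k, by rw [← hk, mul_assoc, ← mul_pow, IsLocalization.Away.mul_invSelf, one_pow, mul_one]⟩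
    have hinv : Ideal.Quotient.mk IS (IsLocalization.Away.invSelf et) = ρ (IsLocalization.Away.invSelf e) := by
      have h1 : Ideal.Quotient.mk IS (algebraMap Sf S' et) = ρ (algebraMap _ (Localization.Away e) e) := by
        rw [IsLocalization.Away.lift_eq, ← hρσ]
        exact congr_arg ρ₀ he₁
      refine (((IsLocalization.Away.algebraMap_isUnit et).map (Ideal.Quotient.mk IS)).mul_right_inj).1 ?_
      conv_rhs => rw [h1, ← map_mul, IsLocalization.Away.mul_invSelf, map_one]
      rw [← map_mul, IsLocalization.Away.mul_invSelf, map_one]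
    rw [map_mul, map_pow, hinv, ← map_pow]
    induction v using TensorProduct.induction_on with
    | zero => simp
    | add a b ha hb => rw [map_add, map_add, add_mul]; exact Submodule.add_mem _ (ha Submodule.mem_top) (hb Submodule.mem_top)
    | tmul d s =>
      have : Ideal.Quotient.mk IS (algebraMap Sf S' (d ⊗ₜ s)) *
          ρ (IsLocalization.Away.invSelf e ^ k) =
          d • ρ (algebraMap _ _ ((1 : P') ⊗ₜ[MvPolynomial (Fin n) R] Ideal.Quotient.mk I s) *
            IsLocalization.Away.invSelf e ^ k) := by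
        rw [map_mul ρ, IsLocalization.Away.lift_eq, Algebra.smul_def, ← mul_assoc]
        congr 1
        show _ = Ideal.Quotient.mk IS (iD d) * ρ₀ (1 ⊗ₜ Ideal.Quotient.mk I s)
        rw [show ρ₀ ((1 : P') ⊗ₜ Ideal.Quotient.mk I s) = Ideal.Quotient.mk IS (algebraMap Sf S' (iS s)) by
          simp [ρ₀, cC, sC]; rfl]
        rw [← map_mul]
        refine congr_arg _ ((congr_arg _ ?_).trans (map_mul (algebraMap Sf S') _ _))
        show _ = (d ⊗ₜ[MvPolynomial (Fin n) R] (1 : S)) * (1 ⊗ₜ s)
        rw [Algebra.TensorProduct.tmul_mul_tmul, mul_one, one_mul]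
      rw [this]
      exact Submodule.smul_mem _ _ (hM _)
  have huniqC : ∀ (z₁ : Ideal C) [z₁.IsPrime], z₁.LiesOver yD → z₁ = z := by
    intro z₁ _ hz₁
    let w := z₁.comap ρ₀.toRingHom
    haveI : w.LiesOver Pp := ⟨by
      rw [← hι'yD, hz₁.over, Ideal.under, Ideal.under, Ideal.comap_comap, Ideal.comap_comap]
      exact congrArg (fun f => Ideal.comap f z₁) (RingHom.ext fun a => by simp [ρ₀]; rfl)⟩
    have hew : e ∉ w := fun h => (‹z₁.IsPrime›).ne_top (Ideal.eq_top_of_isUnit_mem _ h hρe)
    have hw : w = P'' := huniq w inferInstance inferInstance hew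
    have hzS : z₁.comap sC.toRingHom = q := by
      rw [← hzq, ← hP''q, ← hw, Ideal.comap_comap, Ideal.comap_comap]
      exact congrArg (fun f => Ideal.comap f z₁) (RingHom.ext fun a => by simp [ρ₀, cC])
    let u := (z₁.comap (Ideal.Quotient.mk IS)).comap (algebraMap Sf S')
    haveI : u.LiesOver yD := ⟨by
      rw [hz₁.over, Ideal.under, Ideal.under, Ideal.comap_comap, Ideal.comap_comap]
      rfl⟩
    have hu : u = qf.1 := by
      refine Ideal.eq_of_comap_eq_comap_of_bijective_residueFieldMap bD _ _ ?_
      rw [hqfq, ← hzS, Ideal.comap_comap, Ideal.comap_comap]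
      rfl
    refine Ideal.comap_injective_of_surjective _ Ideal.Quotient.mk_surjective ?_
    rw [hzc]
    exact congr_arg PrimeSpectrum.asIdeal (PrimeSpectrum.localization_comap_injective S' (Submonoid.powers et)
      (a₁ := ⟨z₁.comap (Ideal.Quotient.mk IS), inferInstance⟩) (a₂ := ⟨q', inferInstance⟩)
      (PrimeSpectrum.ext (hu.trans (q'.over_def qf.1))))
  exact ⟨{
    R' := R', S' := S', C := C, D := Localization.Away g, N' := G, G := G
    p' := p', q' := q', z := z, y := yD
    etaleR := hnR
    etaleS := hnS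
    f := TensorProduct.mk S S' N 1
    isBaseChange := TensorProduct.isBaseChange S N S'
    surjC := Ideal.Quotient.mk_surjective
    fpC := Algebra.FinitePresentation.quotient (Ideal.FG.map hIfg _)
    iso := LinearEquiv.refl S' G
    mCG := mCG, mDG := mDG, mR'G := mR'G, tS'CG := tS'CG, tDCG := tDCG, tR'CG := tR'CG, tR'DG := tR'DG
    finiteDC := hfinC
    finiteG := inferInstance
    uniq := huniqC
    pureTrans := hptD
    smooth := smoothRelDim_away g
    geomInt := geomIntegral_of_isDomain hGI }⟩

end Groth.Agent.RGCore
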