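import Mathlib

/-!
Finite presentation of localised modules: base change, faithfully flat descent, and restriction along
a finite, finitely presented algebra.
-/

set_option autoImplicit false
set_option linter.unusedSectionVars false
set_option linter.style.haveILetI false

universe u

open TensorProduct

namespace Groth.Agent.RGCore

/-- Faithfully flat descent of finite presentation of modules. -/
theorem fp_of_faithfullyFlat_baseChange {A M : Type u} [CommRing A] [AddCommGroup M] [Module A M]
    (B : Type u) [CommRing B] [Algebra A B] [Module.FaithfullyFlat A B]
    [Module.FinitePresentation B (B ⊗[A] M)] : Module.FinitePresentation A M := by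
  haveI : Module.Finite A M := Module.Finite.of_finite_tensorProduct_of_faithfullyFlat B
  obtain ⟨n, l, hl⟩ := Module.Finite.exists_fin' A M
  refine Module.finitePresentation_of_surjective l hl ?_
  suffices h : Module.Finite A (LinearMap.ker l) from Module.Finite.iff_fg.1 h
  let i := (LinearMap.ker l).subtype.baseChange B
  have hi : Function.Injective i :=
    Module.Flat.lTensor_preserves_injective_linearMap (M := B) _ (LinearMap.ker l).injective_subtype
  have hsurj : Function.Surjective (l.baseChange B) := LinearMap.lTensor_surjective B hl
  have hex : Function.Exact i (l.baseChange B) := lTensor_exact B l.exact_subtype_ker_map hl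
  have hker : (LinearMap.ker (l.baseChange B)).FG := Module.FinitePresentation.fg_ker _ hsurj
  rw [LinearMap.exact_iff.1 hex] at hker
  haveI : Module.Finite B (LinearMap.range i) := Module.Finite.iff_fg.2 hker
  haveI : Module.Finite B (B ⊗[A] LinearMap.ker l) := Module.Finite.equiv (LinearEquiv.ofInjective i hi).symm
  exact Module.Finite.of_finite_tensorProduct_of_faithfullyFlat B

/-- Finite presentation over a finite, finitely presented algebra is the same as over the base. -/
theorem fp_iff_of_fp_algebra {A B : Type u} [CommRing A] [CommRing B] [Algebra A B] [Module.FinitePresentation A B]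
    (M : Type u) [AddCommGroup M] [Module B M] [Module A M] [IsScalarTower A B M] :
    Module.FinitePresentation A M ↔ Module.FinitePresentation B M := by
  constructor
  · intro h
    haveI : Module.Finite B M := Module.Finite.of_restrictScalars_finite A B M
    obtain ⟨n, π, hπ⟩ := Module.Finite.exists_fin' B M
    refine Module.finitePresentation_of_surjective π hπ ?_
    exact Submodule.FG.of_restrictScalars A (Module.FinitePresentation.fg_ker (π.restrictScalars A) hπ)
  · intro h
    obtain ⟨n, π, hπ⟩ := Module.Finite.exists_fin' B M
    haveI : Module.FinitePresentation A (Fin n → B) := inferInstance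
    refine Module.finitePresentation_of_surjective (π.restrictScalars A) hπ ?_
    have h1 : Module.Finite B (LinearMap.ker π) := Module.Finite.iff_fg.2 (Module.FinitePresentation.fg_ker π hπ)
    haveI := h1
    have h2 : Module.Finite A (LinearMap.ker π) := Module.Finite.trans B _
    exact Module.Finite.iff_fg.1 h2

section BaseChange

variable {S S' : Type u} [CommRing S] [CommRing S'] [Algebra S S']
  (N : Type u) [AddCommGroup N] [Module S N]
  {N' : Type u} [AddCommGroup N'] [Module S' N'] [Module S N'] [IsScalarTower S S' N'] {f : N →ₗ[S] N'}
  (W : Submonoid S) (V : Submonoid S') (hWV : ∀ w ∈ W, ∃ v ∈ V, algebraMap S S' w ∣ v)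

include hWV in
theorem isUnit_of_hWV (w : W) : IsUnit ((algebraMap S (Localization V)) w) := by
  obtain ⟨v, hv, hdvd⟩ := hWV w w.2
  rw [IsScalarTower.algebraMap_apply S S' (Localization V)]
  exact isUnit_of_dvd_unit (map_dvd _ hdvd) (IsLocalization.map_units (Localization V) ⟨v, hv⟩)

include hWV in
/-- The comparison between the two localisations and the identification of the localised modules. -/
theorem exists_compare (hf : IsBaseChange S' f) :
    ∃ (_ : Algebra (Localization W) (Localization V)) (_ : IsScalarTower S (Localization W) (Localization V)),
      Nonempty (Localization V ⊗[Localization W] LocalizedModule W N ≃ₗ[Localization V] LocalizedModule V N') := by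
  letI : Algebra (Localization W) (Localization V) := (IsLocalization.lift (isUnit_of_hWV W V hWV)).toAlgebra
  haveI : IsScalarTower S (Localization W) (Localization V) :=
    IsScalarTower.of_algebraMap_eq fun x => (IsLocalization.lift_eq (isUnit_of_hWV W V hWV) x).symm
  letI : Module (Localization W) (LocalizedModule V N') :=
    Module.compHom _ (algebraMap (Localization W) (Localization V))
  haveI : IsScalarTower (Localization W) (Localization V) (LocalizedModule V N') :=
    IsScalarTower.of_algebraMap_smul fun _ _ => rfl
  haveI : IsScalarTower S (Localization V) (LocalizedModule V N') := IsScalarTower.of_algebraMap_smul fun r m => by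
    rw [IsScalarTower.algebraMap_apply S S' (Localization V), algebraMap_smul, algebraMap_smul]
  haveI : IsScalarTower S (Localization W) (LocalizedModule V N') := IsScalarTower.of_algebraMap_smul fun r m => by
    rw [← algebraMap_smul (Localization V) (algebraMap S (Localization W) r),
      ← IsScalarTower.algebraMap_apply, algebraMap_smul]
  have h1 : IsBaseChange (Localization V) ((LocalizedModule.mkLinearMap V N').restrictScalars S ∘ₗ f) :=
    hf.comp (IsLocalizedModule.isBaseChange V (Localization V) (LocalizedModule.mkLinearMap V N'))
  have h2 : IsBaseChange (Localization W) (LocalizedModule.mkLinearMap W N) :=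
    IsLocalizedModule.isBaseChange W (Localization W) (LocalizedModule.mkLinearMap W N)
  let g := h2.lift ((LocalizedModule.mkLinearMap V N').restrictScalars S ∘ₗ f)
  have h3 : IsBaseChange (Localization V) g := by
    refine IsBaseChange.of_comp h2 ?_
    rwa [show g.restrictScalars S ∘ₗ LocalizedModule.mkLinearMap W N =
      (LocalizedModule.mkLinearMap V N').restrictScalars S ∘ₗ f from h2.lift_comp _]
  exact ⟨inferInstance, inferInstance, ⟨h3.equiv⟩⟩

include hWV in
/-- Finite presentation passes to base changes of localised modules. -/
theorem fp_localized_baseChange (hf : IsBaseChange S' f)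
    (h : Module.FinitePresentation (Localization W) (LocalizedModule W N)) :
    Module.FinitePresentation (Localization V) (LocalizedModule V N') := by
  obtain ⟨i, t, ⟨e⟩⟩ := exists_compare N W V hWV hf
  letI := i
  exact Module.FinitePresentation.of_equiv e

include hWV in
/-- Finite presentation descends from flat base changes covering the localisation. -/
theorem fp_localized_descend (hf : IsBaseChange S' f) [Module.Flat S S']
    (hsurj : ∀ (Q : Ideal S), Q.IsPrime → Disjoint (W : Set S) Q →
      ∃ Q' : Ideal S', Q'.IsPrime ∧ Disjoint (V : Set S') Q' ∧ Q'.comap (algebraMap S S') = Q)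
    (h : Module.FinitePresentation (Localization V) (LocalizedModule V N')) :
    Module.FinitePresentation (Localization W) (LocalizedModule W N) := by
  obtain ⟨i, t, ⟨e⟩⟩ := exists_compare N W V hWV hf
  letI := i
  haveI := t
  haveI : Module.Flat S' (Localization V) := IsLocalization.flat _ V
  haveI : Module.Flat S (Localization V) := Module.Flat.trans S S' _
  haveI : Module.Flat (Localization W) (Localization V) := (Module.flat_iff_of_isLocalization (Localization W) W _).2 ‹_›
  haveI : Module.FaithfullyFlat (Localization W) (Localization V) := by
    refine Module.FaithfullyFlat.of_comap_surjective fun P => ?_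
    obtain ⟨hP, hd⟩ := (IsLocalization.isPrime_iff_isPrime_disjoint W (Localization W) P.asIdeal).1 P.isPrime
    obtain ⟨Q', hQ', hQ'd, hQ'P⟩ := hsurj _ hP hd
    refine ⟨⟨Q'.map (algebraMap S' (Localization V)), IsLocalization.isPrime_of_isPrime_disjoint V _ Q' hQ' hQ'd⟩,
      PrimeSpectrum.ext ?_⟩
    rw [← IsLocalization.map_comap W (Localization W) P.asIdeal,
      ← IsLocalization.map_comap W (Localization W) (PrimeSpectrum.comap _ _).asIdeal]
    congr 1
    simp only [Ideal.under, PrimeSpectrum.comap_asIdeal]
    rw [Ideal.comap_comap, ← IsScalarTower.algebraMap_eq,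
      IsScalarTower.algebraMap_eq S S' (Localization V), ← Ideal.comap_comap]
    have := IsLocalization.comap_map_of_isPrime_disjoint V (Localization V) hQ' hQ'd
    exact (congr_arg (Ideal.comap (algebraMap S S')) this).trans hQ'P
  haveI := Module.FinitePresentation.of_equiv e.symm
  exact fp_of_faithfullyFlat_baseChange (Localization V)

end BaseChange

/-- Finite presentation of a localised module over a finite, finitely presented algebra. -/
theorem fp_localized_iff_of_fp_algebra {A B : Type u} [CommRing A] [CommRing B] [Algebra A B]
    [Module.FinitePresentation A B] (M : Type u) [AddCommGroup M] [Module B M] [Module A M] [IsScalarTower A B M]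
    (W : Submonoid A) (V : Submonoid B) (hWV : ∀ w ∈ W, algebraMap A B w ∈ V)
    (hVW : ∀ v ∈ V, ∃ w ∈ W, v ∣ algebraMap A B w) :
    Module.FinitePresentation (Localization W) (LocalizedModule W M) ↔
      Module.FinitePresentation (Localization V) (LocalizedModule V M) := by
  haveI hloc : IsLocalization (Algebra.algebraMapSubmonoid B W) (Localization V) :=
    (IsLocalization.iff_of_le_of_exists_dvd (Algebra.algebraMapSubmonoid B W) V
      (by rintro _ ⟨w, hw, rfl⟩; exact hWV w hw)
      (fun v hv => by
        obtain ⟨w, hw, hdvd⟩ := hVW v hv
        exact ⟨_, Algebra.mem_algebraMapSubmonoid_of_mem (⟨w, hw⟩ : W), hdvd⟩)).2 Localization.isLocalization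
  have hu : ∀ w : W, IsUnit (algebraMap A (Localization V) w) :=
    isUnit_of_hWV W V fun w hw => ⟨_, hWV w hw, dvd_rfl⟩
  letI : Algebra (Localization W) (Localization V) := (IsLocalization.lift hu).toAlgebra
  haveI : IsScalarTower A (Localization W) (Localization V) :=
    IsScalarTower.of_algebraMap_eq fun x => (IsLocalization.lift_eq hu x).symm
  haveI : IsLocalizedModule W (IsScalarTower.toAlgHom A B (Localization V)).toLinearMap :=
    isLocalizedModule_iff_isLocalization.2 hloc
  haveI : Module.FinitePresentation (Localization W) (Localization W ⊗[A] B) := inferInstance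
  haveI : Module.FinitePresentation (Localization W) (Localization V) :=
    Module.FinitePresentation.of_equiv
      (IsLocalizedModule.isBaseChange W (Localization W) (IsScalarTower.toAlgHom A B (Localization V)).toLinearMap).equiv
  letI : Module (Localization W) (LocalizedModule V M) :=
    Module.compHom _ (algebraMap (Localization W) (Localization V))
  haveI : IsScalarTower (Localization W) (Localization V) (LocalizedModule V M) :=
    IsScalarTower.of_algebraMap_smul fun _ _ => rfl
  haveI : IsScalarTower A (Localization W) (LocalizedModule V M) := IsScalarTower.of_algebraMap_smul fun r m => by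
    rw [← algebraMap_smul (Localization V) (algebraMap A (Localization W) r),
      ← IsScalarTower.algebraMap_apply, IsScalarTower.algebraMap_apply A B (Localization V), algebraMap_smul,
      algebraMap_smul]
  haveI : IsLocalizedModule W ((LocalizedModule.mkLinearMap V M).restrictScalars A) := by
    constructor
    · intro w
      have := (Module.End.isUnit_iff _).1
        (IsLocalizedModule.map_units (LocalizedModule.mkLinearMap V M) ⟨_, hWV w w.2⟩)
      rw [Module.End.isUnit_iff]
      convert this using 1
      ext m
      exact (algebraMap_smul B (w : A) m).symm
    · intro y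
      obtain ⟨⟨m, v⟩, hm⟩ := IsLocalizedModule.surj V (LocalizedModule.mkLinearMap V M) y
      obtain ⟨w, hw, c, hc⟩ := hVW v v.2
      refine ⟨(c • m, ⟨w, hw⟩), ?_⟩
      show (w : A) • y = _
      rw [← algebraMap_smul B w y, hc, mul_comm, mul_smul]
      show c • ((v : B) • y) = _
      rw [show ((v : B) • y) = LocalizedModule.mkLinearMap V M m from hm, ← map_smul]
      rfl
    · intro m₁ m₂ hm
      obtain ⟨v, hv⟩ := IsLocalizedModule.exists_of_eq (S := V) (f := LocalizedModule.mkLinearMap V M) hm
      obtain ⟨w, hw, c, hc⟩ := hVW v v.2
      refine ⟨⟨w, hw⟩, ?_⟩
      show (w : A) • m₁ = (w : A) • m₂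
      rw [← algebraMap_smul B w m₁, ← algebraMap_smul B w m₂, hc, mul_comm, mul_smul, mul_smul]
      exact congr_arg (c • ·) hv
  have h2 : IsBaseChange (Localization W) ((LocalizedModule.mkLinearMap V M).restrictScalars A) :=
    IsLocalizedModule.isBaseChange W (Localization W) _
  have h3 : IsBaseChange (Localization W) (LocalizedModule.mkLinearMap W M) :=
    IsLocalizedModule.isBaseChange W (Localization W) _
  let e : LocalizedModule W M ≃ₗ[Localization W] LocalizedModule V M := h3.equiv.symm ≪≫ₗ h2.equiv
  rw [← fp_iff_of_fp_algebra (A := Localization W) (B := Localization V) (LocalizedModule V M)]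
  exact ⟨fun h => Module.FinitePresentation.of_equiv e, fun h => Module.FinitePresentation.of_equiv e.symm⟩

end Groth.Agent.RGCore
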