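import Mathlib.RingTheory.Polynomial.IsIntegral
import Mathlib.RingTheory.FiniteType
import Mathlib.Algebra.MvPolynomial.NoZeroDivisors
import Mathlib.Algebra.MvPolynomial.Equiv
import Mathlib.RingTheory.Ideal.Quotient.Operations
import Mathlib.RingTheory.IntegralClosure.Algebra.Basic
import Mathlib.RingTheory.Finiteness.Basic

/-!
A finite algebra parametrising the monic factorisations of a monic polynomial over a polynomial ring.
-/

set_option autoImplicit false
set_option linter.unusedSectionVars false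
set_option synthInstance.maxHeartbeats 200000
set_option maxHeartbeats 800000

universe u

open Polynomial

namespace Groth.Agent.RGCore

variable {n : ℕ}

local notation "Box" N => (Fin n → Fin (N + 1))

/-- An exponent in the box. -/
noncomputable def boxExp (N : ℕ) (m : Box N) : Fin n →₀ ℕ := Finsupp.equivFunOnFinite.symm fun j => (m j : ℕ)

theorem boxExp_injective (N : ℕ) : Function.Injective (boxExp (n := n) N) := fun a b h =>
  funext fun j => Fin.ext (DFunLike.congr_fun h j)

/-- The monic polynomial of degree `d` with the given coefficients in the box. -/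
noncomputable def monicBox {S : Type u} [CommRing S] (N d : ℕ) (c : Fin d × (Box N) → S) :
    (MvPolynomial (Fin n) S)[X] :=
  X ^ d + ∑ i : Fin d, C (∑ m : Box N, MvPolynomial.monomial (boxExp N m) (c (i, m))) * X ^ (i : ℕ)

theorem monicBox_map {S T : Type u} [CommRing S] [CommRing T] (f : S →+* T) (N d : ℕ) (c : Fin d × (Box N) → S) :
    (monicBox N d c).map (MvPolynomial.map f) = monicBox N d (f ∘ c) := by
  simp [monicBox, Polynomial.map_sum, MvPolynomial.map_monomial]

theorem monicBox_monic {S : Type u} [CommRing S] (N d : ℕ) (c : Fin d × (Box N) → S) : (monicBox N d c).Monic :=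
  monic_X_pow_add (degree_sum_fin_lt _)

theorem monicBox_coeff {S : Type u} [CommRing S] (N d : ℕ) (c : Fin d × (Box N) → S) (i : Fin d) (m : Box N) :
    ((monicBox N d c).coeff i).coeff (boxExp N m) = c (i, m) := by
  classical
  have hi : (i : ℕ) ≠ d := i.2.ne
  rw [monicBox, Polynomial.coeff_add, coeff_X_pow, if_neg hi, zero_add, Polynomial.finset_sum_coeff,
    Finset.sum_eq_single i, coeff_C_mul, coeff_X_pow, if_pos rfl, mul_one, MvPolynomial.coeff_sum,
    Finset.sum_eq_single m, MvPolynomial.coeff_monomial, if_pos rfl]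
  · intro b _ hb; rw [MvPolynomial.coeff_monomial, if_neg fun h => hb (boxExp_injective N h)]
  · simp
  · intro b _ hb; rw [coeff_C_mul, coeff_X_pow, if_neg fun h => hb (Fin.ext h.symm), mul_zero]
  · simp

theorem exists_monicBox {S : Type u} [CommRing S] (N : ℕ) {q : (MvPolynomial (Fin n) S)[X]} (hq : q.Monic)
    (hN : ∀ i, (q.coeff i).totalDegree ≤ N) :
    q = monicBox N q.natDegree fun im => (q.coeff im.1).coeff (boxExp N im.2) := by
  classical
  conv_lhs => rw [hq.as_sum, Finset.sum_range]
  unfold monicBox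
  congr 1
  refine Finset.sum_congr rfl fun i _ => ?_
  congr 2
  ext m
  rw [MvPolynomial.coeff_sum]
  by_cases hm : ∃ b : Box N, boxExp N b = m
  · obtain ⟨b, rfl⟩ := hm
    simp [MvPolynomial.coeff_monomial, (boxExp_injective N).eq_iff]
  · rw [Finset.sum_eq_zero fun b _ => by
      rw [MvPolynomial.coeff_monomial, if_neg fun h => hm ⟨b, h⟩]]
    by_contra hne
    have hj : ∀ j, m j ≤ N := fun j =>
      (MvPolynomial.monomial_le_degreeOf j (MvPolynomial.mem_support_iff.2 hne)).trans
        ((MvPolynomial.degreeOf_le_totalDegree _ j).trans (hN _))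
    exact hm ⟨fun j => ⟨m j, Nat.lt_succ_of_le (hj j)⟩, Finsupp.ext fun j => rfl⟩

variable {R : Type u} [CommRing R]

/-- The factorisations with factors of fixed degrees and bounded coefficients are parametrised by a finite
algebra. -/
theorem exists_factor_fixed (h : (MvPolynomial (Fin n) R)[X]) (hh : h.Monic) (N d₁ d₂ : ℕ) :
    ∃ (A : Type u) (_ : CommRing A) (_ : Algebra R A) (_ : Module.Finite R A)
      (h₁ h₂ : (MvPolynomial (Fin n) A)[X]), h₁ * h₂ = h.map (MvPolynomial.map (algebraMap R A)) ∧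
      ∀ (K : Type u) [Field K] [Algebra R K] (q₁ q₂ : (MvPolynomial (Fin n) K)[X]),
        q₁.Monic → q₂.Monic → q₁.natDegree = d₁ → q₂.natDegree = d₂ →
        (∀ i, (q₁.coeff i).totalDegree ≤ N) → (∀ i, (q₂.coeff i).totalDegree ≤ N) →
        q₁ * q₂ = h.map (MvPolynomial.map (algebraMap R K)) →
        ∃ φ : A →ₐ[R] K, h₁.map (MvPolynomial.map φ.toRingHom) = q₁ ∧
          h₂.map (MvPolynomial.map φ.toRingHom) = q₂ := by
  classical
  let V := (Fin d₁ × (Box N)) ⊕ (Fin d₂ × (Box N))
  let u₁ : (MvPolynomial (Fin n) (MvPolynomial V R))[X] := monicBox N d₁ fun v => MvPolynomial.X (.inl v)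
  let u₂ : (MvPolynomial (Fin n) (MvPolynomial V R))[X] := monicBox N d₂ fun v => MvPolynomial.X (.inr v)
  let E := u₁ * u₂ - h.map (MvPolynomial.map (algebraMap R (MvPolynomial V R)))
  let I : Ideal (MvPolynomial V R) := Ideal.span (Set.range fun x : ℕ × (Fin n →₀ ℕ) => (E.coeff x.1).coeff x.2)
  let π : (MvPolynomial V R) →ₐ[R] (MvPolynomial V R) ⧸ I := Ideal.Quotient.mkₐ R I
  have hcomp : ∀ {T : Type u} [CommRing T] [Algebra R T] (f : (MvPolynomial V R) →ₐ[R] T),
      (h.map (MvPolynomial.map (algebraMap R (MvPolynomial V R)))).map (MvPolynomial.map f.toRingHom) =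
        h.map (MvPolynomial.map (algebraMap R T)) := by
    intro T _ _ f
    rw [Polynomial.map_map]
    congr 1
    exact RingHom.ext fun x => by
      rw [RingHom.comp_apply, MvPolynomial.map_map]
      exact congr($(congrArg MvPolynomial.map f.comp_algebraMap) x)
  let h₁ := u₁.map (MvPolynomial.map π.toRingHom)
  let h₂ := u₂.map (MvPolynomial.map π.toRingHom)
  have heq : h₁ * h₂ = h.map (MvPolynomial.map (algebraMap R ((MvPolynomial V R) ⧸ I))) := by
    rw [← Polynomial.map_mul, ← hcomp π]
    ext i m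
    rw [Polynomial.coeff_map, MvPolynomial.coeff_map, Polynomial.coeff_map, MvPolynomial.coeff_map]
    refine Ideal.Quotient.eq.2 ?_
    rw [← MvPolynomial.coeff_sub, ← Polynomial.coeff_sub]
    exact Ideal.subset_span ⟨(i, m), rfl⟩
  have hint : ∀ v, IsIntegral R (π (MvPolynomial.X v)) := by
    have key : ∀ {d : ℕ} (c : Fin d × (Box N) → (MvPolynomial V R)),
        (monicBox N d (π.toRingHom ∘ c)) ∣ h.map (MvPolynomial.map (algebraMap R ((MvPolynomial V R) ⧸ I))) →
        ∀ v, IsIntegral R (π (c v)) := by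
      intro d c hd v
      letI := MvPolynomial.algebraMvPolynomial (R := R) (S := (MvPolynomial V R) ⧸ I) (σ := Fin n)
      have := Polynomial.isIntegral_coeff_of_dvd h _ hh (monicBox_monic N d (π.toRingHom ∘ c)) hd v.1
      have := MvPolynomial.isIntegral_iff_isIntegral_coeff.1 this (boxExp N v.2)
      rwa [monicBox_coeff] at this
    rintro (v | v)
    · exact key (fun w => MvPolynomial.X (.inl w)) (by rw [← heq, ← monicBox_map]; exact dvd_mul_right _ _) v
    · exact key (fun w => MvPolynomial.X (.inr w)) (by rw [← heq, ← monicBox_map]; exact dvd_mul_left _ _) v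
  have hfin : Module.Finite R ((MvPolynomial V R) ⧸ I) := by
    have : Algebra.FiniteType R ((MvPolynomial V R) ⧸ I) := .of_surjective π (Ideal.Quotient.mkₐ_surjective R I)
    have : Algebra.IsIntegral R ((MvPolynomial V R) ⧸ I) := ⟨fun a => by
      obtain ⟨x, rfl⟩ := Ideal.Quotient.mkₐ_surjective R I a
      show IsIntegral R (π x)
      induction x using MvPolynomial.induction_on with
      | C r => exact π.commutes r ▸ isIntegral_algebraMap
      | add a b ha hb => rw [map_add]; exact ha.add hb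
      | mul_X a v ha => rw [map_mul]; exact ha.mul (hint v)⟩
    exact Algebra.IsIntegral.finite
  refine ⟨(MvPolynomial V R) ⧸ I, inferInstance, inferInstance, hfin, h₁, h₂, heq, ?_⟩
  intro K _ _ q₁ q₂ hq₁ hq₂ hd₁ hd₂ hN₁ hN₂ hq
  subst hd₁ hd₂
  let c : V → K := Sum.elim (fun im => (q₁.coeff im.1).coeff (boxExp N im.2))
    (fun im => (q₂.coeff im.1).coeff (boxExp N im.2))
  let f : (MvPolynomial V R) →ₐ[R] K := MvPolynomial.aeval c
  have hu₁ : u₁.map (MvPolynomial.map f.toRingHom) = q₁ := by
    rw [monicBox_map]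
    conv_rhs => rw [exists_monicBox N hq₁ hN₁]
    congr 1; funext v; exact MvPolynomial.aeval_X c _
  have hu₂ : u₂.map (MvPolynomial.map f.toRingHom) = q₂ := by
    rw [monicBox_map]
    conv_rhs => rw [exists_monicBox N hq₂ hN₂]
    congr 1; funext v; exact MvPolynomial.aeval_X c _
  have hI : ∀ a ∈ I, f a = 0 := by
    intro a ha
    refine RingHom.mem_ker.1 ((Ideal.span_le (I := RingHom.ker f.toRingHom)).2 ?_ ha)
    rintro _ ⟨⟨i, m⟩, rfl⟩
    show f.toRingHom ((E.coeff i).coeff m) = 0
    rw [← MvPolynomial.coeff_map, ← Polynomial.coeff_map, Polynomial.map_sub, Polynomial.map_mul, hu₁, hu₂,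
      hcomp f, hq, sub_self, Polynomial.coeff_zero, MvPolynomial.coeff_zero]
  have hπ : (Ideal.Quotient.liftₐ I f hI).toRingHom.comp π.toRingHom = f.toRingHom := RingHom.ext fun x => rfl
  have hmap : ∀ u : (MvPolynomial (Fin n) (MvPolynomial V R))[X], (u.map (MvPolynomial.map π.toRingHom)).map
      (MvPolynomial.map (Ideal.Quotient.liftₐ I f hI).toRingHom) = u.map (MvPolynomial.map f.toRingHom) := by
    intro u
    rw [Polynomial.map_map, ← hπ]
    congr 1
    exact RingHom.ext fun x => MvPolynomial.map_map _ _ x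
  exact ⟨Ideal.Quotient.liftₐ I f hI, (hmap u₁).trans hu₁, (hmap u₂).trans hu₂⟩

/-- The coefficients of a monic factor are bounded. -/
theorem exists_bound (h : (MvPolynomial (Fin n) R)[X]) (hh : h.Monic) :
    ∃ N, ∀ (K : Type u) [Field K] [Algebra R K] (q q' : (MvPolynomial (Fin n) K)[X]), q.Monic → q'.Monic →
      q * q' = h.map (MvPolynomial.map (algebraMap R K)) →
      q.natDegree < h.natDegree + 1 ∧ q'.natDegree = h.natDegree - q.natDegree ∧ ∀ i, (q.coeff i).totalDegree ≤ N := by
  refine ⟨((MvPolynomial.optionEquivLeft R (Fin n)).symm h).totalDegree, fun K _ _ q q' hq hq' he => ?_⟩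
  have hd : q.natDegree + q'.natDegree = h.natDegree := by
    rw [← hq.natDegree_mul hq', he, hh.natDegree_map]
  refine ⟨by omega, by omega, fun i => ?_⟩
  let Φ := (MvPolynomial.optionEquivLeft K (Fin n)).symm
  have hΦ : ∀ x : (MvPolynomial (Fin n) R)[X],
      Φ (x.map (MvPolynomial.map (algebraMap R K))) =
        MvPolynomial.map (algebraMap R K) ((MvPolynomial.optionEquivLeft R (Fin n)).symm x) := by
    intro x
    obtain ⟨y, rfl⟩ := (MvPolynomial.optionEquivLeft R (Fin n)).surjective x
    rw [AlgEquiv.symm_apply_apply, AlgEquiv.symm_apply_eq]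
    induction y using MvPolynomial.induction_on with
    | C r => simp
    | add a b ha hb => simp [ha, hb]
    | mul_X a v ha => cases v <;> simp [ha]
  have hne : ∀ {a : (MvPolynomial (Fin n) K)[X]}, a.Monic → Φ a ≠ 0 := fun ha =>
    (map_ne_zero_iff _ Φ.injective).2 ha.ne_zero
  have hmul := MvPolynomial.totalDegree_mul_of_isDomain (hne hq) (hne hq')
  rw [← map_mul, he, hΦ] at hmul
  calc (q.coeff i).totalDegree
      = ((MvPolynomial.optionEquivLeft K (Fin n) (Φ q)).coeff i).totalDegree := by simp [Φ]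
    _ ≤ (Φ q).totalDegree := MvPolynomial.totalDegree_coeff_optionEquivLeft_le K (Fin n) _ _
    _ ≤ (MvPolynomial.map (algebraMap R K) ((MvPolynomial.optionEquivLeft R (Fin n)).symm h)).totalDegree :=
        hmul ▸ Nat.le_add_right _ _
    _ ≤ _ := Finset.sup_mono (MvPolynomial.support_map_subset _ _)

/-- Factorisations over finitely many algebras give one over their product. -/
theorem exists_pi_factor {ι : Type} [Fintype ι] (A : ι → Type u) [∀ d, CommRing (A d)] [∀ d, Algebra R (A d)]
    (h : (MvPolynomial (Fin n) R)[X]) (a b : ∀ d, (MvPolynomial (Fin n) (A d))[X])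
    (hab : ∀ d, a d * b d = h.map (MvPolynomial.map (algebraMap R (A d)))) :
    ∃ h₁ h₂ : (MvPolynomial (Fin n) (∀ d, A d))[X],
      h₁ * h₂ = h.map (MvPolynomial.map (algebraMap R (∀ d, A d))) ∧
      ∀ d, h₁.map (MvPolynomial.map (Pi.evalRingHom A d)) = a d ∧
        h₂.map (MvPolynomial.map (Pi.evalRingHom A d)) = b d := by
  classical
  have hs : ∀ d, Function.Surjective (Polynomial.map (MvPolynomial.map (σ := Fin n) (Pi.evalRingHom A d))) :=
    fun d => Polynomial.map_surjective _ (MvPolynomial.map_surjective _ fun x => ⟨Pi.single d x, by simp⟩)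
  let δ : ι → (MvPolynomial (Fin n) (∀ d, A d))[X] := fun d => C (MvPolynomial.C (Pi.single d (1 : A d)))
  have hev : ∀ (w : ∀ d, (MvPolynomial (Fin n) (A d))[X]) d,
      (∑ d', δ d' * (hs d' (w d')).choose).map (MvPolynomial.map (Pi.evalRingHom A d)) = w d := by
    intro w d
    rw [Polynomial.map_sum, Finset.sum_eq_single d]
    · rw [Polynomial.map_mul, (hs d (w d)).choose_spec]; simp [δ]
    · intro d' _ hd; simp [δ, Pi.single_eq_of_ne' hd]
    · simp
  refine ⟨_, _, ?_, fun d => ⟨hev a d, hev b d⟩⟩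
  ext i m d
  have hd : ((∑ d', δ d' * (hs d' (a d')).choose) * ∑ d', δ d' * (hs d' (b d')).choose).map
      (MvPolynomial.map (Pi.evalRingHom A d)) =
      (h.map (MvPolynomial.map (algebraMap R (∀ d, A d)))).map (MvPolynomial.map (Pi.evalRingHom A d)) := by
    rw [Polynomial.map_mul, hev, hev, hab, Polynomial.map_map]
    congr 1
    have hc : (Pi.evalRingHom A d).comp (algebraMap R (∀ d, A d)) = algebraMap R (A d) := RingHom.ext fun _ => rfl
    refine RingHom.ext fun x => ?_
    rw [RingHom.comp_apply, MvPolynomial.map_map, hc]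
  have := congr_arg (fun x : (MvPolynomial (Fin n) (A d))[X] => (x.coeff i).coeff m) hd
  simp only [Polynomial.coeff_map, MvPolynomial.coeff_map] at this
  rw [Polynomial.coeff_map, MvPolynomial.coeff_map]
  exact this

/-- All monic factorisations of a monic polynomial over a polynomial ring come from one finite algebra. -/
theorem exists_factor_algebra (h : (MvPolynomial (Fin n) R)[X]) (hh : h.Monic) :
    ∃ (A : Type u) (_ : CommRing A) (_ : Algebra R A) (_ : Module.Finite R A)
      (h₁ h₂ : (MvPolynomial (Fin n) A)[X]), h₁ * h₂ = h.map (MvPolynomial.map (algebraMap R A)) ∧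
      ∀ (K : Type u) [Field K] [Algebra R K] (q₁ q₂ : (MvPolynomial (Fin n) K)[X]),
        q₁.Monic → q₂.Monic → q₁ * q₂ = h.map (MvPolynomial.map (algebraMap R K)) →
        ∃ φ : A →ₐ[R] K, h₁.map (MvPolynomial.map φ.toRingHom) = q₁ ∧
          h₂.map (MvPolynomial.map φ.toRingHom) = q₂ := by
  classical
  obtain ⟨N, hN⟩ := exists_bound h hh
  choose A _ _ _ a b hab huniv using fun d : Fin (h.natDegree + 1) =>
    exists_factor_fixed h hh N d (h.natDegree - d)
  obtain ⟨h₁, h₂, he', hev⟩ := exists_pi_factor A h a b hab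
  refine ⟨∀ d, A d, inferInstance, inferInstance, inferInstance, h₁, h₂, he', ?_⟩
  intro K _ _ q₁ q₂ hq₁ hq₂ he
  obtain ⟨hlt, hdeg, hb₁⟩ := hN K q₁ q₂ hq₁ hq₂ he
  obtain ⟨-, -, hb₂⟩ := hN K q₂ q₁ hq₂ hq₁ (by rw [mul_comm, he])
  obtain ⟨φ, h1, h2⟩ := huniv ⟨_, hlt⟩ K q₁ q₂ hq₁ hq₂ rfl hdeg hb₁ hb₂ he
  refine ⟨φ.comp (Pi.evalAlgHom R A ⟨_, hlt⟩), ?_, ?_⟩ <;>
  · have hc : (φ.comp (Pi.evalAlgHom R A ⟨_, hlt⟩)).toRingHom = φ.toRingHom.comp (Pi.evalRingHom A ⟨_, hlt⟩) :=
      RingHom.ext fun _ => rfl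
    rw [hc, show MvPolynomial.map (φ.toRingHom.comp (Pi.evalRingHom A ⟨_, hlt⟩)) =
        (MvPolynomial.map φ.toRingHom).comp (MvPolynomial.map (σ := Fin n) (Pi.evalRingHom A ⟨_, hlt⟩)) from
        RingHom.ext fun x => by rw [RingHom.comp_apply, MvPolynomial.map_map], ← Polynomial.map_map]
    first | (rw [(hev _).1]; exact h1) | (rw [(hev _).2]; exact h2)

end Groth.Agent.RGCore
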