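import Groth.Agent.RGCore.AtPrime
import Groth.Agent.WeakAss.Basic
import Groth.Prelude.Def_FlatCA

/-!
The fibrewise criterion of universal injectivity for finitely presented modules over finitely presented
algebras.
-/

set_option autoImplicit false
set_option linter.unusedSectionVars false

universe u

open TensorProduct

namespace Groth.Agent.RGCore

section Residue

variable {A : Type u} [CommRing A] (p : Ideal A) [p.IsPrime]

theorem isLocalization_residueField :
    IsLocalization (Algebra.algebraMapSubmonoid (A ⧸ p) p.primeCompl) p.ResidueField := by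
  have h : Algebra.algebraMapSubmonoid (A ⧸ p) p.primeCompl = nonZeroDivisors (A ⧸ p) := by
    ext x
    rw [mem_nonZeroDivisors_iff_ne_zero]
    constructor
    · rintro ⟨a, ha, rfl⟩ h0
      exact ha (Ideal.Quotient.eq_zero_iff_mem.1 h0)
    · intro hx
      obtain ⟨a, rfl⟩ := Ideal.Quotient.mk_surjective x
      exact ⟨a, fun ha => hx (Ideal.Quotient.eq_zero_iff_mem.2 ha), rfl⟩
  rw [h]
  exact inferInstanceAs (IsFractionRing (A ⧸ p) p.ResidueField)

/-- An element dying in the fibre at `p` is, up to an element outside `p`, killed by anything killing `p`. -/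
theorem exists_smul_tmul_eq_zero {N : Type u} [AddCommGroup N] [Module A N] (y : N)
    (h : (1 : p.ResidueField) ⊗ₜ[A] y = 0) :
    ∃ s ∉ p, ∀ (X : Type u) [AddCommGroup X] [Module A X] (x : X), (∀ a ∈ p, a • x = 0) →
      s • (y ⊗ₜ[A] x : N ⊗[A] X) = 0 := by
  let f : (A ⧸ p) →ₗ[A] p.ResidueField := (IsScalarTower.toAlgHom A (A ⧸ p) p.ResidueField).toLinearMap
  have := isLocalization_residueField p
  have : IsLocalizedModule p.primeCompl f :=
    (isLocalizedModule_iff_isLocalization (R := A) (A := A ⧸ p) (Aₛ := p.ResidueField)).2 inferInstance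
  let g := (TensorProduct.comm A p.ResidueField N).toLinearMap ∘ₗ (f.rTensor N) ∘ₗ
    (TensorProduct.comm A N (A ⧸ p)).toLinearMap
  let F := AlgebraTensorModule.rTensor (A := A) A N f
  have h0 : F ((1 : A ⧸ p) ⊗ₜ[A] y) = 0 := by
    show f 1 ⊗ₜ[A] y = 0
    rw [show f 1 = (1 : p.ResidueField) from map_one (IsScalarTower.toAlgHom A (A ⧸ p) p.ResidueField)]
    exact h
  obtain ⟨s, hs⟩ := (IsLocalizedModule.eq_zero_iff p.primeCompl F).1 h0
  refine ⟨s, s.2, fun X _ _ x hx => ?_⟩
  let e : (A ⧸ p) →ₗ[A] X := Submodule.liftQ p (LinearMap.toSpanSingleton A X x) fun a ha => hx a ha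
  have := congr((TensorProduct.comm A X N) (e.rTensor N $hs))
  simp only [Submonoid.smul_def, map_smul, LinearMap.rTensor_tmul, TensorProduct.comm_tmul, map_zero] at this
  rw [show e 1 = x from one_smul A x] at this
  exact this

end Residue

section Content

variable {A : Type u} [CommRing A] {n : ℕ}
  {N₀ : Type u} [AddCommGroup N₀] [Module A N₀] [Module (MvPolynomial (Fin n) A) N₀]
  [IsScalarTower A (MvPolynomial (Fin n) A) N₀] [Module.FinitePresentation (MvPolynomial (Fin n) A) N₀]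
  (T : Submonoid (MvPolynomial (Fin n) A))
  {N : Type u} [AddCommGroup N] [Module A N] [Module (MvPolynomial (Fin n) A) N]
  [IsScalarTower A (MvPolynomial (Fin n) A) N]
  (l : N₀ →ₗ[MvPolynomial (Fin n) A] N) [IsLocalizedModule T l]

include l in
/-- The content lemma for a localisation `N` of a finitely presented module, at a prime `Q` disjoint from
`T` at which `N₀` is flat. -/
theorem exists_content_localized (Q : Ideal (MvPolynomial (Fin n) A)) [Q.IsPrime]
    (hQT : ∀ t ∈ T, t ∉ Q) (hflat : Module.Flat A (LocalizedModule Q.primeCompl N₀))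
    (X : Type u) [AddCommGroup X] [Module A X]
    (v : N ⊗[A] X) (hv : ∀ t ∉ Q, t • v ≠ 0) (hvQ : ∀ a ∈ Q, ∃ k, ∃ t ∉ Q, t • a ^ k • v = 0) :
    ∃ x : X, (∀ s ∉ Q.comap MvPolynomial.C, s • x ≠ 0) ∧
      ∀ (Y : Submodule A X) (t : MvPolynomial (Fin n) A), t ∉ Q →
        t • v ∈ LinearMap.range (Y.subtype.lTensor N) → ∃ s ∉ Q.comap MvPolynomial.C, s • x ∈ Y := by
  let L := AlgebraTensorModule.rTensor (A := MvPolynomial (Fin n) A) A X l
  obtain ⟨⟨z, t₀⟩, hz₀⟩ := IsLocalizedModule.surj T L v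
  have hz₀' : (t₀ : MvPolynomial (Fin n) A) • v = L z := hz₀
  have hz : ∀ t ∉ Q, t • z ≠ 0 := by
    intro t ht h
    refine hv (t * t₀) (Ideal.IsPrime.mul_notMem ‹_› ht (hQT _ t₀.2)) ?_
    rw [mul_smul, hz₀', ← map_smul, h, map_zero]
  have hzQ : ∀ a ∈ Q, ∃ k, ∃ t ∉ Q, t • a ^ k • z = 0 := by
    intro a ha
    obtain ⟨k, t, ht, h⟩ := hvQ a ha
    have h0 : L (t • a ^ k • z) = 0 := by
      rw [map_smul, map_smul, ← hz₀', smul_comm (a ^ k), smul_comm t, h, smul_zero]
    obtain ⟨c, hc⟩ := (IsLocalizedModule.eq_zero_iff T L).1 h0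
    refine ⟨k, c * t, Ideal.IsPrime.mul_notMem ‹_› (hQT _ c.2) ht, ?_⟩
    rw [mul_smul]
    exact hc
  obtain ⟨x, hx, hY⟩ := exists_content_poly Q hflat X z hz hzQ
  refine ⟨x, hx, fun Y t ht hmem => ?_⟩
  obtain ⟨y, hy⟩ := hmem
  obtain ⟨⟨y₀, t₁⟩, hy₀⟩ := IsLocalizedModule.surj T (AlgebraTensorModule.rTensor (A := MvPolynomial (Fin n) A) A Y l) y
  have hcomm : ∀ w : N₀ ⊗[A] Y, L (Y.subtype.lTensor N₀ w) =
      Y.subtype.lTensor N (AlgebraTensorModule.rTensor (A := MvPolynomial (Fin n) A) A Y l w) := by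
    intro w
    induction w with
    | zero => simp
    | add a b ha hb => simp only [map_add, ha, hb]
    | tmul m x => simp [L]
  have hlin : ∀ (t : MvPolynomial (Fin n) A) (w : N ⊗[A] Y),
      Y.subtype.lTensor N (t • w) = t • Y.subtype.lTensor N w := fun t w =>
    (AlgebraTensorModule.lTensor (MvPolynomial (Fin n) A) N Y.subtype).map_smul t w
  have heq : L ((t₁ : MvPolynomial (Fin n) A) • t • z) =
      L ((t₀ : MvPolynomial (Fin n) A) • Y.subtype.lTensor N₀ y₀) := by
    rw [map_smul, map_smul, map_smul, hcomm, ← hy₀, ← hz₀']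
    show _ = (t₀ : MvPolynomial (Fin n) A) • Y.subtype.lTensor N ((t₁ : MvPolynomial (Fin n) A) • y)
    rw [hlin, hy, smul_smul, smul_smul, smul_smul, smul_smul]
    ring_nf
  obtain ⟨c, hc⟩ := IsLocalizedModule.exists_of_eq (S := T) heq
  simp only [Submonoid.smul_def, smul_smul] at hc
  refine hY Y _ (Ideal.IsPrime.mul_notMem ‹_› (Ideal.IsPrime.mul_notMem ‹_› (hQT _ c.2) (hQT _ t₁.2)) ht)
    ⟨((c : MvPolynomial (Fin n) A) * t₀) • y₀, ?_⟩
  rw [mul_assoc, hc]
  refine ((AlgebraTensorModule.lTensor (MvPolynomial (Fin n) A) N₀ Y.subtype).map_smul _ y₀).trans ?_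
  rfl

include T l in
theorem flat_localized_of_flat [Module.Flat A N] (Q : Ideal (MvPolynomial (Fin n) A)) [Q.IsPrime]
    (hQT : ∀ t ∈ T, t ∉ Q) : Module.Flat A (LocalizedModule Q.primeCompl N₀) := by
  rw [FlatModel.flat_localized_iff Q.primeCompl (LocalizedModule.mkLinearMap Q.primeCompl N₀)]
  intro J y hy
  obtain ⟨s, hs, h⟩ := (FlatModel.flat_localized_iff T l).1 inferInstance J y hy
  exact ⟨s, hQT s hs, h⟩

/-- Submodules through which an element of a tensor product does not factor: there are maximal ones. -/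
theorem exists_maximal_not_mem {N Z : Type u} [AddCommGroup N] [Module A N] [AddCommGroup Z] [Module A Z]
    (v : N ⊗[A] Z) (hv : v ≠ 0) :
    ∃ Y : Submodule A Z, v ∉ LinearMap.range (Y.subtype.lTensor N) ∧
      ∀ Y' : Submodule A Z, Y < Y' → v ∈ LinearMap.range (Y'.subtype.lTensor N) := by
  have hbot : v ∉ LinearMap.range ((⊥ : Submodule A Z).subtype.lTensor N) := by
    rintro ⟨y, rfl⟩
    apply hv
    rw [show (⊥ : Submodule A Z).subtype = 0 from LinearMap.ext fun x => (Submodule.mem_bot A).1 x.2,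
      LinearMap.lTensor_zero]
    rfl
  have hchains : ∀ c ⊆ {Y : Submodule A Z | v ∉ LinearMap.range (Y.subtype.lTensor N)}, IsChain (· ≤ ·) c →
      ∀ Y₀ ∈ c, ∃ ub ∈ {Y : Submodule A Z | v ∉ LinearMap.range (Y.subtype.lTensor N)}, ∀ Y ∈ c, Y ≤ ub := by
    intro c hc hchain Y₀ hY₀
    refine ⟨sSup c, ?_, fun Y hY => le_sSup hY⟩
    rintro ⟨y, hy⟩
    have key : ∀ y : N ⊗[A] (sSup c : Submodule A Z), ∃ Y ∈ c,
        (sSup c).subtype.lTensor N y ∈ LinearMap.range (Y.subtype.lTensor N) := by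
      intro y
      induction y with
      | zero => exact ⟨Y₀, hY₀, by rw [map_zero]; exact zero_mem _⟩
      | tmul m x =>
        obtain ⟨Y, hY, hx⟩ := (Submodule.mem_sSup_of_directed ⟨Y₀, hY₀⟩ hchain.directedOn).1 x.2
        exact ⟨Y, hY, m ⊗ₜ ⟨x.1, hx⟩, rfl⟩
      | add a b ha hb =>
        obtain ⟨Y, hY, ha⟩ := ha
        obtain ⟨Y', hY', hb⟩ := hb
        have mono : ∀ {P P' : Submodule A Z}, P ≤ P' → LinearMap.range (P.subtype.lTensor N) ≤
            LinearMap.range (P'.subtype.lTensor N) := by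
          intro P P' h
          rw [← Submodule.subtype_comp_inclusion P P' h, LinearMap.lTensor_comp]
          exact LinearMap.range_comp_le_range _ _
        obtain ⟨Y'', hY'', h1, h2⟩ := hchain.directedOn Y hY Y' hY'
        exact ⟨Y'', hY'', by rw [map_add]; exact add_mem (mono h1 ha) (mono h2 hb)⟩
    obtain ⟨Y, hY, h⟩ := key y
    exact hc hY (hy ▸ h)
  obtain ⟨Y, -, hY⟩ := zorn_le_nonempty₀ _ hchains ⊥ hbot
  exact ⟨Y, hY.prop, fun Y' h => by_contra fun h' => hY.not_gt h' h⟩

theorem rTensor_lTensor_comm {N M Z Z' : Type u} [AddCommGroup N] [Module A N] [AddCommGroup M] [Module A M]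
    [AddCommGroup Z] [Module A Z] [AddCommGroup Z'] [Module A Z'] (u : N →ₗ[A] M) (π : Z →ₗ[A] Z')
    (y : N ⊗[A] Z) : u.rTensor Z' (π.lTensor N y) = π.lTensor M (u.rTensor Z y) := by
  induction y with
  | zero => simp
  | add a b ha hb => simp only [map_add, ha, hb]
  | tmul m x => simp

include T l in
/-- The fibrewise criterion: a map from a flat, relatively finitely presented module to a flat module which
is injective on all fibres is universally injective. -/
theorem univInj_of_fibrewise_local [Module.Flat A N] {M : Type u} [AddCommGroup M] [Module A M] [Module.Flat A M]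
    (u : N →ₗ[A] M)
    (h : ∀ (Q : Ideal (MvPolynomial (Fin n) A)) [Q.IsPrime], (∀ t ∈ T, t ∉ Q) → ∀ m : N,
      (1 : (Q.comap MvPolynomial.C).ResidueField) ⊗ₜ[A] u m = 0 →
        ∃ t ∉ Q, (1 : (Q.comap MvPolynomial.C).ResidueField) ⊗ₜ[A] (t • m) = 0) :
    FlatCA.UnivInj A u := by
  intro Z _ _
  suffices H : ∀ v : N ⊗[A] Z, u.rTensor Z v = 0 → v = 0 by
    rw [injective_iff_map_eq_zero]
    intro w hw
    apply (TensorProduct.comm A Z N).injective
    rw [map_zero]
    refine H _ ?_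
    have : u.rTensor Z (TensorProduct.comm A Z N w) = TensorProduct.comm A Z M (u.lTensor Z w) := by
      clear hw
      induction w with
      | zero => simp
      | add a b ha hb => simp only [map_add, ha, hb]
      | tmul m x => simp
    rw [this, hw, map_zero]
  intro v hv
  by_contra hv0
  obtain ⟨Z'', hZ'', hmax⟩ := exists_maximal_not_mem v hv0
  let π := Z''.mkQ
  let v' := π.lTensor N v
  have hker : LinearMap.ker (π.lTensor N) = LinearMap.range (Z''.subtype.lTensor N) :=
    (lTensor_exact N (LinearMap.exact_subtype_mkQ Z'') (Submodule.mkQ_surjective _)).linearMap_ker_eq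
  have hv' : v' ≠ 0 := fun h0 => hZ'' (hker ▸ LinearMap.mem_ker.2 h0)
  have huv : u.rTensor (Z ⧸ Z'') v' = 0 := by rw [rTensor_lTensor_comm, hv, map_zero]
  have hY : ∀ Y : Submodule A (Z ⧸ Z''), Y ≠ ⊥ → v' ∈ LinearMap.range (Y.subtype.lTensor N) := by
    intro Y hY
    have hlt : Z'' < Y.comap π := by
      refine lt_of_le_of_ne (fun z hz => ?_) fun h => hY ?_
      · show π z ∈ Y
        rw [show π z = 0 from (Submodule.Quotient.mk_eq_zero Z'').2 hz]
        exact Y.zero_mem
      · rw [eq_bot_iff]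
        intro y hy
        obtain ⟨z, rfl⟩ := Z''.mkQ_surjective y
        exact (Submodule.mem_bot A).2 ((Submodule.Quotient.mk_eq_zero Z'').2 (h ▸ hy : z ∈ Z''))
    obtain ⟨y, hy⟩ := hmax _ hlt
    have hc : ∀ z : Y.comap π, π.comp (Y.comap π).subtype z ∈ Y := fun z => z.2
    refine ⟨((π.comp (Y.comap π).subtype).codRestrict Y hc).lTensor N y, ?_⟩
    rw [← LinearMap.lTensor_comp_apply, LinearMap.subtype_comp_codRestrict, LinearMap.lTensor_comp_apply, hy]
  have hann : WeakAss.annEl (MvPolynomial (Fin n) A) v' ≠ ⊤ := fun hc => hv' (by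
    simpa using WeakAss.mem_annEl.1 (hc ▸ Submodule.mem_top : (1 : MvPolynomial (Fin n) A) ∈ _))
  obtain ⟨Q, hQ⟩ := Ideal.nonempty_minimalPrimes hann
  have := hQ.1.1
  have hne : ∀ t ∉ Q, t • v' ≠ 0 := fun t ht => WeakAss.smul_ne_zero_of_notMem hQ.1.2 ht
  have hpow : ∀ a ∈ Q, ∃ k, ∃ t ∉ Q, t • a ^ k • v' = 0 := fun a ha => by
    obtain ⟨s, hs, k, hk⟩ := WeakAss.exists_mul_pow_mem hQ ha
    exact ⟨k, s, hs, by rw [smul_smul]; exact WeakAss.mem_annEl.1 hk⟩
  have hQT : ∀ t ∈ T, t ∉ Q := by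
    intro t ht htQ
    obtain ⟨k, s, hs, hk⟩ := hpow t htQ
    rw [smul_comm] at hk
    have := (IsLocalizedModule.map_units
      (AlgebraTensorModule.rTensor (A := MvPolynomial (Fin n) A) A (Z ⧸ Z'') l) (⟨t, ht⟩ ^ k : T))
    exact hne s hs (((Module.End.isUnit_iff _).1 this).1 (hk.trans (map_zero _).symm))
  obtain ⟨x, hx, hcont⟩ := exists_content_localized T l Q hQT (flat_localized_of_flat T l Q hQT) _ v' hne hpow
  let p : Ideal A := Q.comap MvPolynomial.C
  have h1 : (1 : MvPolynomial (Fin n) A) ∉ Q := (Ideal.ne_top_iff_one Q).1 this.ne_top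
  have hx0 : x ≠ 0 := fun h0 => hx 1 (by rw [Ideal.mem_comap, map_one]; exact h1) (by rw [h0, smul_zero])
  have hpx : ∀ a ∈ p, a • x = 0 := by
    intro a ha
    by_contra hax
    obtain ⟨s, hs, hsx⟩ := hcont (Submodule.span A {a • x}) 1 h1
      (by rw [one_smul]; exact hY _ (by rwa [Ne, Submodule.span_singleton_eq_bot]))
    obtain ⟨r, hr⟩ := Submodule.mem_span_singleton.1 hsx
    refine hx (s - r * a) (fun h => hs ?_) (by rw [sub_smul, mul_smul, hr, sub_self])
    have := p.add_mem h (p.mul_mem_left r ha)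
    rwa [sub_add_cancel] at this
  obtain ⟨y, hy⟩ := hY (Submodule.span A {x}) (by rwa [Ne, Submodule.span_singleton_eq_bot])
  have hgen : ∀ y : N ⊗[A] (Submodule.span A {x}), ∃ m : N, (Submodule.span A {x}).subtype.lTensor N y = m ⊗ₜ x := by
    intro y
    induction y with
    | zero => exact ⟨0, by simp⟩
    | tmul m z =>
      obtain ⟨r, hr⟩ := Submodule.mem_span_singleton.1 z.2
      exact ⟨r • m, by rw [LinearMap.lTensor_tmul, Submodule.subtype_apply, ← hr, tmul_smul, smul_tmul']⟩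
    | add a b ha hb =>
      obtain ⟨m, hm⟩ := ha
      obtain ⟨m', hm'⟩ := hb
      exact ⟨m + m', by rw [map_add, hm, hm', add_tmul]⟩
  obtain ⟨m, hm⟩ := hgen y
  have hvm : v' = m ⊗ₜ[A] x := hy.symm.trans hm
  let e : (A ⧸ p) →ₗ[A] (Z ⧸ Z'') := Submodule.liftQ p (LinearMap.toSpanSingleton A _ x) fun a ha => hpx a ha
  have he : Function.Injective e := by
    rw [injective_iff_map_eq_zero]
    intro r hr
    obtain ⟨r, rfl⟩ := Submodule.Quotient.mk_surjective p r
    rw [Submodule.Quotient.mk_eq_zero]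
    by_contra hrp
    exact hx r hrp hr
  have hum : u m ⊗ₜ[A] (1 : A ⧸ p) = 0 := by
    apply Module.Flat.lTensor_preserves_injective_linearMap (M := M) e he
    rw [LinearMap.lTensor_tmul, map_zero, show e 1 = x from one_smul A x]
    simpa [hvm] using huv
  obtain ⟨t, ht, hm1⟩ := h Q hQT m (by
    have := congr((TensorProduct.comm A M p.ResidueField)
      ((IsScalarTower.toAlgHom A (A ⧸ p) p.ResidueField).toLinearMap.lTensor M $hum))
    simpa using this)
  obtain ⟨s, hs, hsm⟩ := exists_smul_tmul_eq_zero p (t • m) hm1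
  refine hne (algebraMap A (MvPolynomial (Fin n) A) s * t)
    (Ideal.IsPrime.mul_notMem ‹_› (fun hsQ => hs hsQ) ht) ?_
  rw [mul_smul, algebraMap_smul, hvm, TensorProduct.smul_tmul']
  exact hsm _ x hpx

include T l in
/-- Fibrewise injective maps are universally injective. -/
theorem univInj_of_fibrewise [Module.Flat A N] {M : Type u} [AddCommGroup M] [Module A M] [Module.Flat A M]
    (u : N →ₗ[A] M) (h : ∀ (p : Ideal A) [p.IsPrime], Function.Injective (u.lTensor p.ResidueField)) :
    FlatCA.UnivInj A u :=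
  univInj_of_fibrewise_local T l u fun Q _ _ m hm => ⟨1, (Ideal.ne_top_iff_one Q).1 (Ideal.IsPrime.ne_top ‹_›), by
    rw [one_smul]
    exact h _ (by rw [LinearMap.lTensor_tmul, map_zero]; exact hm)⟩

end Content

end Groth.Agent.RGCore
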