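import Groth.Agent.LocalCrit.Flatness
import Groth.Agent.RGCore.Specialize
import Mathlib

/-!
A minimal ideal modulo which a module is flat, over a complete Noetherian local ring.
-/

set_option autoImplicit false
set_option linter.unusedSectionVars false

universe u

open TensorProduct IsLocalRing

namespace Groth.Agent.RGCore

theorem isArtinianRing_quotient_pow {B : Type u} [CommRing B] [IsNoetherianRing B] (m : Ideal B)
    [m.IsMaximal] (n : ℕ) : IsArtinianRing (B ⧸ m ^ n) := by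
  have : IsNoetherianRing (B ⧸ m ^ n) :=
    isNoetherianRing_of_surjective B (B ⧸ m ^ n) (Ideal.Quotient.mk _) Ideal.Quotient.mk_surjective
  have : Ring.KrullDimLE 0 (B ⧸ m ^ n) := Ring.krullDimLE_zero_iff.mpr fun P hP => by
    have := hP.comap (Ideal.Quotient.mk (m ^ n))
    have hle : m ≤ P.comap (Ideal.Quotient.mk (m ^ n)) := this.le_of_pow_le (n := n)
      (fun x hx => by
        rw [Ideal.mem_comap, Ideal.Quotient.eq_zero_iff_mem.2 hx]
        exact P.zero_mem)
    have he := (inferInstance : m.IsMaximal).eq_of_le this.ne_top hle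
    have hn : n ≠ 0 := by
      rintro rfl
      refine hP.ne_top ((Ideal.eq_top_iff_one P).2 ?_)
      have h1 : (1 : B ⧸ m ^ 0) = 0 := (map_one (Ideal.Quotient.mk (m ^ 0))).symm.trans
        (Ideal.Quotient.eq_zero_iff_mem.2 (by simp))
      rw [h1]
      exact P.zero_mem
    rw [← Ideal.map_comap_of_surjective _ Ideal.Quotient.mk_surjective P, ← he]
    exact Ideal.IsMaximal.map_of_surjective_of_ker_le Ideal.Quotient.mk_surjective
      (by rw [Ideal.mk_ker]; exact Ideal.pow_le_self hn)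
  exact IsNoetherianRing.isArtinianRing_of_krullDimLE_zero

variable {B : Type u} [CommRing B]

/-- The base change of `E` to `B ⧸ J` is flat. -/
def FlatMod (E : Type u) [AddCommGroup E] [Module B E] (J : Ideal B) : Prop :=
  Module.Flat (B ⧸ J) ((B ⧸ J) ⊗[B] E)

variable {E : Type u} [AddCommGroup E] [Module B E]

theorem flat_baseChange_of_flatMod {J : Ideal B} (h : FlatMod E J) (D : Type u) [CommRing D] [Algebra B D]
    (hJ : J ≤ RingHom.ker (algebraMap B D)) : Module.Flat D (D ⊗[B] E) := by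
  have : Module.Flat (B ⧸ J) ((B ⧸ J) ⊗[B] E) := h
  let : Algebra (B ⧸ J) D := (Ideal.Quotient.lift J (algebraMap B D) hJ).toAlgebra
  have : IsScalarTower B (B ⧸ J) D := .of_algebraMap_eq fun _ => rfl
  exact Module.Flat.of_linearEquiv (AlgebraTensorModule.cancelBaseChange B (B ⧸ J) D D E).symm

theorem FlatMod.mono {J J' : Ideal B} (h : FlatMod E J) (hle : J ≤ J') : FlatMod E J' :=
  flat_baseChange_of_flatMod h (B ⧸ J') (by rw [Ideal.Quotient.algebraMap_eq, Ideal.mk_ker]; exact hle)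

theorem flatMod_of_isMaximal (J : Ideal B) [J.IsMaximal] : FlatMod E J := by
  let := Ideal.Quotient.field J
  exact Module.Flat.of_free


section Quotient

variable [IsNoetherianRing B] (E : Type u) [AddCommGroup E] [Module B E] (Loc : Type u) [CommRing Loc] [Algebra B Loc]
  [IsNoetherianRing Loc] [Module Loc E] [IsScalarTower B Loc E] [Module.Finite Loc E] (F : Ideal B)

variable {E Loc} in
/-- The image in the quotient of an element of `Loc`. -/
noncomputable abbrev quotIncl : Loc →+* (B ⧸ F) ⊗[B] Loc :=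
  (Algebra.TensorProduct.includeRight (R := B) (A := B ⧸ F) (B := Loc)).toRingHom

theorem quotIncl_surjective : Function.Surjective (quotIncl (Loc := Loc) F) := fun z => by
  induction z using TensorProduct.induction_on with
  | zero => exact ⟨0, map_zero _⟩
  | add x y hx hy =>
    obtain ⟨a, rfl⟩ := hx; obtain ⟨b, rfl⟩ := hy
    exact ⟨a + b, map_add _ _ _⟩
  | tmul c a =>
    obtain ⟨c, rfl⟩ := Ideal.Quotient.mk_surjective c
    refine ⟨c • a, ?_⟩
    show (1 : B ⧸ F) ⊗ₜ[B] (c • a) = _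
    rw [← smul_tmul, Algebra.smul_def, mul_one]
    rfl

theorem map_le_jacobson (I : Ideal B) (m : Ideal B) (hI : I ≤ m) (hjac : m.map (algebraMap B Loc) ≤ Ideal.jacobson ⊥) :
    (I.map (Ideal.Quotient.mk F)).map (algebraMap (B ⧸ F) ((B ⧸ F) ⊗[B] Loc)) ≤ Ideal.jacobson ⊥ := by
  rw [Ideal.map_map, Ideal.map_le_iff_le_comap]
  intro b hb
  rw [Ideal.mem_comap, Ideal.mem_jacobson_bot]
  intro y
  obtain ⟨a, rfl⟩ := quotIncl_surjective Loc F y
  have hu := (Ideal.mem_jacobson_bot.1 (hjac (Ideal.mem_map_of_mem _ (hI hb))) a).map (quotIncl (Loc := Loc) F)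
  have heq : quotIncl (Loc := Loc) F (algebraMap B Loc b) =
      algebraMap (B ⧸ F) ((B ⧸ F) ⊗[B] Loc) (Ideal.Quotient.mk F b) := by
    show (1 : B ⧸ F) ⊗ₜ[B] algebraMap B Loc b = Ideal.Quotient.mk F b ⊗ₜ[B] (1 : Loc)
    rw [Algebra.algebraMap_eq_smul_one, ← smul_tmul, Algebra.smul_def, mul_one]
    rfl
  rw [map_add, map_mul, map_one, heq] at hu
  exact hu

/-- The base change to a quotient is a finite module over a Noetherian algebra. -/
theorem quotient_setting : ∃ _ : IsNoetherianRing (B ⧸ F), ∃ _ : IsNoetherianRing ((B ⧸ F) ⊗[B] Loc),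
    ∃ _ : Module ((B ⧸ F) ⊗[B] Loc) ((B ⧸ F) ⊗[B] E), IsScalarTower (B ⧸ F) ((B ⧸ F) ⊗[B] Loc) ((B ⧸ F) ⊗[B] E) ∧
      Module.Finite ((B ⧸ F) ⊗[B] Loc) ((B ⧸ F) ⊗[B] E) := by
  classical
  let : Module ((B ⧸ F) ⊗[B] Loc) ((B ⧸ F) ⊗[B] E) := tauModule (B ⧸ F) E
  refine ⟨isNoetherianRing_of_surjective B (B ⧸ F) (Ideal.Quotient.mk _) Ideal.Quotient.mk_surjective,
    isNoetherianRing_of_surjective Loc _ (quotIncl (Loc := Loc) F) (quotIncl_surjective Loc F),
    tauModule (B ⧸ F) E, ?_, ?_⟩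
  · refine .of_algebraMap_smul (A := (B ⧸ F) ⊗[B] Loc) fun d z => ?_
    show tau (B ⧸ F) E (algebraMap (B ⧸ F) ((B ⧸ F) ⊗[B] Loc) d) z = d • z
    induction z with
    | zero => simp
    | add a b ha hb => simp only [map_add, smul_add, ha, hb]
    | tmul k x => simp [tau_tmul, smul_tmul', Algebra.TensorProduct.algebraMap_apply]
  · obtain ⟨gens, hgens⟩ := (Module.Finite.fg_top : (⊤ : Submodule Loc E).FG)
    refine ⟨⟨gens.image fun g => ((1 : B ⧸ F) ⊗ₜ[B] g : (B ⧸ F) ⊗[B] E), eq_top_iff.2 fun z htop => ?_⟩⟩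
    clear htop
    rw [Finset.coe_image]
    induction z using TensorProduct.induction_on with
    | zero => exact zero_mem _
    | add a b ha hb => exact add_mem ha hb
    | tmul c x =>
      have hx : x ∈ Submodule.span Loc (gens : Set E) := hgens ▸ trivial
      induction hx using Submodule.span_induction with
      | mem g hg =>
        have : (c ⊗ₜ[B] g : (B ⧸ F) ⊗[B] E) = (c ⊗ₜ[B] (1 : Loc) : (B ⧸ F) ⊗[B] Loc) • ((1 : B ⧸ F) ⊗ₜ[B] g : (B ⧸ F) ⊗[B] E) := by
          show _ = tau (B ⧸ F) E (c ⊗ₜ[B] (1 : Loc)) ((1 : B ⧸ F) ⊗ₜ[B] g)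
          rw [tau_tmul, smul_eq_mul, mul_one, one_smul]
        rw [this]
        exact Submodule.smul_mem _ _ (Submodule.subset_span ⟨g, hg, rfl⟩)
      | zero => rw [tmul_zero]; exact zero_mem _
      | add a b _ _ ha hb => rw [tmul_add]; exact add_mem ha hb
      | smul a x _ hx =>
        have : (c ⊗ₜ[B] (a • x) : (B ⧸ F) ⊗[B] E) = (quotIncl (Loc := Loc) F a) • (c ⊗ₜ[B] x : (B ⧸ F) ⊗[B] E) := by
          show _ = tau (B ⧸ F) E ((1 : B ⧸ F) ⊗ₜ[B] a) (c ⊗ₜ[B] x)
          rw [tau_tmul, one_smul]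
        rw [this]
        exact Submodule.smul_mem _ _ hx

end Quotient

variable [IsLocalRing B] [IsNoetherianRing B] [IsAdicComplete (maximalIdeal B) B]

/-- A minimal ideal modulo which `E` is flat. -/
theorem exists_minimal_flattening (E : Type u) [AddCommGroup E] [Module B E]
    (Loc : Type u) [CommRing Loc] [Algebra B Loc] [IsNoetherianRing Loc] [Module Loc E] [IsScalarTower B Loc E]
    [Module.Finite Loc E] (hjac : (maximalIdeal B).map (algebraMap B Loc) ≤ Ideal.jacobson ⊥) :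
    ∃ F : Ideal B, F ≤ maximalIdeal B ∧ FlatMod E F ∧
      ∀ (J₁ : Ideal B) (k : ℕ), J₁ ≤ F → F ⊓ maximalIdeal B ^ k ≤ J₁ →
        FlatMod E (J₁ ⊔ maximalIdeal B ^ k) → J₁ = F := by
  classical
  set m := maximalIdeal B with hm
  have hflatm : FlatMod E m := flatMod_of_isMaximal m
  have htop : FlatMod E (⊤ : Ideal B) := hflatm.mono le_top
  -- minimal elements at every level
  have hex : ∀ (n : ℕ) (U : Ideal B), (∃ J, m ^ n ≤ J ∧ J ≤ U ∧ FlatMod E J) →
      ∃ J, (m ^ n ≤ J ∧ J ≤ U ∧ FlatMod E J) ∧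
        ∀ J', m ^ n ≤ J' → J' ≤ J → FlatMod E J' → J' = J := by
    rintro n U ⟨J₀, hJ₀⟩
    have := isArtinianRing_quotient_pow m n
    let π := Ideal.Quotient.mk (m ^ n)
    let 𝒥 : Set (Submodule (B ⧸ m ^ n) (B ⧸ m ^ n)) :=
      (Ideal.map π) '' {J | m ^ n ≤ J ∧ J ≤ U ∧ FlatMod E J}
    obtain ⟨_, ⟨J, hJ, rfl⟩, hmin⟩ := IsArtinian.set_has_minimal 𝒥 ⟨_, J₀, hJ₀, rfl⟩
    refine ⟨J, hJ, fun J' h1 h2 h3 => le_antisymm h2 ?_⟩
    have hcm : ∀ {I : Ideal B}, m ^ n ≤ I → (I.map π).comap π = I := fun {I} hI => by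
      rw [Ideal.comap_map_of_surjective' _ Ideal.Quotient.mk_surjective, Ideal.mk_ker, sup_eq_left]
      exact hI
    have hle : J'.map π ≤ J.map π := Ideal.map_mono h2
    have heq : J'.map π = J.map π :=
      hle.eq_or_lt.resolve_right (hmin _ ⟨J', ⟨h1, h2.trans hJ.2.1, h3⟩, rfl⟩)
    rw [← hcm h1, heq, hcm hJ.1]
  choose! next hnext hmin using hex
  let K : ℕ → Ideal B := fun n => Nat.rec ⊤ (fun n U => next (n + 1) U) n
  have hK : ∀ n, m ^ n ≤ K n ∧ FlatMod E (K n) := by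
    intro n
    induction n with
    | zero => exact ⟨le_top, htop⟩
    | succ n ih =>
      have h := hnext (n + 1) (K n) ⟨K n, (Ideal.pow_le_pow_right n.le_succ).trans ih.1, le_rfl, ih.2⟩
      exact ⟨h.1, h.2.2⟩
  have hKs : ∀ n, K (n + 1) ≤ K n ∧
      ∀ J', m ^ (n + 1) ≤ J' → J' ≤ K (n + 1) → FlatMod E J' → J' = K (n + 1) := fun n =>
    ⟨(hnext (n + 1) (K n) ⟨K n, (Ideal.pow_le_pow_right n.le_succ).trans (hK n).1, le_rfl, (hK n).2⟩).2.1,
      hmin (n + 1) (K n) ⟨K n, (Ideal.pow_le_pow_right n.le_succ).trans (hK n).1, le_rfl, (hK n).2⟩⟩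
  have hminK : ∀ n J', m ^ n ≤ J' → J' ≤ K n → FlatMod E J' → J' = K n := by
    intro n
    cases n with
    | zero =>
      intro J' h1 _ _
      rw [pow_zero, Ideal.one_eq_top] at h1
      exact top_le_iff.1 h1
    | succ n => exact (hKs n).2
  have hanti : Antitone K := antitone_nat_of_succ_le fun n => (hKs n).1
  have hstep : ∀ n, K (n + 1) ⊔ m ^ n = K n := fun n =>
    hminK n _ le_sup_right (sup_le (hKs n).1 (hK n).1) ((hK (n + 1)).2.mono le_sup_left)
  let F : Ideal B := ⨅ n, K n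
  have hF : ∀ n, F ⊔ m ^ n = K n := by
    intro n
    refine le_antisymm (sup_le (iInf_le _ _) (hK n).1) fun x hx => ?_
    have hlift : ∀ j : ℕ, ∀ y ∈ K (n + j), ∃ y' ∈ K (n + (j + 1)), y - y' ∈ m ^ (n + j) := by
      intro j y hy
      rw [← hstep (n + j)] at hy
      obtain ⟨a, ha, b, hb, rfl⟩ := Submodule.mem_sup.1 hy
      exact ⟨a, ha, by rwa [add_sub_cancel_left]⟩
    choose! g hgK hg using hlift
    let f : ℕ → B := fun j => Nat.rec x (fun j y => g j y) j
    have hfK : ∀ j, f j ∈ K (n + j) := fun j => by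
      induction j with
      | zero => exact hx
      | succ j ih => exact hgK j _ ih
    have hcauchy : ∀ a b, a ≤ b → f a - f b ∈ m ^ (n + a) := by
      intro a b hab
      induction b, hab using Nat.le_induction with
      | base => rw [sub_self]; exact zero_mem _
      | succ b hab ih =>
        have h : f b - f (b + 1) ∈ m ^ (n + a) :=
          Ideal.pow_le_pow_right (by omega) (hg b _ (hfK b))
        simpa using add_mem ih h
    obtain ⟨L, hL⟩ := (inferInstance : IsPrecomplete m B).prec (f := fun j => f (j - n))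
      (fun {a b} hab => by
        rw [SModEq.sub_mem, smul_eq_mul, Ideal.mul_top]
        exact Ideal.pow_le_pow_right (by omega) (hcauchy (a - n) (b - n) (by omega)))
    have hLn : ∀ j, n ≤ j → f (j - n) - L ∈ m ^ j := fun j _ => by
      have := hL j
      rwa [SModEq.sub_mem, smul_eq_mul, Ideal.mul_top] at this
    have hLF : L ∈ F := Submodule.mem_iInf _ |>.2 fun i => by
      refine hanti (le_max_left i n) ?_
      have hj := hLn (max i n) (le_max_right _ _)
      have h1 := hfK (max i n - n)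
      rw [show n + (max i n - n) = max i n by omega] at h1
      have h2 := sub_mem h1 ((hK (max i n)).1 hj)
      rwa [sub_sub_cancel] at h2
    have h0 := hLn n le_rfl
    rw [Nat.sub_self] at h0
    exact Submodule.mem_sup.2 ⟨L, hLF, f 0 - L, h0, by show L + (x - L) = x; ring⟩
  refine ⟨F, ?_, ?_, fun J₁ k hJ₁ hk hflat => ?_⟩
  · have h1 : m = K 1 := hminK 1 m (by rw [pow_one]) (by simpa using (hK 1).1) hflatm
    exact (iInf_le _ 1).trans h1.ge
  · -- flatness modulo `F`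
    obtain ⟨_, _, _, _, _⟩ := quotient_setting E Loc F
    let m' : Ideal (B ⧸ F) := m.map (Ideal.Quotient.mk F)
    have hj := map_le_jacobson (Loc := Loc) F m m le_rfl hjac
    refine LocalCrit.flat_of_forall_quotient_pow (B := (B ⧸ F) ⊗[B] Loc) m' hj fun j => ?_
    have : Module.Flat ((B ⧸ F) ⧸ m' ^ j) (((B ⧸ F) ⧸ m' ^ j) ⊗[B] E) := by
      refine flat_baseChange_of_flatMod (J := F ⊔ m ^ j) ((hF j).symm ▸ (hK j).2) _ (fun x hx => ?_)
      obtain ⟨a, ha, b, hb, rfl⟩ := Submodule.mem_sup.1 hx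
      rw [RingHom.mem_ker, IsScalarTower.algebraMap_apply B (B ⧸ F) ((B ⧸ F) ⧸ m' ^ j),
        Ideal.Quotient.algebraMap_eq, Ideal.Quotient.algebraMap_eq, map_add, map_add,
        Ideal.Quotient.eq_zero_iff_mem.2 ha, map_zero, zero_add, Ideal.Quotient.eq_zero_iff_mem,
        ← Ideal.map_pow]
      exact Ideal.mem_map_of_mem _ hb
    have : Module.Flat ((B ⧸ F) ⧸ m' ^ j) (((B ⧸ F) ⧸ m' ^ j) ⊗[B ⧸ F] ((B ⧸ F) ⊗[B] E)) :=
      Module.Flat.of_linearEquiv (AlgebraTensorModule.cancelBaseChange B (B ⧸ F) ((B ⧸ F) ⧸ m' ^ j)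
        ((B ⧸ F) ⧸ m' ^ j) E)
    exact LocalCrit.keepsInjective_of_flat _ _
  · refine le_antisymm hJ₁ fun x hx => ?_
    have h1 : J₁ ⊔ m ^ k = K k := hminK k _ le_sup_right (sup_le (hJ₁.trans (iInf_le _ _)) (hK k).1) hflat
    have hxK : x ∈ J₁ ⊔ m ^ k := h1 ▸ (iInf_le K k hx)
    obtain ⟨a, ha, b, hb, rfl⟩ := Submodule.mem_sup.1 hxK
    exact add_mem ha (hk ⟨by simpa using F.sub_mem hx (hJ₁ ha), hb⟩)

end Groth.Agent.RGCore
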