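import Groth.Agent.RGCore.Content
import Groth.Agent.LocalCrit.Flatness

/-!
For a field extension `κ/k` and a prime of `κ ⊗ S` extended from `S`, the elements outside the prime act
regularly on the localised base change of a finite `S`-module.
-/

set_option autoImplicit false
set_option linter.unusedSectionVars false

universe u

open TensorProduct IsLocalRing

namespace Groth.Agent.RGCore

/-- An element of the kernel of a tensored map comes from the kernel. -/
theorem exists_lTensor_subtype_eq {R J X V : Type u} [Field R] [AddCommGroup J] [Module R J] [AddCommGroup X]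
    [Module R X] [AddCommGroup V] [Module R V] (T : Submodule R X) (g : X →ₗ[R] V) (hg : LinearMap.ker g = T)
    (w : J ⊗[R] X) (hw : g.lTensor J w = 0) : ∃ v, T.subtype.lTensor J v = w :=
  (Module.Flat.lTensor_exact J (f := T.subtype) (g := g) (by
    rw [LinearMap.exact_iff, Submodule.range_subtype, hg]) w).1 hw

variable {k S κ : Type u} [Field k] [CommRing S] [Algebra k S] [IsNoetherianRing S]
  [Field κ] [Algebra k κ] (yκ : Ideal (κ ⊗[k] S)) [yκ.IsPrime] (y₀ : Ideal S) [y₀.IsPrime]
  (hstar : yκ = y₀.map (Algebra.TensorProduct.includeRight (R := k) (A := κ) (B := S)).toRingHom)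
  (hy₀ : y₀ = yκ.comap (Algebra.TensorProduct.includeRight (R := k) (A := κ) (B := S)).toRingHom)

include hstar in
/-- A good element is injective on `J ⊗ (S/y₀)`. -/
theorem regular_quotient {t : κ ⊗[k] S} (ht : t ∉ yκ) (w : κ ⊗[k] (S ⧸ y₀))
    (h : tau κ (S ⧸ y₀) t w = 0) : w = 0 := by
  obtain ⟨b, rfl⟩ := (LinearMap.lTensor_surjective κ
    (g := (Ideal.Quotient.mkₐ k y₀).toLinearMap) Ideal.Quotient.mk_surjective) w
  have hmul : ∀ x y : κ ⊗[k] S, tau κ (S ⧸ y₀) x ((Ideal.Quotient.mkₐ k y₀).toLinearMap.lTensor κ y) =
      (Ideal.Quotient.mkₐ k y₀).toLinearMap.lTensor κ (x * y) := by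
    intro x y
    induction x with
    | zero => simp
    | add a c ha hc => simp only [map_add, LinearMap.add_apply, add_mul, ha, hc]
    | tmul c a =>
      induction y with
      | zero => simp
      | add a c ha hc => simp only [map_add, mul_add, ha, hc]
      | tmul c' a' => simp [tau_tmul, Algebra.smul_def]
  have hker : ∀ x : κ ⊗[k] S, (Ideal.Quotient.mkₐ k y₀).toLinearMap.lTensor κ x = 0 ↔ x ∈ yκ := by
    intro x
    have hk := Algebra.TensorProduct.lTensor_ker (Ideal.Quotient.mkₐ k y₀) (A := κ) Ideal.Quotient.mk_surjective
    have hmem : x ∈ RingHom.ker (Algebra.TensorProduct.map (AlgHom.id k κ) (Ideal.Quotient.mkₐ k y₀)) ↔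
        (Ideal.Quotient.mkₐ k y₀).toLinearMap.lTensor κ x = 0 := Iff.rfl
    rw [← hmem, hk, hstar, show RingHom.ker (Ideal.Quotient.mkₐ k y₀) = y₀ from Ideal.Quotient.mkₐ_ker k y₀]
    rfl
  rw [hmul, hker] at h
  exact (hker b).2 ((‹yκ.IsPrime›.mem_or_mem h).resolve_left ht)

include hstar in
/-- A good element is injective on `J ⊗ κ(y₀)` for a vector space `J` over `κ`. -/
theorem regular_residue {t : κ ⊗[k] S} (ht : t ∉ yκ) (J : Type u) [AddCommGroup J] [Module k J] [Module κ J]
    [IsScalarTower k κ J] (w : J ⊗[k] y₀.ResidueField) (h : tau J y₀.ResidueField t w = 0) : w = 0 := by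
  classical
  have base : ∀ w : κ ⊗[k] y₀.ResidueField, tau κ y₀.ResidueField t w = 0 → w = 0 := by
    intro w h
    let f : (S ⧸ y₀) →ₗ[S] y₀.ResidueField := (IsScalarTower.toAlgHom S (S ⧸ y₀) y₀.ResidueField).toLinearMap
    have : IsLocalizedModule y₀.primeCompl f := by
      refine (isLocalizedModule_iff_isLocalization (R := S) (A := S ⧸ y₀) (Aₛ := y₀.ResidueField)).2 ?_
      have hsub : Algebra.algebraMapSubmonoid (S ⧸ y₀) y₀.primeCompl = nonZeroDivisors (S ⧸ y₀) := by
        ext x
        rw [mem_nonZeroDivisors_iff_ne_zero]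
        constructor
        · rintro ⟨a, ha, rfl⟩ h0
          exact ha (Ideal.Quotient.eq_zero_iff_mem.1 h0)
        · intro hx
          obtain ⟨a, rfl⟩ := Ideal.Quotient.mk_surjective x
          exact ⟨a, fun ha => hx (Ideal.Quotient.eq_zero_iff_mem.2 ha), rfl⟩
      rw [hsub]
      exact inferInstanceAs (IsFractionRing (S ⧸ y₀) y₀.ResidueField)
    let F := AlgebraTensorModule.rTensor (A := S) k κ f
    obtain ⟨⟨v, s⟩, hv⟩ := IsLocalizedModule.surj y₀.primeCompl F (TensorProduct.comm k κ _ w)
    have hact : ∀ {X : Type u} [AddCommGroup X] [Module k X] [Module S X] [IsScalarTower k S X] (a : S)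
        (z : κ ⊗[k] X), TensorProduct.comm k κ X (tau κ X ((1 : κ) ⊗ₜ[k] a) z) = a • TensorProduct.comm k κ X z := by
      intro X _ _ _ _ a z
      induction z with
      | zero => simp
      | add x y hx hy => simp only [map_add, smul_add, hx, hy]
      | tmul c x => simp [tau_tmul, smul_tmul']
    have hcomm : ∀ z, F (TensorProduct.comm k κ (S ⧸ y₀) z) =
        TensorProduct.comm k κ _ ((f.restrictScalars k).lTensor κ z) := by
      intro z
      induction z with
      | zero => simp
      | add x y hx hy => simp only [map_add, hx, hy]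
      | tmul c x => simp [F]
    obtain ⟨v, rfl⟩ := (TensorProduct.comm k κ (S ⧸ y₀)).surjective v
    have hw : tau κ y₀.ResidueField ((1 : κ) ⊗ₜ[k] (s : S)) w = (f.restrictScalars k).lTensor κ v := by
      apply (TensorProduct.comm k κ y₀.ResidueField).injective
      rw [hact, ← hcomm]
      exact hv
    have h0 : (f.restrictScalars k).lTensor κ (tau κ (S ⧸ y₀) t v) = 0 := by
      rw [tau_lTensor, ← hw, ← tau_mul, mul_comm, tau_mul, h, map_zero]
    obtain ⟨c, hc⟩ := (IsLocalizedModule.eq_zero_iff y₀.primeCompl F).1
      (show F (TensorProduct.comm k κ _ (tau κ (S ⧸ y₀) t v)) = 0 by rw [hcomm, h0, map_zero])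
    have hv0 : tau κ (S ⧸ y₀) t (tau κ (S ⧸ y₀) ((1 : κ) ⊗ₜ[k] (c : S)) v) = 0 := by
      apply (TensorProduct.comm k κ (S ⧸ y₀)).injective
      rw [← tau_mul, mul_comm, tau_mul, hact, map_zero]
      exact hc
    have hv1 := regular_quotient yκ y₀ hstar ht _ hv0
    have h2 := congr(TensorProduct.comm k κ _ ((f.restrictScalars k).lTensor κ $hv1))
    rw [tau_lTensor, ← hw, map_zero, map_zero, hact, hact] at h2
    have hinj : ∀ a : y₀.primeCompl, Function.Injective
        fun z : y₀.ResidueField ⊗[k] κ => (a : S) • z := fun a =>
      ((Module.End.isUnit_iff _).1 (IsLocalizedModule.map_units F a)).1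
    apply (TensorProduct.comm k κ y₀.ResidueField).injective
    rw [map_zero]
    refine hinj s ?_
    refine hinj c ?_
    simpa using h2
  let b := Module.Free.chooseBasis κ J
  let e := b.repr.restrictScalars k
  let E := (LinearEquiv.rTensor y₀.ResidueField e).trans (TensorProduct.finsuppLeft k k κ y₀.ResidueField _)
  have nat : ∀ (x : κ ⊗[k] S) (w : J ⊗[k] y₀.ResidueField) i,
      E (tau J y₀.ResidueField x w) i = tau κ y₀.ResidueField x (E w i) := by
    intro x w i
    induction x with
    | zero => simp
    | add a c ha hc => simp only [map_add, LinearMap.add_apply, Finsupp.add_apply, ha, hc]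
    | tmul c a =>
      induction w with
      | zero => simp
      | add a c ha hc => simp only [map_add, Finsupp.add_apply, ha, hc]
      | tmul j x =>
        simp [E, e, tau_tmul, TensorProduct.finsuppLeft_apply_tmul_apply]
  apply E.injective
  rw [map_zero]
  ext i
  rw [Finsupp.zero_apply]
  exact base _ (by rw [← nat, h, map_zero, Finsupp.zero_apply])

include hstar hy₀ in
set_option maxHeartbeats 1000000 in
/-- Elements outside a prime extended from `S` act regularly on `J ⊗ X` at `y₀`. -/
theorem exists_killed_of_regular {X : Type u} [AddCommGroup X] [Module k X] [Module S X] [IsScalarTower k S X]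
    [Module.Finite S X] (J : Type u) [AddCommGroup J] [Module k J] [Module κ J] [IsScalarTower k κ J]
    {t : κ ⊗[k] S} (ht : t ∉ yκ) (w : J ⊗[k] X) (h : tau J X t w = 0) :
    ∃ s ∉ y₀, ((LinearMap.lsmul S X s).restrictScalars k).lTensor J w = 0 := by
  classical
  let L := LocalizedModule y₀.primeCompl X
  let Loc := Localization.AtPrime y₀
  let lL := LocalizedModule.mkLinearMap y₀.primeCompl X
  let w' := (lL.restrictScalars k).lTensor J w
  have : IsScalarTower k Loc L := .of_algebraMap_smul fun a x => by
    rw [IsScalarTower.algebraMap_apply k S Loc, algebraMap_smul, algebraMap_smul]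
  have hw' : tau J L t w' = 0 := by
    show tau J L t ((lL.restrictScalars k).lTensor J w) = 0
    rw [← tau_lTensor, h, map_zero]
  let m := maximalIdeal Loc
  let M : ℕ → Submodule Loc L := fun l => m ^ l • ⊤
  have key : ∀ l, w' ∈ LinearMap.range (((M l).subtype.restrictScalars k).lTensor J) := by
    intro l
    induction l with
    | zero =>
      refine LinearMap.mem_range.2 ((LinearMap.lTensor_surjective J (fun x => ⟨⟨x, ?_⟩, rfl⟩)) w')
      show x ∈ m ^ 0 • (⊤ : Submodule Loc L)
      rw [pow_zero, Ideal.one_eq_top, Submodule.top_smul]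
      trivial
    | succ l ih =>
      obtain ⟨wl, hwl⟩ := ih
      let T : Submodule Loc (M l) := m • ⊤
      let q : M l →ₗ[S] (M l) ⧸ T := T.mkQ.restrictScalars S
      have hinj : Function.Injective (((M l).subtype.restrictScalars k).lTensor J) :=
        Module.Flat.lTensor_preserves_injective_linearMap _ Subtype.val_injective
      have h0 : tau J (M l) t wl = 0 := by
        apply hinj
        rw [map_zero, ← hw', ← hwl]
        exact tau_lTensor ((M l).subtype.restrictScalars S) t wl
      let V := (M l) ⧸ T
      have hV : Module.IsTorsionBySet Loc V (m : Set Loc) := by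
        rintro x ⟨a, ha⟩
        obtain ⟨x, rfl⟩ := T.mkQ_surjective x
        rw [← map_smul, Submodule.mkQ_apply, Submodule.Quotient.mk_eq_zero]
        exact Submodule.smul_mem_smul ha trivial
      let : Module y₀.ResidueField V := hV.module
      have : IsScalarTower Loc y₀.ResidueField V := hV.isScalarTower
      have : IsScalarTower S y₀.ResidueField V := .of_algebraMap_smul fun a x => by
        rw [IsScalarTower.algebraMap_apply S Loc y₀.ResidueField, algebraMap_smul, algebraMap_smul]
      have : IsScalarTower k y₀.ResidueField V := .of_algebraMap_smul fun a x => by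
        rw [IsScalarTower.algebraMap_apply k S y₀.ResidueField, algebraMap_smul, algebraMap_smul]
      let b := Module.Free.chooseBasis y₀.ResidueField V
      have hzero : (q.restrictScalars k).lTensor J wl = 0 := by
        let e := b.repr.restrictScalars k
        let E := (LinearEquiv.lTensor J e).trans (TensorProduct.finsuppRight k k J y₀.ResidueField _)
        apply E.injective
        rw [map_zero]
        ext i
        rw [Finsupp.zero_apply]
        let ξ : V →ₗ[S] y₀.ResidueField := ((Finsupp.lapply i).comp b.repr.toLinearMap).restrictScalars S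
        have hnat : ∀ z : J ⊗[k] V, E z i = (ξ.restrictScalars k).lTensor J z := by
          intro z
          induction z with
          | zero => simp
          | add x y hx hy => simp only [map_add, Finsupp.add_apply, hx, hy]
          | tmul j x => simp [E, e, ξ, TensorProduct.finsuppRight_apply_tmul_apply]
        rw [hnat]
        refine regular_residue yκ y₀ hstar ht J _ ?_
        rw [← tau_lTensor, ← tau_lTensor, h0, map_zero, map_zero]
      let Tk : Submodule k (M l) := T.restrictScalars k
      let iT : Tk →ₗ[k] M l := Tk.subtype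
      obtain ⟨v, hv⟩ := exists_lTensor_subtype_eq Tk (q.restrictScalars k) (by
        ext x
        simp [q, Tk, Submodule.Quotient.mk_eq_zero]) wl hzero
      have hT : ∀ x : Tk, ((x : M l) : L) ∈ M (l + 1) := fun x => by
        have hx := Submodule.mem_map_of_mem (f := (M l).subtype) (show (x : M l) ∈ T from x.2)
        rw [Submodule.map_smul'', Submodule.map_subtype_top] at hx
        show (x.1 : L) ∈ m ^ (l + 1) • (⊤ : Submodule Loc L)
        rw [pow_succ', Submodule.mul_smul]
        exact hx
      let i : Tk →ₗ[k] M (l + 1) :=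
        { toFun := fun x => ⟨_, hT x⟩
          map_add' := fun x y => rfl
          map_smul' := fun c x => rfl }
      refine ⟨i.lTensor J v, ?_⟩
      rw [← hwl, ← hv, ← LinearMap.lTensor_comp_apply, ← LinearMap.lTensor_comp_apply]
      rfl
  have hzero : w' = 0 := by
    let b := Module.Free.chooseBasis k J
    let E := (LinearEquiv.rTensor L b.repr).trans (TensorProduct.finsuppScalarLeft k L _)
    apply E.injective
    rw [map_zero]
    ext i
    rw [Finsupp.zero_apply]
    refine LocalCrit.eq_zero_of_forall_mem_smul (B := Loc) m (maximalIdeal_le_jacobson ⊥) fun l => ?_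
    obtain ⟨v, hv⟩ := key l
    rw [← hv]
    clear hv
    induction v with
    | zero => simp
    | add x y hx hy => simp only [map_add, Finsupp.add_apply]; exact add_mem hx hy
    | tmul j x =>
      rw [LinearMap.lTensor_tmul]
      simp only [E, LinearEquiv.trans_apply, LinearEquiv.rTensor_tmul, TensorProduct.finsuppScalarLeft_apply_tmul_apply]
      exact Submodule.smul_of_tower_mem _ _ x.2
  let F := AlgebraTensorModule.rTensor (A := S) k J lL
  have hF : ∀ z, F (TensorProduct.comm k J X z) = TensorProduct.comm k J L ((lL.restrictScalars k).lTensor J z) := by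
    intro z
    induction z with
    | zero => simp
    | add x y hx hy => simp only [map_add, hx, hy]
    | tmul c x => simp [F]
  obtain ⟨s, hs⟩ := (IsLocalizedModule.eq_zero_iff y₀.primeCompl F).1
    (show F (TensorProduct.comm k J X w) = 0 by rw [hF]; exact (congrArg _ hzero).trans (map_zero _))
  refine ⟨s, s.2, (TensorProduct.comm k J X).injective ?_⟩
  rw [map_zero, ← hs]
  clear hs hF hzero key hw' h w'
  induction w with
  | zero => simp
  | add x y hx hy => simp only [map_add, smul_add, hx, hy]
  | tmul c x => simp [Submonoid.smul_def, smul_tmul']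

end Groth.Agent.RGCore
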