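import Groth.Agent.RGCore.FlatPoint
import Groth.Agent.RGCore.Regular
import Groth.Agent.RGCore.Flattening

/-!
Flatness at a point of a module which maps to a flat module injectively on the fibre: the case of a base
change of a finite module along a map from a complete Noetherian local ring.
-/

set_option autoImplicit false
set_option linter.unusedSectionVars false

universe u

open TensorProduct IsLocalRing

namespace Groth.Agent.RGCore

variable {R₀ S₀ : Type u} [CommRing R₀] [CommRing S₀] [Algebra R₀ S₀]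
  {N₁ : Type u} [AddCommGroup N₁] [Module R₀ N₁] [Module S₀ N₁] [IsScalarTower R₀ S₀ N₁]

attribute [local instance] bcModule

section Fibre

variable {D : Type u} [CommRing D] [Algebra R₀ D] {M : Type u} [AddCommGroup M] [Module R₀ M] [Module D M]
  [IsScalarTower R₀ D M] (u : N₁ →ₗ[R₀] M)

variable (D) in
/-- `K ⊗ N₁ → K ⊗ M`. -/
noncomputable def uMap (K : Type u) [AddCommGroup K] [Module R₀ K] [Module D K] [IsScalarTower R₀ D K] :
    K ⊗[R₀] N₁ →ₗ[R₀] K ⊗[D] M :=
  TensorProduct.lift <| LinearMap.mk₂ R₀ (fun k x => k ⊗ₜ[D] u x) (fun a b x => add_tmul a b _)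
    (fun r a x => by rw [smul_tmul']) (fun a x y => by rw [map_add, tmul_add])
    (fun r a x => by rw [map_smul, tmul_smul])

theorem uMap_tmul {K : Type u} [AddCommGroup K] [Module R₀ K] [Module D K] [IsScalarTower R₀ D K] (k : K) (x : N₁) :
    uMap D u K (k ⊗ₜ[R₀] x) = k ⊗ₜ[D] u x :=
  rfl

theorem uMap_naturality {K K' : Type u} [AddCommGroup K] [Module R₀ K] [Module D K] [IsScalarTower R₀ D K]
    [AddCommGroup K'] [Module R₀ K'] [Module D K'] [IsScalarTower R₀ D K'] (g : K →ₗ[D] K') (z : K ⊗[R₀] N₁) :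
    uMap D u K' ((g.restrictScalars R₀).rTensor N₁ z) = g.rTensor M (uMap D u K z) := by
  induction z with
  | zero => simp
  | add a b ha hb => simp only [map_add, ha, hb]
  | tmul k x => simp [uMap_tmul]

/-- Injectivity on the fibre gives injectivity after tensoring with vector spaces over the residue field. -/
theorem dead_of_fibre {κ : Type u} [Field κ] [Algebra R₀ κ] [Algebra D κ] [IsScalarTower R₀ D κ]
    (yD : Ideal (D ⊗[R₀] S₀)) [yD.IsPrime]
    (h : ∀ w : κ ⊗[R₀] N₁, uMap D u κ w = 0 → Dead yD κ w)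
    {K : Type u} [AddCommGroup K] [Module R₀ K] [Module D K] [IsScalarTower R₀ D K] [Module κ K]
    [IsScalarTower D κ K] (z : K ⊗[R₀] N₁) (hz : uMap D u K z = 0) : Dead yD K z := by
  classical
  have : IsScalarTower R₀ κ K := .of_algebraMap_smul fun r x => by
    rw [IsScalarTower.algebraMap_apply R₀ D κ, algebraMap_smul, algebraMap_smul]
  let b := Module.Free.chooseBasis κ K
  let E := (LinearEquiv.rTensor N₁ (b.repr.restrictScalars R₀)).trans (TensorProduct.finsuppLeft R₀ R₀ κ N₁ _)
  let ξ := fun i => (((Finsupp.lapply i).comp b.repr.toLinearMap).restrictScalars D : K →ₗ[D] κ)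
  have hE : ∀ w i, E w i = ((ξ i).restrictScalars R₀).rTensor N₁ w := by
    intro w i
    induction w with
    | zero => simp
    | add x y hx hy => simp only [map_add, Finsupp.add_apply, hx, hy]
    | tmul k x => simp [E, ξ, TensorProduct.finsuppLeft_apply_tmul_apply]
  have hcomp : ∀ i, Dead yD κ (E z i) := fun i => h _ (by rw [hE, uMap_naturality, hz, map_zero])
  choose t hty ht using hcomp
  refine ⟨∏ i ∈ (E z).support, t i, fun hmem => ?_, ?_⟩
  · obtain ⟨i, -, hi⟩ := (Ideal.IsPrime.prod_mem_iff (hp := ‹yD.IsPrime›)).1 hmem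
    exact hty i hi
  · apply E.injective
    rw [map_zero]
    ext i
    rw [hE, Finsupp.zero_apply, tau_rTensor, ← hE]
    by_cases hi : i ∈ (E z).support
    · rw [← Finset.prod_erase_mul _ _ hi, tau_mul, ht, map_zero]
    · rw [Finsupp.notMem_support_iff.1 hi, map_zero]

end Fibre

section Field

variable {k κ : Type u} [Field k] [Field κ] [Algebra R₀ k] [Algebra R₀ κ] [Algebra k κ] [IsScalarTower R₀ k κ]

set_option maxHeartbeats 1000000 in
/-- For a prime of `κ ⊗ S₀` extended from `S₀`, vanishing at the point descends along injective maps. -/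
theorem dead_of_injective_field [IsNoetherianRing (k ⊗[R₀] S₀)] [Module.Finite S₀ N₁]
    (yκ : Ideal (κ ⊗[R₀] S₀)) [yκ.IsPrime] (hstar : yκ ≤ (yκ.comap (bcMap S₀ k κ).toRingHom).map (bcMap S₀ k κ).toRingHom)
    {K K' : Type u} [AddCommGroup K] [Module R₀ K] [Module k K] [IsScalarTower R₀ k K]
    [AddCommGroup K'] [Module R₀ K'] [Module k K'] [Module κ K'] [IsScalarTower k κ K'] [IsScalarTower R₀ κ K']
    [IsScalarTower R₀ k K']
    (g : K →ₗ[k] K') (hg : Function.Injective g) (z : K ⊗[R₀] N₁)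
    (h : Dead yκ K' ((g.restrictScalars R₀).rTensor N₁ z)) : Dead (yκ.comap (bcMap S₀ k κ).toRingHom) K z := by
  let S := k ⊗[R₀] S₀
  let X := k ⊗[R₀] N₁
  let e : κ ⊗[k] S ≃ₐ[k] κ ⊗[R₀] S₀ := Algebra.TensorProduct.cancelBaseChange R₀ k k κ S₀
  have he : ∀ (r : κ) (q : k) (a : S₀), e (r ⊗ₜ[k] (q ⊗ₜ[R₀] a : S)) = (q • r) ⊗ₜ[R₀] a := fun _ _ _ => rfl
  have hinc : ∀ s : S, e ((1 : κ) ⊗ₜ[k] s) = bcMap S₀ k κ s := by
    intro s
    induction s using TensorProduct.induction_on with
    | zero => simp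
    | add a b ha hb => simp only [tmul_add, map_add, ha, hb]
    | tmul c a => simp [he, bcMap, Algebra.smul_def]
  have : Module.Finite S X := by
    obtain ⟨gens, hgens⟩ := (Module.Finite.fg_top : (⊤ : Submodule S₀ N₁).FG)
    classical
    refine ⟨⟨gens.image fun g => ((1 : k) ⊗ₜ[R₀] g : X), eq_top_iff.2 fun w htop => ?_⟩⟩
    clear htop
    rw [Finset.coe_image]
    induction w using TensorProduct.induction_on with
    | zero => exact zero_mem _
    | add a b ha hb => exact add_mem ha hb
    | tmul c x =>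
      have hx : x ∈ Submodule.span S₀ (gens : Set N₁) := hgens ▸ trivial
      induction hx using Submodule.span_induction with
      | mem v hv =>
        have : (c ⊗ₜ[R₀] v : X) = (c ⊗ₜ[R₀] (1 : S₀) : S) • ((1 : k) ⊗ₜ[R₀] v : X) := by
          show _ = tau k N₁ (c ⊗ₜ[R₀] (1 : S₀)) ((1 : k) ⊗ₜ[R₀] v)
          rw [tau_tmul, smul_eq_mul, mul_one, one_smul]
        rw [this]
        exact Submodule.smul_mem _ _ (Submodule.subset_span ⟨v, hv, rfl⟩)
      | zero => rw [tmul_zero]; exact zero_mem _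
      | add a b _ _ ha hb => rw [tmul_add]; exact add_mem ha hb
      | smul a x _ hx =>
        have : (c ⊗ₜ[R₀] (a • x) : X) = ((1 : k) ⊗ₜ[R₀] a : S) • (c ⊗ₜ[R₀] x : X) := by
          show _ = tau k N₁ ((1 : k) ⊗ₜ[R₀] a) (c ⊗ₜ[R₀] x)
          rw [tau_tmul, one_smul]
        rw [this]
        exact Submodule.smul_mem _ _ hx
  let c : ∀ (L : Type u) [AddCommGroup L] [Module R₀ L] [Module k L] [IsScalarTower R₀ k L],
      L ⊗[k] X ≃ₗ[k] L ⊗[R₀] N₁ := fun L _ _ _ _ => AlgebraTensorModule.cancelBaseChange R₀ k k L N₁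
  have hc : ∀ (L : Type u) [AddCommGroup L] [Module R₀ L] [Module k L] [IsScalarTower R₀ k L] (l : L) (q : k)
      (x : N₁), c L (l ⊗ₜ[k] (q ⊗ₜ[R₀] x : X)) = (q • l) ⊗ₜ[R₀] x := fun _ _ _ _ _ _ _ _ => rfl
  have hlsmul : ∀ (L : Type u) [AddCommGroup L] [Module R₀ L] [Module k L] [IsScalarTower R₀ k L]
      (s : S) (w : L ⊗[k] X),
      c L (((LinearMap.lsmul S X s).restrictScalars k).lTensor L w) = tau L N₁ s (c L w) := by
    intro L _ _ _ _ s w
    induction w using TensorProduct.induction_on with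
    | zero => simp
    | add a b ha hb => simp only [map_add, ha, hb]
    | tmul l x =>
      show c L (l ⊗ₜ[k] tau k N₁ s x) = _
      induction s using TensorProduct.induction_on with
      | zero => simp
      | add a b ha hb => simp only [map_add, LinearMap.add_apply, tmul_add, ha, hb]
      | tmul r a =>
        induction x using TensorProduct.induction_on with
        | zero => simp
        | add a b ha hb => simp only [map_add, tmul_add, ha, hb]
        | tmul q x => rw [tau_tmul, hc, hc, tau_tmul, smul_eq_mul, mul_smul]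
  have htau : ∀ (t : κ ⊗[k] S) (w : K' ⊗[k] X), c K' (tau K' X t w) = tau K' N₁ (e t) (c K' w) := by
    intro t w
    induction t using TensorProduct.induction_on with
    | zero => simp
    | add a b ha hb => simp only [map_add, LinearMap.add_apply, ha, hb]
    | tmul r s =>
      induction w using TensorProduct.induction_on with
      | zero => simp
      | add a b ha hb => simp only [map_add, ha, hb]
      | tmul l x =>
        induction s using TensorProduct.induction_on with
        | zero => simp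
        | add a b ha hb => simp only [map_add, LinearMap.add_apply, tmul_add, ha, hb]
        | tmul q a =>
          induction x using TensorProduct.induction_on with
          | zero => simp
          | add a b ha hb => simp only [map_add, tmul_add, ha, hb]
          | tmul p v =>
            rw [tau_tmul]
            show c K' ((r • l) ⊗ₜ[k] tau k N₁ (q ⊗ₜ[R₀] a) (p ⊗ₜ[R₀] v)) = _
            rw [tau_tmul, smul_eq_mul, hc, hc, he, tau_tmul, ← algebraMap_smul κ (q * p), ← algebraMap_smul κ p l,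
              smul_smul, smul_smul, Algebra.smul_def, map_mul, mul_right_comm]
  let yκ' : Ideal (κ ⊗[k] S) := yκ.comap e.toRingEquiv.toRingHom
  let y₀ : Ideal S := yκ.comap (bcMap S₀ k κ).toRingHom
  let ι := (Algebra.TensorProduct.includeRight (R := k) (A := κ) (B := S)).toRingHom
  have hy₀ : y₀ = yκ'.comap ι := by
    ext s
    show bcMap S₀ k κ s ∈ yκ ↔ e ((1 : κ) ⊗ₜ[k] s) ∈ yκ
    rw [hinc]
  have hstar' : yκ' = y₀.map ι := by
    refine le_antisymm ?_ (Ideal.map_le_iff_le_comap.2 hy₀.le)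
    intro t ht
    have hmap : (y₀.map ι).map e.toRingEquiv.toRingHom = y₀.map (bcMap S₀ k κ).toRingHom := by
      rw [Ideal.map_map]
      congr 1
      exact RingHom.ext hinc
    have h1 : e t ∈ (y₀.map ι).map e.toRingEquiv.toRingHom := hmap ▸ hstar ht
    obtain ⟨t', ht', hee⟩ := (Ideal.mem_map_iff_of_surjective _ e.surjective).1 h1
    exact e.injective hee ▸ ht'
  obtain ⟨t, ht, htz⟩ := h
  let w : K ⊗[k] X := (c K).symm z
  have hnat : c K' (g.rTensor X w) = (g.restrictScalars R₀).rTensor N₁ z := by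
    rw [← (c K).apply_symm_apply z]
    show c K' (g.rTensor X w) = (g.restrictScalars R₀).rTensor N₁ (c K w)
    generalize w = w
    induction w using TensorProduct.induction_on with
    | zero => simp
    | add a b ha hb => simp only [map_add, ha, hb]
    | tmul l x =>
      induction x using TensorProduct.induction_on with
      | zero => simp
      | add a b ha hb => simp only [map_add, tmul_add, ha, hb]
      | tmul q x => rw [LinearMap.rTensor_tmul, hc, hc, LinearMap.rTensor_tmul, LinearMap.coe_restrictScalars, map_smul]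
  obtain ⟨s, hs, hsz⟩ := exists_killed_of_regular yκ' y₀ hstar' hy₀ K' (t := e.symm t)
    (fun h' => ht (by simpa [yκ'] using h')) (g.rTensor X w)
    ((c K').injective (by rw [htau, hnat, AlgEquiv.apply_symm_apply, htz, map_zero]))
  refine ⟨s, hs, ?_⟩
  have h1 : ((LinearMap.lsmul S X s).restrictScalars k).lTensor K w = 0 :=
    Module.Flat.rTensor_preserves_injective_linearMap g hg (by
      rw [map_zero, ← LinearMap.comp_apply, LinearMap.rTensor_comp_lTensor, ← LinearMap.lTensor_comp_rTensor]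
      exact hsz)
  rw [← (c K).apply_symm_apply z, ← hlsmul, h1, map_zero]

end Field

section Core

variable {B : Type u} [CommRing B] [IsLocalRing B] [IsNoetherianRing B] [IsAdicComplete (maximalIdeal B) B]
  [Algebra R₀ B] {R' : Type u} [CommRing R'] [IsLocalRing R'] [Algebra R₀ R'] [Algebra B R'] [IsScalarTower R₀ B R']
  {κ : Type u} [Field κ] [Algebra R₀ κ] [Algebra B κ] [IsScalarTower R₀ B κ] [Algebra R' κ]
  [IsScalarTower R₀ R' κ] [IsScalarTower B R' κ]
  [Algebra (ResidueField B) κ] [IsScalarTower R₀ (ResidueField B) κ] [IsScalarTower B (ResidueField B) κ]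
  {M : Type u} [AddCommGroup M] [Module R₀ M] [Module R' M] [IsScalarTower R₀ R' M]

theorem bcMap_comp {D D' D'' : Type u} [CommRing D] [Algebra R₀ D] [CommRing D'] [Algebra R₀ D'] [CommRing D''] [Algebra R₀ D'']
    [Algebra D D'] [IsScalarTower R₀ D D'] [Algebra D' D''] [IsScalarTower R₀ D' D''] [Algebra D D'']
    [IsScalarTower R₀ D D''] [IsScalarTower D D' D''] (s : D ⊗[R₀] S₀) :
    bcMap S₀ D' D'' (bcMap S₀ D D' s) = bcMap S₀ D D'' s := by
  induction s with
  | zero => simp
  | add a b ha hb => simp only [map_add, ha, hb]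
  | tmul d a => simp [bcMap, ← IsScalarTower.algebraMap_apply D D' D'']

set_option maxHeartbeats 2000000 in
/-- The base change of a finite module to a local algebra over a complete Noetherian local ring is flat at a
point, extended from the closed fibre, at which it maps to a flat module injectively on the fibre. -/
theorem flatPt_of_complete [Algebra.FiniteType R₀ S₀] [Module.Finite S₀ N₁]
    (hπ : Function.Surjective (algebraMap R' κ)) (hker : RingHom.ker (algebraMap R' κ) = maximalIdeal R')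
    (yκ : Ideal (κ ⊗[R₀] S₀)) [yκ.IsPrime]
    (hstar : yκ ≤ (yκ.comap (bcMap S₀ (ResidueField B) κ).toRingHom).map (bcMap S₀ (ResidueField B) κ).toRingHom)
    [Module.Flat R' M] (u : N₁ →ₗ[R₀] M)
    (h : ∀ w : κ ⊗[R₀] N₁, uMap R' u κ w = 0 → Dead (yκ.comap (bcMap S₀ R' κ).toRingHom) κ w) :
    FlatPt N₁ (yκ.comap (bcMap S₀ R' κ).toRingHom) := by
  classical
  set yR := yκ.comap (bcMap S₀ R' κ).toRingHom with hyR
  set yB := yκ.comap (bcMap S₀ B κ).toRingHom with hyB
  have : yR.IsPrime := Ideal.IsPrime.comap _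
  have : yB.IsPrime := Ideal.IsPrime.comap _
  have hBR : yB = yR.comap (bcMap S₀ B R').toRingHom := by
    ext s
    show bcMap S₀ B κ s ∈ yκ ↔ bcMap S₀ R' κ (bcMap S₀ B R' s) ∈ yκ
    rw [bcMap_comp]
  have : IsNoetherianRing (B ⊗[R₀] S₀) := Algebra.FiniteType.isNoetherianRing B _
  have : IsNoetherianRing (ResidueField B ⊗[R₀] S₀) := Algebra.FiniteType.isNoetherianRing (ResidueField B) _
  have : Module.Finite (B ⊗[R₀] S₀) (B ⊗[R₀] N₁) := by
    obtain ⟨gens, hgens⟩ := (Module.Finite.fg_top : (⊤ : Submodule S₀ N₁).FG)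
    refine ⟨⟨gens.image fun g => ((1 : B) ⊗ₜ[R₀] g : B ⊗[R₀] N₁), eq_top_iff.2 fun w htop => ?_⟩⟩
    clear htop
    rw [Finset.coe_image]
    induction w using TensorProduct.induction_on with
    | zero => exact zero_mem _
    | add a b ha hb => exact add_mem ha hb
    | tmul c x =>
      have hx : x ∈ Submodule.span S₀ (gens : Set N₁) := hgens ▸ trivial
      induction hx using Submodule.span_induction with
      | mem v hv =>
        have : (c ⊗ₜ[R₀] v : B ⊗[R₀] N₁) = (c ⊗ₜ[R₀] (1 : S₀) : B ⊗[R₀] S₀) • ((1 : B) ⊗ₜ[R₀] v : B ⊗[R₀] N₁) := by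
          show _ = tau B N₁ (c ⊗ₜ[R₀] (1 : S₀)) ((1 : B) ⊗ₜ[R₀] v)
          rw [tau_tmul, smul_eq_mul, mul_one, one_smul]
        rw [this]
        exact Submodule.smul_mem _ _ (Submodule.subset_span ⟨v, hv, rfl⟩)
      | zero => rw [tmul_zero]; exact zero_mem _
      | add a b _ _ ha hb => rw [tmul_add]; exact add_mem ha hb
      | smul a x _ hx =>
        have : (c ⊗ₜ[R₀] (a • x) : B ⊗[R₀] N₁) = ((1 : B) ⊗ₜ[R₀] a : B ⊗[R₀] S₀) • (c ⊗ₜ[R₀] x : B ⊗[R₀] N₁) := by
          show _ = tau B N₁ ((1 : B) ⊗ₜ[R₀] a) (c ⊗ₜ[R₀] x)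
          rw [tau_tmul, one_smul]
        rw [this]
        exact Submodule.smul_mem _ _ hx
  let E := EPt N₁ yB
  let Loc := Localization.AtPrime yB
  have hmB : ∀ b ∈ maximalIdeal B, algebraMap B κ b = 0 := fun b hb => by
    rw [IsScalarTower.algebraMap_apply B (ResidueField B) κ, ResidueField.algebraMap_eq, (residue_eq_zero_iff b).2 hb,
      map_zero]
  have hjac : (maximalIdeal B).map (algebraMap B Loc) ≤ Ideal.jacobson ⊥ := by
    refine (Ideal.map_le_iff_le_comap.2 fun b hb => ?_).trans (maximalIdeal_le_jacobson _)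
    rw [Ideal.mem_comap, IsScalarTower.algebraMap_apply B (B ⊗[R₀] S₀) Loc,
      IsLocalization.AtPrime.to_map_mem_maximal_iff Loc yB, hyB, Ideal.mem_comap]
    show bcMap S₀ B κ (b ⊗ₜ[R₀] (1 : S₀)) ∈ yκ
    simp [bcMap, hmB b hb]
  obtain ⟨F, hFm, hF, hmin⟩ := exists_minimal_flattening E Loc hjac
  let F' : Ideal R' := F.map (algebraMap B R')
  by_cases hF0 : F' = ⊥
  · refine flatPt_of_flat_baseChange yB yR hBR (flat_baseChange_of_flatMod hF R' fun b hb => ?_)
    exact (Submodule.mem_bot R').1 (hF0 ▸ Ideal.mem_map_of_mem (algebraMap B R') hb)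
  exfalso
  have hm' : ∀ b ∈ maximalIdeal B, algebraMap B R' b ∈ maximalIdeal R' := fun b hb => by
    rw [← hker, RingHom.mem_ker, ← IsScalarTower.algebraMap_apply B R' κ, hmB b hb]
  let J : Ideal R' := maximalIdeal R' * F'
  have hFfg : F'.FG := Ideal.FG.map (IsNoetherian.noetherian F) _
  have hnle : ¬ F' ≤ J := fun hle =>
    hF0 (Submodule.eq_bot_of_le_smul_of_le_jacobson_bot (maximalIdeal R') F' hFfg hle (maximalIdeal_le_jacobson _))
  let J₁ : Ideal B := F ⊓ J.comap (algebraMap B R')
  have hmF : maximalIdeal B * F ≤ J₁ := le_inf Ideal.mul_le_right (Ideal.mul_le.2 fun b hb f hf => by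
    rw [Ideal.mem_comap, map_mul]
    exact Ideal.mul_mem_mul (hm' b hb) (Ideal.mem_map_of_mem _ hf))
  obtain ⟨c, hc⟩ := Ideal.exists_pow_inf_eq_pow_smul (maximalIdeal B) (F : Submodule B B)
  have hk : F ⊓ maximalIdeal B ^ (c + 1) ≤ J₁ := by
    intro x hx
    have h1 : x ∈ maximalIdeal B ^ (c + 1) • (⊤ : Submodule B B) ⊓ F :=
      ⟨by simpa using hx.2, hx.1⟩
    rw [hc (c + 1) (Nat.le_succ c), Nat.add_sub_cancel_left, pow_one] at h1
    exact hmF (Submodule.smul_mono le_rfl inf_le_right h1)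
  suffices hflat : FlatMod E J₁ by
    have heq := hmin J₁ (c + 1) inf_le_left hk (hflat.mono le_sup_left)
    refine hnle (Ideal.map_le_iff_le_comap.2 ?_)
    exact heq.ge.trans inf_le_right
  -- flatness modulo `J₁`
  obtain ⟨_, _, _, _, _⟩ := quotient_setting E Loc J₁
  let I : Ideal (B ⧸ J₁) := F.map (Ideal.Quotient.mk J₁)
  have hK : LocalCrit.KeepsInjective I ((B ⧸ J₁) ⊗[B] E) := by
    have : Module.Flat ((B ⧸ J₁) ⧸ I) (((B ⧸ J₁) ⧸ I) ⊗[B] E) := by
      refine flat_baseChange_of_flatMod hF _ fun b hb => ?_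
      rw [RingHom.mem_ker, IsScalarTower.algebraMap_apply B (B ⧸ J₁) ((B ⧸ J₁) ⧸ I), Ideal.Quotient.algebraMap_eq,
        Ideal.Quotient.algebraMap_eq, Ideal.Quotient.eq_zero_iff_mem]
      exact Ideal.mem_map_of_mem _ hb
    have : Module.Flat ((B ⧸ J₁) ⧸ I) (((B ⧸ J₁) ⧸ I) ⊗[B ⧸ J₁] ((B ⧸ J₁) ⊗[B] E)) :=
      Module.Flat.of_linearEquiv
        (AlgebraTensorModule.cancelBaseChange B (B ⧸ J₁) ((B ⧸ J₁) ⧸ I) ((B ⧸ J₁) ⧸ I) E)
    exact LocalCrit.keepsInjective_of_flat _ _
  refine LocalCrit.flat_of_le_jacobson (B := (B ⧸ J₁) ⊗[B] Loc) I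
    (map_le_jacobson (Loc := Loc) J₁ F (maximalIdeal B) hFm hjac) ?_ hK
  -- `I ⊗ E → E` is injective
  let incl : I →ₗ[B] B ⧸ J₁ := I.subtype.restrictScalars B
  have hdead : ∀ z : I ⊗[R₀] N₁, (incl.restrictScalars R₀).rTensor N₁ z = 0 → Dead yB I z := by
    intro z hz
    let I'' : Submodule R' (R' ⧸ J) := Submodule.map J.mkQ F'
    have hgJ : J₁ ≤ J.comap (algebraMap B R') := inf_le_right
    let gb : (B ⧸ J₁) →ₗ[B] R' ⧸ J := Submodule.mapQ J₁ (J.restrictScalars B) (Algebra.linearMap B R') hgJ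
    have hIm : ∀ x : I, ∃ f ∈ F, (x : B ⧸ J₁) = Ideal.Quotient.mk J₁ f := fun x => by
      obtain ⟨f, hf, hfx⟩ := (Ideal.mem_map_iff_of_surjective _ Ideal.Quotient.mk_surjective).1 x.2
      exact ⟨f, hf, hfx.symm⟩
    have hgI : ∀ x : I, gb x ∈ I'' := fun x => by
      obtain ⟨f, hf, hfx⟩ := hIm x
      rw [hfx]
      exact Submodule.mem_map_of_mem (Ideal.mem_map_of_mem _ hf)
    let g : I →ₗ[B] I'' :=
      { toFun := fun x => ⟨gb x, hgI x⟩
        map_add' := fun x y => Subtype.ext (map_add gb _ _)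
        map_smul' := fun b x => Subtype.ext (map_smul gb b (x : B ⧸ J₁)) }
    have hg : Function.Injective g := by
      rw [injective_iff_map_eq_zero]
      intro x hx
      obtain ⟨f, hf, hfx⟩ := hIm x
      have h0 : gb x = 0 := congrArg Subtype.val hx
      rw [hfx] at h0
      apply Subtype.ext
      rw [hfx, ZeroMemClass.coe_zero, Ideal.Quotient.eq_zero_iff_mem]
      exact ⟨hf, (Submodule.Quotient.mk_eq_zero J).1 h0⟩
    -- the structures of vector spaces
    have hI : Module.IsTorsionBySet B I (maximalIdeal B : Set B) := by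
      rintro x ⟨b, hb⟩
      obtain ⟨f, hf, hfx⟩ := hIm x
      apply Subtype.ext
      show b • (x : B ⧸ J₁) = 0
      rw [hfx]
      exact Ideal.Quotient.eq_zero_iff_mem.2 (hmF (Ideal.mul_mem_mul hb hf))
    let : Module (ResidueField B) I := hI.module
    have : IsScalarTower B (ResidueField B) I := hI.isScalarTower
    have hI'' : Module.IsTorsionBySet R' I'' (maximalIdeal R' : Set R') := by
      rintro ⟨x, hx⟩ ⟨a, ha⟩
      obtain ⟨f, hf, rfl⟩ := Submodule.mem_map.1 hx
      apply Subtype.ext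
      show a • J.mkQ f = 0
      rw [← map_smul, Submodule.mkQ_apply, Submodule.Quotient.mk_eq_zero]
      exact Ideal.mul_mem_mul ha hf
    let : Module (R' ⧸ maximalIdeal R') I'' := hI''.module
    let eκ : κ ≃+* R' ⧸ maximalIdeal R' :=
      (RingHom.quotientKerEquivOfSurjective hπ).symm.trans (Ideal.quotEquivOfEq hker)
    let : Module κ I'' := Module.compHom I'' eκ.toRingHom
    have heκ : ∀ a : R', eκ (algebraMap R' κ a) = Ideal.Quotient.mk _ a := fun a => by
      show Ideal.quotEquivOfEq hker ((RingHom.quotientKerEquivOfSurjective hπ).symm (algebraMap R' κ a)) = _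
      rw [show (RingHom.quotientKerEquivOfSurjective hπ).symm (algebraMap R' κ a) = Ideal.Quotient.mk _ a from
        (RingEquiv.symm_apply_eq _).2 rfl]
      rfl
    have : IsScalarTower R' κ I'' := .of_algebraMap_smul fun a x => by
      show eκ (algebraMap R' κ a) • x = a • x
      rw [heκ]
      rfl
    let : Module (ResidueField B) I'' := Module.compHom I'' (algebraMap (ResidueField B) κ)
    have : IsScalarTower (ResidueField B) κ I'' := .of_algebraMap_smul fun _ _ => rfl
    have : IsScalarTower R₀ κ I'' := .of_algebraMap_smul fun r x => by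
      rw [IsScalarTower.algebraMap_apply R₀ R' κ, algebraMap_smul, algebraMap_smul]
    have : IsScalarTower R₀ (ResidueField B) I'' := .of_algebraMap_smul fun r x => by
      show algebraMap (ResidueField B) κ (algebraMap R₀ (ResidueField B) r) • x = r • x
      rw [← IsScalarTower.algebraMap_apply, algebraMap_smul]
    have : IsScalarTower R₀ (ResidueField B) I := .of_algebraMap_smul fun r x => by
      rw [IsScalarTower.algebraMap_apply R₀ B (ResidueField B), algebraMap_smul, algebraMap_smul]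
    let gk : I →ₗ[ResidueField B] I'' :=
      { toFun := g
        map_add' := g.map_add
        map_smul' := fun q x => by
          obtain ⟨b, rfl⟩ := residue_surjective q
          show g (algebraMap B (ResidueField B) b • x) = algebraMap (ResidueField B) κ (algebraMap B (ResidueField B) b) • g x
          rw [← IsScalarTower.algebraMap_apply, IsScalarTower.algebraMap_apply B R' κ, algebraMap_smul,
            algebraMap_smul, map_smul, algebraMap_smul] }
    -- the image of `z` dies at the point of `R'`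
    let gz := (g.restrictScalars R₀).rTensor N₁ z
    have hu : uMap R' u I'' gz = 0 := by
      apply Module.Flat.rTensor_preserves_injective_linearMap (M := M) I''.subtype Subtype.val_injective
      rw [map_zero, ← uMap_naturality]
      have : (I''.subtype.restrictScalars R₀).rTensor N₁ gz =
          (gb.restrictScalars R₀).rTensor N₁ ((incl.restrictScalars R₀).rTensor N₁ z) := by
        rw [← LinearMap.rTensor_comp_apply, ← LinearMap.rTensor_comp_apply]
        rfl
      rw [this, hz, map_zero, map_zero]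
    obtain ⟨t, ht, htz⟩ := dead_of_fibre u yR h gz hu
    have htκ : Dead yκ I'' gz := ⟨bcMap S₀ R' κ t, ht, by rw [tau_bcMap, htz]⟩
    obtain ⟨s, hs, hsz⟩ := dead_of_injective_field yκ hstar gk hg z htκ
    obtain ⟨s', rfl⟩ : ∃ s', bcMap S₀ B (ResidueField B) s' = s := by
      clear hs hsz
      induction s using TensorProduct.induction_on with
      | zero => exact ⟨0, map_zero _⟩
      | add a b ha hb =>
        obtain ⟨a, rfl⟩ := ha; obtain ⟨b, rfl⟩ := hb
        exact ⟨a + b, map_add _ _ _⟩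
      | tmul q a =>
        obtain ⟨b, rfl⟩ := residue_surjective q
        exact ⟨b ⊗ₜ a, rfl⟩
    refine ⟨s', fun h' => hs ?_, by rwa [tau_bcMap] at hsz⟩
    show bcMap S₀ (ResidueField B) κ (bcMap S₀ B (ResidueField B) s') ∈ yκ
    rw [bcMap_comp]
    exact h'
  have hinj : Function.Injective (incl.lTensor E) := by
    let : AddCommGroup (E ⊗[B] I) := Module.addCommMonoidToAddCommGroup B
    let : AddCommGroup (E ⊗[B] (B ⧸ J₁)) := Module.addCommMonoidToAddCommGroup B
    rw [injective_iff_map_eq_zero]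
    intro v hv
    obtain ⟨s₁, hs₁, z, hz⟩ := exists_smul_eq_kmap (N₁ := N₁) (K := I) yB v
    have h0 : kmap N₁ yB (B ⧸ J₁) ((incl.restrictScalars R₀).rTensor N₁ z) = 0 := by
      rw [← kmap_naturality, ← hz]
      have : ∀ w, incl.lTensor E (s₁ • w) = s₁ • incl.lTensor E w := fun w =>
        (AlgebraTensorModule.lTensor (B ⊗[R₀] S₀) E incl).map_smul s₁ w
      rw [this, hv, smul_zero]
    obtain ⟨s₂, hs₂, hz₂⟩ := (kmap_eq_zero_iff yB _).1 h0
    obtain ⟨s₃, hs₃, hz₃⟩ := hdead (tau I N₁ s₂ z) (by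
      rw [tau_rTensor, hz₂])
    have hzero : (s₃ * s₂ * s₁) • v = 0 := by
      rw [mul_smul, hz, ← kmap_tau, tau_mul, hz₃, map_zero]
    have hu : IsUnit (algebraMap (B ⊗[R₀] S₀) Loc (s₃ * s₂ * s₁)) :=
      IsLocalization.map_units _ (⟨s₃, hs₃⟩ * ⟨s₂, hs₂⟩ * ⟨s₁, hs₁⟩ : yB.primeCompl)
    rw [← algebraMap_smul Loc, hu.smul_eq_zero] at hzero
    exact hzero
  let eI : I ⊗[B ⧸ J₁] ((B ⧸ J₁) ⊗[B] E) ≃ₗ[B ⧸ J₁] I ⊗[B] E := AlgebraTensorModule.cancelBaseChange B (B ⧸ J₁) (B ⧸ J₁) I E
  let eR : (B ⧸ J₁) ⊗[B ⧸ J₁] ((B ⧸ J₁) ⊗[B] E) ≃ₗ[B ⧸ J₁] (B ⧸ J₁) ⊗[B] E :=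
    AlgebraTensorModule.cancelBaseChange B (B ⧸ J₁) (B ⧸ J₁) (B ⧸ J₁) E
  have key : ∀ w, TensorProduct.comm B (B ⧸ J₁) E (eR (I.subtype.rTensor ((B ⧸ J₁) ⊗[B] E) w)) =
      incl.lTensor E (TensorProduct.comm B I E (eI w)) := by
    intro w
    induction w using TensorProduct.induction_on with
    | zero => simp
    | add a b ha hb => simp only [map_add, ha, hb]
    | tmul i v =>
      induction v using TensorProduct.induction_on with
      | zero => simp
      | add a b ha hb => simp only [tmul_add, map_add, ha, hb]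
      | tmul d x => simp [eI, eR, incl]
  intro a b hab
  apply eI.injective
  apply (TensorProduct.comm B I E).injective
  apply hinj
  rw [← key, ← key, hab]

end Core

end Groth.Agent.RGCore
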