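import Groth.Agent.RGCore.Specialize
import Groth.Agent.FlatModel.Local

/-!
Flatness at a point of the base changes of a module `N₁` over an algebra `S₀` along `R₀ → D`, formulated
with `K ⊗ N₁` for `D`-modules `K`.
-/

set_option autoImplicit false
set_option linter.unusedSectionVars false

universe u

open TensorProduct

namespace Groth.Agent.RGCore

variable {R₀ S₀ : Type u} [CommRing R₀] [CommRing S₀] [Algebra R₀ S₀]
  {N₁ : Type u} [AddCommGroup N₁] [Module R₀ N₁] [Module S₀ N₁] [IsScalarTower R₀ S₀ N₁]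

section Basic

variable {D : Type u} [CommRing D] [Algebra R₀ D]

variable (D N₁) in
/-- The module `D ⊗ N₁` over `D ⊗ S₀`. -/
noncomputable abbrev bcModule : Module (D ⊗[R₀] S₀) (D ⊗[R₀] N₁) := tauModule D N₁

attribute [local instance] bcModule

instance bcTower : IsScalarTower D (D ⊗[R₀] S₀) (D ⊗[R₀] N₁) :=
  .of_algebraMap_smul fun d z => by
    show tau D N₁ (algebraMap D (D ⊗[R₀] S₀) d) z = d • z
    induction z with
    | zero => simp
    | add a b ha hb => simp only [map_add, smul_add, ha, hb]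
    | tmul k x => simp [tau_tmul, smul_tmul', Algebra.TensorProduct.algebraMap_apply]

variable (yD : Ideal (D ⊗[R₀] S₀))

/-- An element of `K ⊗ N₁` vanishes at the point. -/
def Dead (K : Type u) [AddCommGroup K] [Module R₀ K] [Module D K] [IsScalarTower R₀ D K]
    (z : K ⊗[R₀] N₁) : Prop :=
  ∃ s : D ⊗[R₀] S₀, s ∉ yD ∧ tau K N₁ s z = 0

variable (N₁) in
/-- `D ⊗ N₁` is flat over `D` at the point. -/
def FlatPt : Prop :=
  ∀ (J : Ideal D) (z : J ⊗[R₀] N₁), (J.subtype.restrictScalars R₀).rTensor N₁ z = 0 → Dead yD J z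

variable (N₁) in
/-- `K ⊗ N₁` as a tensor product over `D`. -/
noncomputable def psi (K : Type u) [AddCommGroup K] [Module R₀ K] [Module D K] [IsScalarTower R₀ D K] :
    K ⊗[R₀] N₁ ≃ₗ[D] (D ⊗[R₀] N₁) ⊗[D] K :=
  (AlgebraTensorModule.cancelBaseChange R₀ D D K N₁).symm ≪≫ₗ TensorProduct.comm D K (D ⊗[R₀] N₁)

variable {K : Type u} [AddCommGroup K] [Module R₀ K] [Module D K] [IsScalarTower R₀ D K]

theorem psi_tmul (k : K) (x : N₁) : psi (D := D) N₁ K (k ⊗ₜ[R₀] x) = ((1 : D) ⊗ₜ[R₀] x) ⊗ₜ[D] k := by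
  simp [psi]

theorem psi_tau (s : D ⊗[R₀] S₀) (z : K ⊗[R₀] N₁) : psi (D := D) N₁ K (tau K N₁ s z) = s • psi (D := D) N₁ K z := by
  induction z with
  | zero => simp
  | add a b ha hb => simp only [map_add, smul_add, ha, hb]
  | tmul k x =>
    induction s using TensorProduct.induction_on with
    | zero => simp
    | add a b ha hb => simp only [map_add, LinearMap.add_apply, add_smul, ha, hb]
    | tmul d a =>
      rw [tau_tmul, psi_tmul, psi_tmul, TensorProduct.smul_tmul']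
      show _ = (tau D N₁ (d ⊗ₜ[R₀] a) ((1 : D) ⊗ₜ[R₀] x)) ⊗ₜ[D] k
      rw [tau_tmul, smul_eq_mul, mul_one, ← smul_tmul, TensorProduct.smul_tmul', smul_eq_mul, mul_one]

variable [yD.IsPrime]

variable (N₁) in
/-- `D ⊗ N₁` localised at the point. -/
abbrev EPt : Type u := LocalizedModule yD.primeCompl (D ⊗[R₀] N₁)

variable (N₁ K) in
/-- `K ⊗ N₁ → E ⊗ K`. -/
noncomputable def kmap : K ⊗[R₀] N₁ →ₗ[D] EPt N₁ yD ⊗[D] K :=
  (AlgebraTensorModule.rTensor (A := D ⊗[R₀] S₀) D K
    (LocalizedModule.mkLinearMap yD.primeCompl (D ⊗[R₀] N₁))).restrictScalars D ∘ₗ (psi N₁ K).toLinearMap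

theorem kmap_tau (s : D ⊗[R₀] S₀) (z : K ⊗[R₀] N₁) : kmap N₁ yD K (tau K N₁ s z) = s • kmap N₁ yD K z := by
  simp only [kmap, LinearMap.comp_apply, LinearEquiv.coe_coe, psi_tau, LinearMap.coe_restrictScalars, map_smul]

theorem kmap_eq_zero_iff (z : K ⊗[R₀] N₁) : kmap N₁ yD K z = 0 ↔ Dead yD K z := by
  simp only [kmap, LinearMap.comp_apply, LinearEquiv.coe_coe, LinearMap.coe_restrictScalars]
  rw [IsLocalizedModule.eq_zero_iff yD.primeCompl
    (AlgebraTensorModule.rTensor (A := D ⊗[R₀] S₀) D K (LocalizedModule.mkLinearMap yD.primeCompl (D ⊗[R₀] N₁)))]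
  constructor
  · rintro ⟨s, hs⟩
    exact ⟨s, s.2, (psi N₁ K).injective (by rw [psi_tau, map_zero]; exact hs)⟩
  · rintro ⟨s, hs, h⟩
    exact ⟨⟨s, hs⟩, by
      show s • psi (D := D) N₁ K z = 0
      rw [← psi_tau, h, map_zero]⟩

theorem exists_smul_eq_kmap (v : EPt N₁ yD ⊗[D] K) : ∃ s ∉ yD, ∃ z, s • v = kmap N₁ yD K z := by
  obtain ⟨⟨w, s⟩, h⟩ := IsLocalizedModule.surj yD.primeCompl
    (AlgebraTensorModule.rTensor (A := D ⊗[R₀] S₀) D K (LocalizedModule.mkLinearMap yD.primeCompl (D ⊗[R₀] N₁))) v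
  refine ⟨s, s.2, (psi N₁ K).symm w, ?_⟩
  simp only [kmap, LinearMap.comp_apply, LinearEquiv.coe_coe, LinearEquiv.apply_symm_apply,
    LinearMap.coe_restrictScalars]
  exact h

theorem kmap_naturality {K' : Type u} [AddCommGroup K'] [Module R₀ K'] [Module D K'] [IsScalarTower R₀ D K']
    (g : K →ₗ[D] K') (z : K ⊗[R₀] N₁) :
    g.lTensor (EPt N₁ yD) (kmap N₁ yD K z) = kmap N₁ yD K' ((g.restrictScalars R₀).rTensor N₁ z) := by
  induction z with
  | zero => simp
  | add a b ha hb => simp only [map_add, ha, hb]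
  | tmul k x => simp [kmap, psi_tmul]

/-- `FlatPt` is flatness of the localised base change. -/
theorem flatPt_iff : FlatPt N₁ yD ↔ Module.Flat D (EPt N₁ yD) := by
  refine Iff.trans ?_ (FlatModel.flat_localized_iff (N := EPt N₁ yD) yD.primeCompl
    (LocalizedModule.mkLinearMap yD.primeCompl (D ⊗[R₀] N₁))).symm
  have hnat : ∀ (J : Ideal D) (z : J ⊗[R₀] N₁),
      J.subtype.lTensor (D ⊗[R₀] N₁) (psi (D := D) N₁ J z) = psi (D := D) N₁ D ((J.subtype.restrictScalars R₀).rTensor N₁ z) := by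
    intro J z
    induction z with
    | zero => simp
    | add a b ha hb => simp only [map_add, ha, hb]
    | tmul k x => simp [psi_tmul]
  refine forall_congr' fun J => ⟨fun h y hy => ?_, fun h z hz => ?_⟩
  · obtain ⟨z, rfl⟩ := (psi (D := D) N₁ J).surjective y
    obtain ⟨s, hs, hsz⟩ := h z ((psi (D := D) N₁ D).injective (by rw [← hnat, hy, map_zero]))
    exact ⟨s, hs, by rw [← psi_tau, hsz, map_zero]⟩
  · obtain ⟨s, hs, hsz⟩ := h (psi (D := D) N₁ J z) (by rw [hnat, hz, map_zero])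
    exact ⟨s, hs, (psi (D := D) N₁ J).injective (by rw [psi_tau, hsz, map_zero])⟩

end Basic

section Change

variable {D : Type u} [CommRing D] [Algebra R₀ D] {D' : Type u} [CommRing D'] [Algebra R₀ D'] [Algebra D D']
  [IsScalarTower R₀ D D']

attribute [local instance] bcModule

variable (S₀ D D') in
/-- `D ⊗ S₀ → D' ⊗ S₀`. -/
noncomputable abbrev bcMap : D ⊗[R₀] S₀ →ₐ[R₀] D' ⊗[R₀] S₀ :=
  Algebra.TensorProduct.map (IsScalarTower.toAlgHom R₀ D D') (AlgHom.id R₀ S₀)

theorem tau_bcMap {K : Type u} [AddCommGroup K] [Module R₀ K] [Module D K] [IsScalarTower R₀ D K] [Module D' K]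
    [IsScalarTower R₀ D' K] [IsScalarTower D D' K] (s : D ⊗[R₀] S₀) (z : K ⊗[R₀] N₁) :
    tau K N₁ (bcMap S₀ D D' s) z = tau K N₁ s z := by
  induction s with
  | zero => simp
  | add a b ha hb => simp only [map_add, LinearMap.add_apply, ha, hb]
  | tmul d a =>
    induction z with
    | zero => simp
    | add x y hx hy => simp only [map_add, hx, hy]
    | tmul k x => simp [tau_tmul]

/-- Base change of flatness at a point. -/
theorem flatPt_of_flat_baseChange (yD : Ideal (D ⊗[R₀] S₀)) [yD.IsPrime] (yD' : Ideal (D' ⊗[R₀] S₀))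
    (h : yD = yD'.comap (bcMap S₀ D D').toRingHom) (hflat : Module.Flat D' (D' ⊗[D] EPt N₁ yD)) :
    FlatPt N₁ yD' := by
  intro J z hz
  let E := EPt N₁ yD
  let f : J →ₗ[D] D' := J.subtype.restrictScalars D
  have hinj : Function.Injective (f.rTensor E) := by
    let e₁ : J ⊗[D'] (D' ⊗[D] E) ≃ₗ[D'] J ⊗[D] E := AlgebraTensorModule.cancelBaseChange D D' D' J E
    let e₂ : D' ⊗[D'] (D' ⊗[D] E) ≃ₗ[D'] D' ⊗[D] E := AlgebraTensorModule.cancelBaseChange D D' D' D' E
    have key : ∀ w, e₂ (J.subtype.rTensor (D' ⊗[D] E) w) = f.rTensor E (e₁ w) := by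
      intro w
      induction w with
      | zero => simp
      | add a b ha hb => simp only [map_add, ha, hb]
      | tmul j v =>
        induction v with
        | zero => simp
        | add a b ha hb => simp only [tmul_add, map_add, ha, hb]
        | tmul d x => simp [e₁, e₂, f]
    intro a b hab
    obtain ⟨a, rfl⟩ := e₁.surjective a
    obtain ⟨b, rfl⟩ := e₁.surjective b
    rw [← key, ← key] at hab
    exact congrArg e₁ (Module.Flat.rTensor_preserves_injective_linearMap (M := D' ⊗[D] E) J.subtype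
      Subtype.val_injective (e₂.injective hab))
  have hinj' : Function.Injective (f.lTensor E) := by
    intro a b hab
    apply (TensorProduct.comm D E J).injective
    apply hinj
    have : ∀ w, f.rTensor E (TensorProduct.comm D E J w) = TensorProduct.comm D E D' (f.lTensor E w) := by
      intro w
      induction w with
      | zero => simp
      | add a b ha hb => simp only [map_add, ha, hb]
      | tmul e j => simp
    rw [this, this, hab]
  have h0 : kmap N₁ yD J z = 0 := by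
    apply hinj'
    rw [kmap_naturality, map_zero, show (f.restrictScalars R₀) = J.subtype.restrictScalars R₀ from rfl, hz, map_zero]
  obtain ⟨s, hs, hsz⟩ := (kmap_eq_zero_iff yD z).1 h0
  refine ⟨bcMap S₀ D D' s, fun h' => hs (h ▸ h'), ?_⟩
  rw [tau_bcMap, hsz]

variable (D') in
/-- `K ⊗ N₁ → (D' ⊗ K) ⊗ N₁`. -/
noncomputable def bcInc (K : Type u) [AddCommGroup K] [Module R₀ K] [Module D K] [IsScalarTower R₀ D K] :
    K →ₗ[R₀] D' ⊗[D] K :=
  (TensorProduct.mk D D' K 1).restrictScalars R₀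

theorem assoc_tau_bcInc {K : Type u} [AddCommGroup K] [Module R₀ K] [Module D K] [IsScalarTower R₀ D K]
    (d : D') (a : S₀) (z : K ⊗[R₀] N₁) :
    (AlgebraTensorModule.assoc R₀ D D D' K N₁) (tau (D' ⊗[D] K) N₁ (d ⊗ₜ[R₀] a) ((bcInc D' K).rTensor N₁ z)) =
      d ⊗ₜ[D] tau K N₁ ((1 : D) ⊗ₜ[R₀] a) z := by
  induction z with
  | zero => simp
  | add x y hx hy => simp only [map_add, tmul_add, hx, hy]
  | tmul j x => simp [bcInc, tau_tmul, smul_tmul']

/-- An element which vanishes at the point after a flat extension vanishes at the point. -/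
theorem dead_of_baseChange [Module.Flat D D'] (yD : Ideal (D ⊗[R₀] S₀)) (yD' : Ideal (D' ⊗[R₀] S₀))
    {κ : Type u} [CommRing κ] [Algebra R₀ κ] (π : D' →ₐ[R₀] κ) (yκ : Ideal (κ ⊗[R₀] S₀))
    (hD' : yD' = yκ.comap (Algebra.TensorProduct.map π (AlgHom.id R₀ S₀)).toRingHom)
    (hD : yD = yD'.comap (bcMap S₀ D D').toRingHom)
    {K : Type u} [AddCommGroup K] [Module R₀ K] [Module D K] [IsScalarTower R₀ D K] (z : K ⊗[R₀] N₁)
    (h : Dead yD' (D' ⊗[D] K) ((bcInc D' K).rTensor N₁ z)) : Dead yD K z := by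
  obtain ⟨s', hs', hs'z⟩ := h
  by_contra hne
  let : Module (D ⊗[R₀] S₀) (K ⊗[R₀] N₁) := tauModule K N₁
  have : IsScalarTower D (D ⊗[R₀] S₀) (K ⊗[R₀] N₁) := .of_algebraMap_smul fun d w => by
    show tau K N₁ (algebraMap D (D ⊗[R₀] S₀) d) w = d • w
    induction w with
    | zero => simp
    | add a b ha hb => simp only [map_add, smul_add, ha, hb]
    | tmul k x => simp [tau_tmul, smul_tmul', Algebra.TensorProduct.algebraMap_apply]
  let c : Ideal (D ⊗[R₀] S₀) := LinearMap.ker (LinearMap.toSpanSingleton (D ⊗[R₀] S₀) (K ⊗[R₀] N₁) z)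
  have hc : c ≤ yD := fun s hs => by
    by_contra hsy
    exact hne ⟨s, hsy, hs⟩
  let f : ((D ⊗[R₀] S₀) ⧸ c) →ₗ[D ⊗[R₀] S₀] K ⊗[R₀] N₁ :=
    Submodule.liftQ c (LinearMap.toSpanSingleton (D ⊗[R₀] S₀) (K ⊗[R₀] N₁) z) fun _ h => h
  have hf : Function.Injective f := by
    rw [injective_iff_map_eq_zero]
    intro a ha
    obtain ⟨a, rfl⟩ := Submodule.Quotient.mk_surjective c a
    exact (Submodule.Quotient.mk_eq_zero c).2 ha
  let g : ((D ⊗[R₀] S₀) ⧸ c) →ₗ[D] K ⊗[R₀] N₁ := f.restrictScalars D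
  have hg : Function.Injective g := hf
  have hG : Function.Injective (g.lTensor D') := Module.Flat.lTensor_preserves_injective_linearMap g hg
  let eps : D' ⊗[R₀] S₀ →ₗ[R₀] D' ⊗[D] ((D ⊗[R₀] S₀) ⧸ c) := TensorProduct.lift <|
    LinearMap.mk₂ R₀ (fun d a => d ⊗ₜ[D] Submodule.Quotient.mk ((1 : D) ⊗ₜ[R₀] a))
      (fun d d' a => add_tmul _ _ _) (fun r d a => by rw [TensorProduct.smul_tmul'])
      (fun d a a' => by rw [tmul_add, Submodule.Quotient.mk_add, tmul_add])
      (fun r d a => by rw [tmul_smul, Submodule.Quotient.mk_smul, tmul_smul])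
  have heps : ∀ t : D' ⊗[R₀] S₀, g.lTensor D' (eps t) =
      (AlgebraTensorModule.assoc R₀ D D D' K N₁) (tau (D' ⊗[D] K) N₁ t ((bcInc D' K).rTensor N₁ z)) := by
    intro t
    induction t with
    | zero => simp
    | add a b ha hb => simp only [map_add, LinearMap.add_apply, ha, hb]
    | tmul d a => exact (assoc_tau_bcInc d a z).symm
  have h0 : eps s' = 0 := hG (by rw [heps, hs'z, map_zero, map_zero])
  let πD : D →ₐ[R₀] κ := π.comp (IsScalarTower.toAlgHom R₀ D D')
  let pr : D ⊗[R₀] S₀ →+* (κ ⊗[R₀] S₀) ⧸ yκ :=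
    (Ideal.Quotient.mk yκ).comp (Algebra.TensorProduct.map πD (AlgHom.id R₀ S₀)).toRingHom
  have hcomp : Algebra.TensorProduct.map πD (AlgHom.id R₀ S₀) =
      (Algebra.TensorProduct.map π (AlgHom.id R₀ S₀)).comp (bcMap S₀ D D') :=
    Algebra.TensorProduct.ext' fun d a => rfl
  have hpr : ∀ s ∈ c, pr s = 0 := fun s hs => by
    refine Ideal.Quotient.eq_zero_iff_mem.2 ?_
    have h1 := hc hs
    rw [hD, hD', Ideal.comap_comap] at h1
    show Algebra.TensorProduct.map πD (AlgHom.id R₀ S₀) s ∈ yκ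
    rw [hcomp]
    exact h1
  let prq : (D ⊗[R₀] S₀) ⧸ c →+* (κ ⊗[R₀] S₀) ⧸ yκ := Ideal.Quotient.lift c pr hpr
  let : Algebra D ((κ ⊗[R₀] S₀) ⧸ yκ) :=
    (((Ideal.Quotient.mk yκ).comp (Algebra.TensorProduct.includeLeftRingHom)).comp πD.toRingHom).toAlgebra
  let πq : D' →ₐ[D] (κ ⊗[R₀] S₀) ⧸ yκ :=
    { toRingHom := ((Ideal.Quotient.mk yκ).comp (Algebra.TensorProduct.includeLeftRingHom)).comp π.toRingHom
      commutes' := fun d => rfl }
  let cq : (D ⊗[R₀] S₀) ⧸ c →ₐ[D] (κ ⊗[R₀] S₀) ⧸ yκ :=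
    { toRingHom := prq
      commutes' := fun d => rfl }
  let chi := Algebra.TensorProduct.productMap πq cq
  have hchi : ∀ t, chi (eps t) = Ideal.Quotient.mk yκ (Algebra.TensorProduct.map π (AlgHom.id R₀ S₀) t) := by
    intro t
    induction t with
    | zero => simp
    | add a b ha hb => simp only [map_add, ha, hb]
    | tmul d a =>
      show chi (d ⊗ₜ[D] Ideal.Quotient.mk c ((1 : D) ⊗ₜ[R₀] a)) = _
      rw [Algebra.TensorProduct.productMap_apply_tmul]
      show Ideal.Quotient.mk yκ (π d ⊗ₜ[R₀] (1 : S₀)) * Ideal.Quotient.mk yκ (πD 1 ⊗ₜ[R₀] a) = _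
      rw [← map_mul, map_one, Algebra.TensorProduct.tmul_mul_tmul, mul_one, one_mul]
      rfl
  refine hs' ?_
  rw [hD']
  refine Ideal.mem_comap.2 (Ideal.Quotient.eq_zero_iff_mem.1 ((hchi s').symm.trans ?_))
  rw [h0, map_zero]

/-- Descent of flatness at a point along a flat map with a common residue ring. -/
theorem flatPt_descend [Module.Flat D D'] (yD : Ideal (D ⊗[R₀] S₀)) (yD' : Ideal (D' ⊗[R₀] S₀))
    {κ : Type u} [CommRing κ] [Algebra R₀ κ] (π : D' →ₐ[R₀] κ) (yκ : Ideal (κ ⊗[R₀] S₀))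
    (hD' : yD' = yκ.comap (Algebra.TensorProduct.map π (AlgHom.id R₀ S₀)).toRingHom)
    (hD : yD = yD'.comap (bcMap S₀ D D').toRingHom)
    (h : FlatPt N₁ yD') : FlatPt N₁ yD := by
  intro J z hz
  refine dead_of_baseChange yD yD' π yκ hD' hD z ?_
  let i : D' ⊗[D] J →ₗ[D'] D' :=
    (AlgebraTensorModule.rid D D' D').toLinearMap ∘ₗ AlgebraTensorModule.lTensor D' D' J.subtype
  have hi : Function.Injective i := (AlgebraTensorModule.rid D D' D').injective.comp
    (Module.Flat.lTensor_preserves_injective_linearMap J.subtype Subtype.val_injective)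
  let e : (D' ⊗[D] J) ≃ₗ[D'] LinearMap.range i := LinearEquiv.ofInjective i hi
  let z' := (e.toLinearMap.restrictScalars R₀).rTensor N₁ ((bcInc D' J).rTensor N₁ z)
  have hz' : ((LinearMap.range i).subtype.restrictScalars R₀).rTensor N₁ z' = 0 := by
    rw [← LinearMap.rTensor_comp_apply, ← LinearMap.rTensor_comp_apply,
      show (((LinearMap.range i).subtype.restrictScalars R₀) ∘ₗ (e.toLinearMap.restrictScalars R₀)) ∘ₗ bcInc D' J =
        ((Algebra.linearMap D D').restrictScalars R₀) ∘ₗ (J.subtype.restrictScalars R₀) from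
          LinearMap.ext fun j => by
            show i ((1 : D') ⊗ₜ[D] j) = algebraMap D D' j
            simp [i, Algebra.smul_def],
      LinearMap.rTensor_comp_apply, hz, map_zero]
  obtain ⟨s', hs', hs'z⟩ := h (LinearMap.range i) z' hz'
  refine ⟨s', hs', (LinearEquiv.rTensor N₁ (e.restrictScalars R₀)).injective ?_⟩
  rw [map_zero, ← hs'z]
  exact tau_rTensor e.toLinearMap s' _

end Change

end Groth.Agent.RGCore
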