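import Groth.Agent.RGCore.FlatOfInj
import Groth.Agent.RGCore.Model
import Groth.Agent.FComplLib.AdicUnit

/-!
A finitely presented module over a polynomial algebra which maps to a flat module injectively on the fibre at a
prime is flat at that prime.
-/

set_option autoImplicit false
set_option linter.unusedSectionVars false

universe u

open TensorProduct IsLocalRing MvPolynomial Groth.Agent.FlatModel

namespace Groth.Agent.RGCore

attribute [local instance] bcModule

/-- A point of a Noetherian ring has a flat complete local Noetherian algebra. -/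
theorem exists_completion {R₀ κ : Type u} [CommRing R₀] [IsNoetherianRing R₀] [Field κ] [Algebra R₀ κ] :
    ∃ (B : Type u) (_ : CommRing B) (_ : IsLocalRing B) (_ : IsNoetherianRing B)
      (_ : IsAdicComplete (maximalIdeal B) B) (_ : Algebra R₀ B) (_ : Algebra B κ) (_ : IsScalarTower R₀ B κ)
      (_ : Algebra (ResidueField B) κ),
      Module.Flat R₀ B ∧ IsScalarTower B (ResidueField B) κ ∧ IsScalarTower R₀ (ResidueField B) κ := by
  let p₀ : Ideal R₀ := RingHom.ker (algebraMap R₀ κ)
  have : p₀.IsPrime := RingHom.ker_isPrime _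
  let L := Localization.AtPrime p₀
  let φL : L →+* κ := IsLocalization.lift (M := p₀.primeCompl) (g := algebraMap R₀ κ) fun s =>
    isUnit_iff_ne_zero.2 fun h0 => s.2 h0
  have hφL : ∀ r, φL (algebraMap R₀ L r) = algebraMap R₀ κ r := IsLocalization.lift_eq _
  have hφm : ∀ x ∈ maximalIdeal L, φL x = 0 := by
    intro x hx
    obtain ⟨r, s, rfl⟩ := IsLocalization.exists_mk'_eq p₀.primeCompl x
    rw [IsLocalization.AtPrime.mk'_mem_maximal_iff L p₀] at hx
    rw [IsLocalization.lift_mk'_spec, mul_zero]
    exact hx
  let B := AdicCompletion (maximalIdeal L) L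
  have : IsNoetherianRing B := FComplLib.isNoetherianRing_adicCompletion _
  have : IsScalarTower R₀ L B := .of_algebraMap_eq fun _ => rfl
  have : Module.Flat R₀ L := IsLocalization.flat L p₀.primeCompl
  let ψB : B →+* κ :=
    (Ideal.Quotient.lift (maximalIdeal L) φL hφm).comp (AdicCompletion.evalOneₐ (maximalIdeal L)).toRingHom
  have hψB : ∀ x : L, ψB (algebraMap L B x) = φL x := fun x => by
    show Ideal.Quotient.lift (maximalIdeal L) φL hφm (AdicCompletion.evalOneₐ (maximalIdeal L) (algebraMap L B x)) = _
    rw [AlgHom.commutes]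
    rfl
  let : Algebra B κ := ψB.toAlgebra
  have : IsScalarTower R₀ B κ := .of_algebraMap_eq fun r => by
    show _ = ψB (algebraMap R₀ B r)
    rw [IsScalarTower.algebraMap_apply R₀ L B, hψB, hφL]
  have : IsLocalHom ψB := by
    refine ⟨fun x hx => ?_⟩
    by_contra hu
    have hmem : x ∈ maximalIdeal B := hu
    rw [AdicCompletion.maximalIdeal_eq_map] at hmem
    have : (maximalIdeal L).map (algebraMap L B) ≤ RingHom.ker ψB := Ideal.map_le_iff_le_comap.2 fun l hl => by
      rw [Ideal.mem_comap, RingHom.mem_ker, hψB, hφm l hl]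
    exact hx.ne_zero (this hmem)
  let : Algebra (ResidueField B) κ := (ResidueField.lift ψB).toAlgebra
  have : IsScalarTower B (ResidueField B) κ := .of_algebraMap_eq fun x => (ResidueField.lift_residue_apply ψB x).symm
  have : IsScalarTower R₀ (ResidueField B) κ := .of_algebraMap_eq fun r => by
    rw [IsScalarTower.algebraMap_apply R₀ B (ResidueField B), ← IsScalarTower.algebraMap_apply B (ResidueField B),
      ← IsScalarTower.algebraMap_apply R₀ B]
  have hflat : Module.Flat R₀ B := Module.Flat.trans R₀ L B
  exact ⟨B, inferInstance, inferInstance, inferInstance, inferInstance, inferInstance, inferInstance, inferInstance,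
    inferInstance, hflat, inferInstance, inferInstance⟩

/-- The local algebra joining a ring and a complete local ring at a common point. -/
theorem exists_localAlgebra {R₀ A B : Type u} [CommRing R₀] [CommRing A] [Algebra R₀ A] (p : Ideal A) [p.IsPrime]
    [CommRing B] [Algebra R₀ B] [Algebra B p.ResidueField] [IsScalarTower R₀ B p.ResidueField] [Module.Flat R₀ B] :
    ∃ (R' : Type u) (_ : CommRing R') (_ : IsLocalRing R') (_ : Algebra R₀ R') (_ : Algebra A R') (_ : Algebra B R')
      (_ : Algebra R' p.ResidueField), IsScalarTower R₀ A R' ∧ IsScalarTower R₀ B R' ∧ IsScalarTower R₀ R' p.ResidueField ∧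
      IsScalarTower A R' p.ResidueField ∧ IsScalarTower B R' p.ResidueField ∧ Module.Flat A R' ∧
      Function.Surjective (algebraMap R' p.ResidueField) ∧
      RingHom.ker (algebraMap R' p.ResidueField) = maximalIdeal R' := by
  -- the local algebra over `A` and the completion
  let D' := A ⊗[R₀] B
  let φ' : D' →ₐ[R₀] p.ResidueField :=
    Algebra.TensorProduct.productMap (IsScalarTower.toAlgHom R₀ A p.ResidueField) (IsScalarTower.toAlgHom R₀ B p.ResidueField)
  have hφ : ∀ (a : A) (b : B), φ' (a ⊗ₜ[R₀] b) = algebraMap A p.ResidueField a * algebraMap B p.ResidueField b := fun _ _ =>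
    Algebra.TensorProduct.productMap_apply_tmul _ _ _ _
  let q : Ideal D' := RingHom.ker φ'.toRingHom
  have : q.IsPrime := RingHom.ker_isPrime _
  let R' := Localization.AtPrime q
  have : Module.Flat A R' := Module.Flat.trans A D' R'
  let πR : R' →+* p.ResidueField := IsLocalization.lift (M := q.primeCompl) (g := φ'.toRingHom) fun s =>
    isUnit_iff_ne_zero.2 fun h0 => s.2 h0
  have hπD : ∀ d, πR (algebraMap D' R' d) = φ' d := IsLocalization.lift_eq _
  let : Algebra R' p.ResidueField := πR.toAlgebra
  let : Algebra B R' := ((algebraMap D' R').comp (Algebra.TensorProduct.includeRight (R := R₀) (A := A) (B := B)).toRingHom).toAlgebra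
  have : IsScalarTower R₀ B R' := .of_algebraMap_eq fun r => by
    show _ = algebraMap D' R' ((1 : A) ⊗ₜ[R₀] algebraMap R₀ B r)
    rw [IsScalarTower.algebraMap_apply R₀ D' R']
    congr 1
    exact ((Algebra.TensorProduct.includeRight (R := R₀) (A := A) (B := B)).commutes r).symm
  have : IsScalarTower R₀ A R' := .of_algebraMap_eq fun r => by
    rw [IsScalarTower.algebraMap_apply R₀ D' R', IsScalarTower.algebraMap_apply A D' R']
    rfl
  have : IsScalarTower A R' p.ResidueField := .of_algebraMap_eq fun b => by
    show _ = πR (algebraMap A R' b)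
    rw [IsScalarTower.algebraMap_apply A D' R', hπD]
    show _ = φ' (b ⊗ₜ[R₀] (1 : B))
    rw [hφ, map_one, mul_one]
  have : IsScalarTower B R' p.ResidueField := .of_algebraMap_eq fun b => by
    show _ = πR (algebraMap D' R' ((1 : A) ⊗ₜ[R₀] b))
    rw [hπD, hφ, map_one, one_mul]
  have : IsScalarTower R₀ R' p.ResidueField := .of_algebraMap_eq fun r => by
    rw [IsScalarTower.algebraMap_apply R₀ A R', ← IsScalarTower.algebraMap_apply A R', ← IsScalarTower.algebraMap_apply R₀ A]
  have hπs : Function.Surjective (algebraMap R' p.ResidueField) := by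
    intro r
    obtain ⟨r₀, rfl⟩ := IsLocalRing.residue_surjective (R := Localization.AtPrime p) r
    obtain ⟨b, s, rfl⟩ := IsLocalization.exists_mk'_eq p.primeCompl r₀
    have hs : IsUnit (algebraMap A R' (s : A)) := by
      rw [IsScalarTower.algebraMap_apply A D' R']
      refine IsLocalization.map_units R' (⟨algebraMap A D' s, fun h0 => ?_⟩ : q.primeCompl)
      have h1 : φ' ((s : A) ⊗ₜ[R₀] (1 : B)) = 0 := h0
      rw [hφ, map_one, mul_one] at h1
      exact s.2 (Ideal.algebraMap_residueField_eq_zero.1 h1)
    refine ⟨algebraMap A R' b * ↑(hs.unit⁻¹), ?_⟩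
    rw [map_mul, ← IsScalarTower.algebraMap_apply]
    have hne : algebraMap A p.ResidueField s ≠ 0 := fun h0 => s.2 (Ideal.algebraMap_residueField_eq_zero.1 h0)
    apply mul_right_cancel₀ hne
    have h2 : algebraMap R' p.ResidueField ↑(hs.unit⁻¹) * algebraMap A p.ResidueField s = 1 := by
      rw [IsScalarTower.algebraMap_apply A R' p.ResidueField, ← map_mul, IsUnit.val_inv_mul, map_one]
    rw [mul_assoc, h2, mul_one]
    show algebraMap A p.ResidueField b = residue _ (IsLocalization.mk' _ b s) * residue _ (algebraMap A _ (s : A))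
    rw [← map_mul, IsLocalization.mk'_spec]
    rfl
  have hker' : RingHom.ker (algebraMap R' p.ResidueField) = maximalIdeal R' := by
    have := RingHom.ker_isMaximal_of_surjective _ hπs
    exact IsLocalRing.eq_maximalIdeal this
  exact ⟨R', inferInstance, inferInstance, inferInstance, inferInstance, inferInstance, inferInstance, inferInstance,
    inferInstance, inferInstance, inferInstance, inferInstance, inferInstance, hπs, hker'⟩

set_option maxHeartbeats 1000000 in
/-- The base change of a finite module is flat at a point, extended from the closed fibre, at which it maps to a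
flat module injectively on the fibre. -/
theorem flatPt_of_injective {R₀ S₀ : Type u} [CommRing R₀] [IsNoetherianRing R₀] [CommRing S₀] [Algebra R₀ S₀]
    [Algebra.FiniteType R₀ S₀] {N₁ : Type u} [AddCommGroup N₁] [Module R₀ N₁] [Module S₀ N₁]
    [IsScalarTower R₀ S₀ N₁] [Module.Finite S₀ N₁] {A : Type u} [CommRing A] [Algebra R₀ A]
    (p : Ideal A) [p.IsPrime] (yκ : Ideal (p.ResidueField ⊗[R₀] S₀)) [yκ.IsPrime]
    (hstar₀ : yκ ≤ (yκ.comap (Algebra.TensorProduct.includeRight (R := R₀) (A := p.ResidueField) (B := S₀)).toRingHom).map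
      (Algebra.TensorProduct.includeRight (R := R₀) (A := p.ResidueField) (B := S₀)).toRingHom)
    {M : Type u} [AddCommGroup M] [Module R₀ M] [Module A M] [IsScalarTower R₀ A M] [Module.Flat A M]
    (u₁ : N₁ →ₗ[R₀] M)
    (hA : ∀ w : p.ResidueField ⊗[R₀] N₁, uMap A u₁ p.ResidueField w = 0 →
      Dead (yκ.comap (bcMap S₀ A p.ResidueField).toRingHom) p.ResidueField w) :
    FlatPt N₁ (yκ.comap (bcMap S₀ A p.ResidueField).toRingHom) := by
  obtain ⟨B, _, _, _, _, _, _, _, _, _, _, _⟩ := exists_completion (R₀ := R₀) (κ := p.ResidueField)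
  obtain ⟨R', _, _, _, _, _, _, _, _, _, _, _, _, hπs, hker'⟩ := exists_localAlgebra (R₀ := R₀) (B := B) p
  have hstar : yκ ≤ (yκ.comap (bcMap S₀ (ResidueField B) p.ResidueField).toRingHom).map
      (bcMap S₀ (ResidueField B) p.ResidueField).toRingHom := by
    refine hstar₀.trans (Ideal.map_le_iff_le_comap.2 fun q hq => ?_)
    have h1 : bcMap S₀ (ResidueField B) p.ResidueField ((1 : ResidueField B) ⊗ₜ[R₀] q) =
        (1 : p.ResidueField) ⊗ₜ[R₀] q := by simp [bcMap]
    rw [Ideal.mem_comap]
    show (1 : p.ResidueField) ⊗ₜ[R₀] q ∈ _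
    rw [← h1]
    refine Ideal.mem_map_of_mem _ ?_
    show bcMap S₀ (ResidueField B) p.ResidueField ((1 : ResidueField B) ⊗ₜ[R₀] q) ∈ yκ
    rw [h1]
    exact hq
  let u' : N₁ →ₗ[R₀] R' ⊗[A] M := (TensorProduct.mk A R' M 1).restrictScalars R₀ ∘ₗ u₁
  have hh : ∀ w, uMap R' u' p.ResidueField w = 0 →
      Dead (yκ.comap (bcMap S₀ R' p.ResidueField).toRingHom) p.ResidueField w := by
    intro w hw
    let cM := AlgebraTensorModule.cancelBaseChange A R' R' p.ResidueField M
    have h1 : cM (uMap R' u' p.ResidueField w) = uMap A u₁ p.ResidueField w := by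
      clear hw
      induction w using TensorProduct.induction_on with
      | zero => simp
      | add x x' hx hx' => simp only [map_add, hx, hx']
      | tmul k x => rw [uMap_tmul, uMap_tmul]; simp [cM, u']
    obtain ⟨s, hs, hsw⟩ := hA w (by rw [← h1, hw, map_zero])
    refine ⟨bcMap S₀ A R' s, fun h' => hs ?_, by rw [tau_bcMap, hsw]⟩
    show bcMap S₀ A p.ResidueField s ∈ yκ
    rw [← bcMap_comp (D' := R')]
    exact h'
  have hR : FlatPt N₁ (yκ.comap (bcMap S₀ R' p.ResidueField).toRingHom) :=
    flatPt_of_complete hπs hker' yκ hstar u' hh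
  exact flatPt_descend (yκ.comap (bcMap S₀ A p.ResidueField).toRingHom) _ (IsScalarTower.toAlgHom R₀ R' p.ResidueField) yκ rfl (by
    ext s
    show bcMap S₀ A p.ResidueField s ∈ yκ ↔ bcMap S₀ R' p.ResidueField (bcMap S₀ A R' s) ∈ yκ
    rw [bcMap_comp]) hR


end Groth.Agent.RGCore
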