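import Groth.Agent.RGCore.FlatPointLocal
import Groth.Agent.RGCore.Model
import Groth.Agent.FComplLib.AdicUnit

/-!
A finitely presented module over a polynomial algebra which maps to a flat module injectively on the fibre at a
prime is flat at that prime.
-/

set_option autoImplicit false
set_option linter.unusedSectionVars false

universe u

open TensorProduct IsLocalRing MvPolynomial Groth.Agent.FlatModel

namespace Groth.Agent.RGCore

attribute [local instance] bcModule

section Presentation

variable {R₀ A : Type u} [CommRing R₀] [CommRing A] [Algebra R₀ A] {n : ℕ}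

/-- A prime of a polynomial algebra gives a prime over the residue field, extended from a small base. -/
theorem exists_prime_of_point (y : Ideal (MvPolynomial (Fin n) A)) [y.IsPrime] (p : Ideal A) [p.IsPrime]
    (hp : y.comap C = p) (T : Finset (MvPolynomial (Fin n) A)) (hTQ : ∀ x ∈ T, x ∈ y)
    (hTdesc : ∀ x ∈ T, ∃ q : MvPolynomial (Fin n) R₀, MvPolynomial.map (algebraMap R₀ A) q = x)
    (hT : ∀ x ∈ y, ∃ s ∉ p, C s * x ∈ Ideal.span (T : Set (MvPolynomial (Fin n) A)) ⊔ p.map C) :
    ∃ (yκ : Ideal (p.ResidueField ⊗[R₀] MvPolynomial (Fin n) R₀)), yκ.IsPrime ∧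
      (∀ s, bcMap (MvPolynomial (Fin n) R₀) A p.ResidueField s ∈ yκ ↔ MvPolynomial.algebraTensorAlgEquiv R₀ A s ∈ y) ∧
      yκ ≤ (yκ.comap (Algebra.TensorProduct.includeRight (R := R₀) (A := p.ResidueField) (B := MvPolynomial (Fin n) R₀)).toRingHom).map
        (Algebra.TensorProduct.includeRight (R := R₀) (A := p.ResidueField) (B := MvPolynomial (Fin n) R₀)).toRingHom := by
  let S₀ := MvPolynomial (Fin n) R₀
  let θ : A ⊗[R₀] S₀ ≃ₐ[A] MvPolynomial (Fin n) A := MvPolynomial.algebraTensorAlgEquiv R₀ A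
  -- the fibre
  let : Algebra p.ResidueField y.ResidueField := (Ideal.ResidueField.map p y C hp.symm).toAlgebra
  have : IsScalarTower A p.ResidueField y.ResidueField := .of_algebraMap_eq fun b => by
    show _ = Ideal.ResidueField.map p y C hp.symm (algebraMap A p.ResidueField b)
    rw [Ideal.ResidueField.map_algebraMap]
    rfl
  have : IsScalarTower R₀ A y.ResidueField := inferInstance
  have : IsScalarTower R₀ p.ResidueField y.ResidueField := .of_algebraMap_eq fun b => by
    rw [IsScalarTower.algebraMap_apply R₀ A p.ResidueField, ← IsScalarTower.algebraMap_apply A p.ResidueField,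
      ← IsScalarTower.algebraMap_apply R₀ A]
  let toY : A ⊗[R₀] S₀ →ₐ[A] y.ResidueField := (IsScalarTower.toAlgHom A (MvPolynomial (Fin n) A) _).comp θ.toAlgHom
  let ψy : p.ResidueField ⊗[R₀] S₀ →ₐ[R₀] y.ResidueField :=
    Algebra.TensorProduct.productMap (IsScalarTower.toAlgHom R₀ p.ResidueField y.ResidueField)
      ((toY.restrictScalars R₀).comp Algebra.TensorProduct.includeRight)
  let yκ : Ideal (p.ResidueField ⊗[R₀] S₀) := RingHom.ker ψy.toRingHom
  have : yκ.IsPrime := RingHom.ker_isPrime _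
  have hψ : ∀ s, ψy (bcMap S₀ A p.ResidueField s) = toY s := by
    intro s
    induction s using TensorProduct.induction_on with
    | zero => simp
    | add x x' hx hx' => simp only [map_add, hx, hx']
    | tmul d q =>
      show ψy (algebraMap A p.ResidueField d ⊗ₜ[R₀] q) = _
      simp only [ψy, Algebra.TensorProduct.productMap_apply_tmul]
      rw [show d ⊗ₜ[R₀] q = d • ((1 : A) ⊗ₜ[R₀] q) by
        rw [smul_tmul', smul_eq_mul, mul_one], map_smul, Algebra.smul_def,
        IsScalarTower.algebraMap_apply A p.ResidueField y.ResidueField]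
      rfl
  let yA : Ideal (A ⊗[R₀] MvPolynomial (Fin n) R₀) := yκ.comap (bcMap S₀ A p.ResidueField).toRingHom
  have : yA.IsPrime := Ideal.IsPrime.comap _
  have hyA : ∀ s, s ∈ yA ↔ θ s ∈ y := fun s => by
    show ψy (bcMap S₀ A p.ResidueField s) = 0 ↔ _
    rw [hψ]
    exact Ideal.algebraMap_residueField_eq_zero
  have hstar : yκ ≤ (yκ.comap (Algebra.TensorProduct.includeRight (R := R₀) (A := p.ResidueField) (B := S₀)).toRingHom).map
      (Algebra.TensorProduct.includeRight (R := R₀) (A := p.ResidueField) (B := S₀)).toRingHom := by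
    intro x hx
    have hden : ∀ x : p.ResidueField ⊗[R₀] S₀, ∃ s ∉ p, ∃ b : A ⊗[R₀] S₀,
        bcMap S₀ A p.ResidueField b = (algebraMap A p.ResidueField s ⊗ₜ[R₀] (1 : S₀)) * x := by
      intro x
      induction x using TensorProduct.induction_on with
      | zero => exact ⟨1, fun h => ‹p.IsPrime›.ne_top ((Ideal.eq_top_iff_one p).2 h), 0, by simp⟩
      | add x x' hx hx' =>
        obtain ⟨s, hs, b, hb⟩ := hx
        obtain ⟨s', hs', b', hb'⟩ := hx'
        refine ⟨s * s', Ideal.IsPrime.mul_notMem ‹_› hs hs', (s' ⊗ₜ 1) * b + (s ⊗ₜ 1) * b', ?_⟩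
        simp only [map_add, map_mul, hb, hb', mul_add]
        congr 1 <;>
        · rw [← mul_assoc]
          congr 1
          simp [bcMap, mul_comm]
      | tmul r q =>
        obtain ⟨r₀, rfl⟩ := IsLocalRing.residue_surjective (R := Localization.AtPrime p) r
        obtain ⟨⟨b₀, s⟩, hbs⟩ := IsLocalization.surj p.primeCompl r₀
        refine ⟨s, s.2, b₀ ⊗ₜ q, ?_⟩
        have h1 := congr(IsLocalRing.residue (Localization.AtPrime p) $hbs)
        rw [map_mul] at h1
        rw [Algebra.TensorProduct.tmul_mul_tmul, one_mul, mul_comm]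
        show algebraMap A p.ResidueField b₀ ⊗ₜ[R₀] q = _
        congr 1
        exact h1.symm
    obtain ⟨s, hs, b, hb⟩ := hden x
    have hby : θ b ∈ y := (hyA b).1 (by
      show bcMap S₀ A p.ResidueField b ∈ yκ
      rw [hb]
      exact yκ.mul_mem_left _ hx)
    obtain ⟨s', hs', hmem⟩ := hT _ hby
    let f : MvPolynomial (Fin n) A →+* p.ResidueField ⊗[R₀] S₀ :=
      (bcMap S₀ A p.ResidueField).toRingHom.comp θ.symm.toAlgHom.toRingHom
    have hf : ∀ z, f (θ z) = bcMap S₀ A p.ResidueField z := fun z => congrArg (bcMap S₀ A p.ResidueField) (θ.symm_apply_apply z)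
    have hfC : ∀ d, f (C d) = algebraMap A p.ResidueField d ⊗ₜ[R₀] (1 : S₀) := fun d => by
      have h1 : θ.symm (C d) = d ⊗ₜ[R₀] (1 : S₀) := θ.symm.commutes d
      show bcMap S₀ A p.ResidueField (θ.symm (C d)) = _
      rw [h1]
      rfl
    set I := (yκ.comap (Algebra.TensorProduct.includeRight (R := R₀) (A := p.ResidueField) (B := S₀)).toRingHom).map
      (Algebra.TensorProduct.includeRight (R := R₀) (A := p.ResidueField) (B := S₀)).toRingHom
    have hspan : Ideal.span (T : Set (MvPolynomial (Fin n) A)) ⊔ p.map C ≤ I.comap f := by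
      refine sup_le (Ideal.span_le.2 fun t ht => ?_) (Ideal.map_le_iff_le_comap.2 fun d hd => ?_)
      · obtain ⟨q, hq⟩ := hTdesc t ht
        have h1 : θ ((1 : A) ⊗ₜ[R₀] q) = t := by
          show MvPolynomial.algebraTensorAlgEquiv R₀ A ((1 : A) ⊗ₜ[R₀] q) = t
          rw [MvPolynomial.algebraTensorAlgEquiv_tmul, one_smul, hq]
        have h2 : (1 : p.ResidueField) ⊗ₜ[R₀] q = f t := by
          rw [← h1, hf]
          simp [bcMap]
        show f t ∈ I
        rw [← h2]
        refine Ideal.mem_map_of_mem (Algebra.TensorProduct.includeRight (R := R₀) (A := p.ResidueField) (B := S₀)).toRingHom ?_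
        show (1 : p.ResidueField) ⊗ₜ[R₀] q ∈ yκ
        rw [h2, ← h1, hf]
        exact (hyA _).2 (h1 ▸ hTQ t ht)
      · show f (C d) ∈ I
        rw [hfC, Ideal.algebraMap_residueField_eq_zero.2 hd, zero_tmul]
        exact zero_mem _
    have h3 : f (C s' * θ b) ∈ I := hspan hmem
    rw [map_mul, hfC, hf, hb, ← mul_assoc, Algebra.TensorProduct.tmul_mul_tmul, mul_one, ← map_mul] at h3
    have hu : IsUnit (algebraMap A p.ResidueField (s' * s) ⊗ₜ[R₀] (1 : S₀)) :=
      (isUnit_iff_ne_zero.2 fun h0 => Ideal.IsPrime.mul_notMem ‹_› hs' hs (Ideal.algebraMap_residueField_eq_zero.1 h0)).map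
        (Algebra.TensorProduct.includeLeftRingHom)
    exact (I.unit_mul_mem_iff_mem hu).1 h3
  exact ⟨yκ, inferInstance, hyA, hstar⟩

/-- A module with a model over a Noetherian ring, which maps to a flat module injectively on the fibre at a prime
extended from the model, is flat at the prime. -/
theorem flat_localized_of_presentation [IsNoetherianRing R₀] (y : Ideal (MvPolynomial (Fin n) A)) [y.IsPrime]
    (p : Ideal A) [p.IsPrime] (hp : y.comap C = p) (T : Finset (MvPolynomial (Fin n) A)) (hTQ : ∀ x ∈ T, x ∈ y)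
    (hTdesc : ∀ x ∈ T, ∃ q : MvPolynomial (Fin n) R₀, MvPolynomial.map (algebraMap R₀ A) q = x)
    (hT : ∀ x ∈ y, ∃ s ∉ p, C s * x ∈ Ideal.span (T : Set (MvPolynomial (Fin n) A)) ⊔ p.map C)
    {N₁ : Type u} [AddCommGroup N₁] [Module R₀ N₁] [Module (MvPolynomial (Fin n) R₀) N₁]
    [IsScalarTower R₀ (MvPolynomial (Fin n) R₀) N₁] [Module.Finite (MvPolynomial (Fin n) R₀) N₁]
    {N₀ : Type u} [AddCommGroup N₀] [Module A N₀] [Module (MvPolynomial (Fin n) A) N₀]
    [IsScalarTower A (MvPolynomial (Fin n) A) N₀]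
    (e : A ⊗[R₀] N₁ ≃ₗ[A] N₀)
    (he : ∀ (q : MvPolynomial (Fin n) R₀) (x : N₁),
      e (1 ⊗ₜ (q • x)) = MvPolynomial.map (algebraMap R₀ A) q • e (1 ⊗ₜ x))
    {M : Type u} [AddCommGroup M] [Module R₀ M] [Module A M] [IsScalarTower R₀ A M] [Module.Flat A M]
    (u : N₀ →ₗ[A] M)
    (hinj : ∀ w : p.ResidueField ⊗[A] N₀, u.lTensor p.ResidueField w = 0 →
      ∃ t ∉ y, ((LinearMap.lsmul (MvPolynomial (Fin n) A) N₀ t).restrictScalars A).lTensor p.ResidueField w = 0) :
    Module.Flat A (LocalizedModule y.primeCompl N₀) := by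
  let S₀ := MvPolynomial (Fin n) R₀
  let θ : A ⊗[R₀] S₀ ≃ₐ[A] MvPolynomial (Fin n) A := MvPolynomial.algebraTensorAlgEquiv R₀ A
  have hθe : ∀ (s : A ⊗[R₀] S₀) (z : A ⊗[R₀] N₁), e (tau A N₁ s z) = θ s • e z := by
    intro s z
    induction s using TensorProduct.induction_on with
    | zero => simp
    | add x x' hx hx' => simp only [map_add, LinearMap.add_apply, add_smul, hx, hx']
    | tmul d q =>
      induction z using TensorProduct.induction_on with
      | zero => simp
      | add x x' hx hx' => simp only [map_add, smul_add, hx, hx']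
      | tmul d' x =>
        have h1 : θ (d ⊗ₜ[R₀] q) = d • MvPolynomial.map (algebraMap R₀ A) q := MvPolynomial.algebraTensorAlgEquiv_tmul _ _ _ _
        rw [tau_tmul, show (d • d') ⊗ₜ[R₀] (q • x) = (d * d') • ((1 : A) ⊗ₜ[R₀] (q • x)) by
              rw [smul_tmul', smul_eq_mul, smul_eq_mul, mul_one],
          show d' ⊗ₜ[R₀] x = d' • ((1 : A) ⊗ₜ[R₀] x) by rw [smul_tmul', smul_eq_mul, mul_one], map_smul, map_smul,
          he, h1, smul_assoc, smul_comm _ d', smul_smul]
  let u₁ : N₁ →ₗ[R₀] M :=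
    { toFun := fun x => u (e ((1 : A) ⊗ₜ[R₀] x))
      map_add' := fun x x' => by rw [tmul_add, map_add, map_add]
      map_smul' := fun r x => by
        rw [RingHom.id_apply, tmul_smul, show r • ((1 : A) ⊗ₜ[R₀] x) = algebraMap R₀ A r • ((1 : A) ⊗ₜ[R₀] x) from
          (algebraMap_smul A r _).symm, map_smul, map_smul, algebraMap_smul] }
  obtain ⟨yκ, _, hyA, hstar⟩ := exists_prime_of_point y p hp T hTQ hTdesc hT
  let yA := yκ.comap (bcMap S₀ A p.ResidueField).toRingHom
  have : yA.IsPrime := Ideal.IsPrime.comap _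
  have hA : ∀ w, uMap A u₁ p.ResidueField w = 0 → Dead yA p.ResidueField w := by
    intro w hw
    let ê : p.ResidueField ⊗[R₀] N₁ ≃ₗ[A] p.ResidueField ⊗[A] N₀ :=
      (AlgebraTensorModule.cancelBaseChange R₀ A A p.ResidueField N₁).symm ≪≫ₗ LinearEquiv.lTensor p.ResidueField e
    have hêt : ∀ (k : p.ResidueField) (x : N₁), ê (k ⊗ₜ[R₀] x) = k ⊗ₜ[A] e ((1 : A) ⊗ₜ[R₀] x) := fun k x => by simp [ê]
    have h1 : u.lTensor p.ResidueField (ê w) = uMap A u₁ p.ResidueField w := by
      clear hw
      induction w using TensorProduct.induction_on with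
      | zero => simp
      | add x x' hx hx' => simp only [map_add, hx, hx']
      | tmul k x => rw [hêt, LinearMap.lTensor_tmul, uMap_tmul]; rfl
    obtain ⟨t, ht, htw⟩ := hinj (ê w) (h1.trans hw)
    refine ⟨θ.symm t, fun h' => ht (θ.apply_symm_apply t ▸ (hyA _).1 h'), ê.injective ?_⟩
    rw [map_zero, ← htw]
    clear htw hw h1
    generalize hs : θ.symm t = s
    have hts : t = θ s := by rw [← hs, AlgEquiv.apply_symm_apply]
    subst hts
    clear hs ht
    induction w using TensorProduct.induction_on with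
    | zero => simp
    | add x x' hx hx' => simp only [map_add, hx, hx']
    | tmul k x =>
      rw [hêt, LinearMap.lTensor_tmul]
      show _ = k ⊗ₜ[A] (θ s • e ((1 : A) ⊗ₜ[R₀] x))
      rw [← hθe]
      induction s using TensorProduct.induction_on with
      | zero => simp
      | add x x' hx hx' => simp only [map_add, LinearMap.add_apply, tmul_add, hx, hx']
      | tmul d q =>
        rw [tau_tmul, tau_tmul, hêt, smul_eq_mul, mul_one, show d ⊗ₜ[R₀] (q • x) = d • ((1 : A) ⊗ₜ[R₀] (q • x)) by
              rw [smul_tmul', smul_eq_mul, mul_one], map_smul]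
        exact TensorProduct.smul_tmul _ _ _
  have hflat : FlatPt N₁ yA := flatPt_of_injective p yκ hstar u₁ hA
  rw [flat_localized_iff y.primeCompl (LocalizedModule.mkLinearMap y.primeCompl N₀)]
  intro J z hz
  let eJ : (A ⊗[R₀] N₁) ⊗[A] J ≃ₗ[A] N₀ ⊗[A] J := LinearEquiv.rTensor J e
  let w := (psi (D := A) N₁ J).symm (eJ.symm z)
  have hw : (J.subtype.restrictScalars R₀).rTensor N₁ w = 0 := by
    apply (psi (D := A) N₁ A).injective
    apply (LinearEquiv.rTensor A e).injective
    rw [map_zero, map_zero, ← hz]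
    conv_rhs => rw [← eJ.apply_symm_apply z, ← (psi (D := A) N₁ J).apply_symm_apply (eJ.symm z)]
    show _ = J.subtype.lTensor N₀ (eJ (psi N₁ J w))
    generalize w = w
    induction w using TensorProduct.induction_on with
    | zero => simp
    | add x x' hx hx' => simp only [map_add, hx, hx']
    | tmul j x => simp [psi_tmul, eJ]
  obtain ⟨s, hs, hsw⟩ := hflat J w hw
  refine ⟨θ s, fun h' => hs ((hyA s).2 h'), ?_⟩
  have hact : ∀ v : (A ⊗[R₀] N₁) ⊗[A] J, eJ (s • v) = θ s • eJ v := by
    intro v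
    induction v using TensorProduct.induction_on with
    | zero => simp
    | add x x' hx hx' => simp only [map_add, smul_add, hx, hx']
    | tmul x j =>
      rw [smul_tmul', LinearEquiv.rTensor_tmul, LinearEquiv.rTensor_tmul, smul_tmul']
      exact congrArg (· ⊗ₜ[A] j) (hθe s x)
  rw [← eJ.apply_symm_apply z, ← hact, ← (psi (D := A) N₁ J).apply_symm_apply (eJ.symm z), ← psi_tau, hsw, map_zero,
    map_zero]

end Presentation

/-- A finitely presented module which maps linearly over the base to a flat module, injectively on the fibre at a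
prime of a polynomial algebra, is flat at that prime. -/
theorem flat_localized_of_injective_poly {A : Type u} [CommRing A] {n : ℕ} (y : Ideal (MvPolynomial (Fin n) A))
    [y.IsPrime] (p : Ideal A) [p.IsPrime] (hp : y.comap C = p)
    {N₀ : Type u} [AddCommGroup N₀] [Module A N₀] [Module (MvPolynomial (Fin n) A) N₀]
    [IsScalarTower A (MvPolynomial (Fin n) A) N₀] [Module.FinitePresentation (MvPolynomial (Fin n) A) N₀]
    {M : Type u} [AddCommGroup M] [Module A M] [Module.Flat A M]
    (u : N₀ →ₗ[A] M)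
    (hinj : ∀ w : p.ResidueField ⊗[A] N₀, u.lTensor p.ResidueField w = 0 →
      ∃ t ∉ y, ((LinearMap.lsmul (MvPolynomial (Fin n) A) N₀ t).restrictScalars A).lTensor p.ResidueField w = 0) :
    Module.Flat A (LocalizedModule y.primeCompl N₀) := by
  classical
  obtain ⟨a, π, hπ⟩ := Module.Finite.exists_fin' (MvPolynomial (Fin n) A) N₀
  obtain ⟨G, hG⟩ := Module.FinitePresentation.fg_ker π hπ
  obtain ⟨T, hTQ, hT⟩ := exists_finset_generate y p hp
  let c : Finset A := (G.biUnion fun v => Finset.univ.biUnion fun i => (v i).coeffs) ∪ T.biUnion fun x => x.coeffs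
  let R₀ : Subalgebra ℤ A := Algebra.adjoin ℤ (c : Set A)
  have : Algebra.FiniteType ℤ R₀ := (Subalgebra.fg_iff_finiteType R₀).1 (Subalgebra.fg_adjoin_finset c)
  have : IsNoetherianRing R₀ := Algebra.FiniteType.isNoetherianRing ℤ R₀
  have hGdesc : ∀ v ∈ G, ∃ w : V a n R₀, mapV (algebraMap R₀ A) w = v := by
    intro v hv
    have : ∀ i, ∃ q : MvPolynomial (Fin n) R₀, MvPolynomial.map (algebraMap R₀ A) q = v i := fun i =>
      MvPolynomial.mem_range_map_iff_coeffs_subset.2 fun x hx =>
        ⟨⟨x, Algebra.subset_adjoin (Finset.mem_union_left _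
          (Finset.mem_biUnion.2 ⟨v, hv, Finset.mem_biUnion.2 ⟨i, Finset.mem_univ _, hx⟩⟩))⟩, rfl⟩
    choose w hw using this
    exact ⟨w, funext hw⟩
  choose! lv hlv using hGdesc
  have hTdesc : ∀ x ∈ T, ∃ q : MvPolynomial (Fin n) R₀, MvPolynomial.map (algebraMap R₀ A) q = x := fun x hx =>
    MvPolynomial.mem_range_map_iff_coeffs_subset.2 fun b hb =>
      ⟨⟨b, Algebra.subset_adjoin (Finset.mem_union_right _ (Finset.mem_biUnion.2 ⟨x, hx, hb⟩))⟩, rfl⟩
  let K₀ : Submodule (MvPolynomial (Fin n) R₀) (V a n R₀) := Submodule.span _ (lv '' G)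
  have hker : LinearMap.ker π = KK K₀ A := by
    apply le_antisymm
    · rw [← hG, Submodule.span_le]
      intro v hv
      exact Submodule.subset_span ⟨lv v, Submodule.subset_span ⟨v, hv, rfl⟩, hlv v hv⟩
    · rw [KK, Submodule.span_le]
      rintro _ ⟨w, hw, rfl⟩
      refine Submodule.span_le.2 ?_ (mapV_mem_span (algebraMap R₀ A) hw)
      rintro _ ⟨w, ⟨v, hv, rfl⟩, rfl⟩
      rw [hlv v hv]
      exact hG.le (Submodule.subset_span hv)
  obtain ⟨e, he⟩ := exists_baseChange_equiv K₀ π hπ hker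
  let : Module R₀ M := Module.compHom M (algebraMap R₀ A)
  exact @flat_localized_of_presentation R₀ A _ _ _ n inferInstance y _ p _ hp T hTQ hTdesc hT (V a n R₀ ⧸ K₀) _ _ _ _ _
    N₀ _ _ _ _ e he M _ _ _ (.of_algebraMap_smul fun _ _ => rfl) _ u hinj

end Groth.Agent.RGCore
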