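import Groth.Prelude.Def_FlatCA
import Mathlib.AlgebraicGeometry.Pullbacks
import Mathlib.AlgebraicGeometry.Properties

/-!
Algebras with geometrically integral fibres.
-/

set_option autoImplicit false

universe u

open TensorProduct AlgebraicGeometry CategoryTheory Limits

namespace Groth.Agent.RGCore

/-- The base change to a field of an algebra with geometrically integral fibres is a domain. -/
theorem isDomain_tensor_of_geomIntegral {A S : Type u} [CommRing A] [CommRing S] [Algebra A S]
    (h : FlatCA.GeomIntegralFibres A S) (K : Type u) [Field K] [Algebra A K] : IsDomain (K ⊗[A] S) := by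
  let f := Spec.map (CommRingCat.ofHom (algebraMap A S))
  let g := Spec.map (CommRingCat.ofHom (algebraMap A K))
  have : GeometricallyIntegral f := h
  have : IsIntegral (pullback f g) :=
    GeometricallyIntegral.geometrically_isIntegral (f := f) g (pullback.fst f g) (pullback.snd f g)
      (IsPullback.of_hasPullback f g)
  have : IsIntegral (Spec (CommRingCat.of (K ⊗[A] S))) :=
    IsIntegral.of_isIso ((pullbackSymmetry f g).hom ≫ (pullbackSpecIso A K S).hom)
  exact (affine_isIntegral_iff _).1 this

end Groth.Agent.RGCore
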