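import Groth.Agent.RGCore.Assassin
import Groth.Agent.RGCore.GeomIntegral
import Mathlib.RingTheory.LocalRing.Module
import Mathlib.RingTheory.Ideal.GoingDown

/-!
Maps from finite free modules which are bases at the generic point of a fibre, over an algebra with
geometrically integral fibres.
-/

set_option autoImplicit false
set_option linter.unusedSectionVars false

universe u

open TensorProduct

namespace Groth.Agent.RGCore

section Extension

variable {A S : Type u} [CommRing A] [CommRing S] [Algebra A S] (W : Submonoid S)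
  {X N : Type u} [AddCommGroup X] [Module A X] [Module S X] [IsScalarTower A S X]
  [AddCommGroup N] [Module A N] [Module S N] [IsScalarTower A S N] (f : X →ₗ[S] N)

/-- The cokernel of a universally injective map into a module which is flat at a place is flat there. -/
theorem flat_localized_coker (hN : Module.Flat A (LocalizedModule W N))
    (huniv : ∀ (J : Ideal A) (w : (A ⧸ J) ⊗[A] X), (f.restrictScalars A).lTensor (A ⧸ J) w = 0 →
      ∃ t ∈ W, ((LinearMap.lsmul S X t).restrictScalars A).lTensor (A ⧸ J) w = 0) :
    Module.Flat A (LocalizedModule W (N ⧸ LinearMap.range f)) := by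
  rw [FlatModel.flat_localized_iff W (LocalizedModule.mkLinearMap W (N ⧸ LinearMap.range f))]
  rw [FlatModel.flat_localized_iff W (LocalizedModule.mkLinearMap W N)] at hN
  intro J y hy
  let Q := AlgebraTensorModule.rTensor (A := S) A J (LinearMap.range f).mkQ
  let F := AlgebraTensorModule.rTensor (A := S) A J f
  obtain ⟨y₁, rfl⟩ : ∃ y₁, Q y₁ = y := LinearMap.rTensor_surjective J
    (g := (LinearMap.range f).mkQ.restrictScalars A) (LinearMap.range f).mkQ_surjective y
  let ev : ∀ {P : Type u} [AddCommGroup P] [Module A P], P ⊗[A] J → P := fun {P} _ _ z =>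
    TensorProduct.rid A P (J.subtype.lTensor P z)
  have hevQ : ∀ z : N ⊗[A] J, ev (Q z) = (LinearMap.range f).mkQ (ev z) := by
    intro z
    induction z with
    | zero => simp [ev]
    | add a b ha hb => simp only [ev, map_add] at ha hb ⊢; rw [ha, hb]
    | tmul n c =>
      simp only [ev, Q, AlgebraTensorModule.rTensor_tmul, LinearMap.lTensor_tmul, Submodule.subtype_apply,
        TensorProduct.rid_tmul]
      exact (LinearMap.map_smul_of_tower _ _ _).symm
  have hevF : ∀ z : X ⊗[A] J, ev (F z) = f (ev z) := by
    intro z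
    induction z with
    | zero => simp [ev]
    | add a b ha hb => simp only [ev, map_add] at ha hb ⊢; rw [ha, hb]
    | tmul n c =>
      simp only [ev, F, AlgebraTensorModule.rTensor_tmul, LinearMap.lTensor_tmul, Submodule.subtype_apply,
        TensorProduct.rid_tmul]
      exact (LinearMap.map_smul_of_tower _ _ _).symm
  obtain ⟨x, hx⟩ : ∃ x, f x = ev y₁ := by
    have h0 : ev (Q y₁) = 0 := by simp only [ev, hy, map_zero]
    rw [hevQ] at h0
    exact (Submodule.Quotient.mk_eq_zero _).1 h0
  have hkill : ∀ z : N ⊗[A] J, (1 : A ⧸ J) ⊗ₜ[A] ev z = 0 := by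
    intro z
    induction z with
    | zero => simp [ev]
    | add a b ha hb => simp only [ev, map_add] at ha hb ⊢; rw [tmul_add, ha, hb, add_zero]
    | tmul n c =>
      simp only [ev, LinearMap.lTensor_tmul, Submodule.subtype_apply, TensorProduct.rid_tmul]
      rw [tmul_smul, smul_tmul', Algebra.smul_def, mul_one, Ideal.Quotient.algebraMap_eq,
        Ideal.Quotient.eq_zero_iff_mem.2 c.2, zero_tmul]
  obtain ⟨t, ht, h1⟩ := huniv J ((1 : A ⧸ J) ⊗ₜ[A] x) (by
    rw [LinearMap.lTensor_tmul]
    show (1 : A ⧸ J) ⊗ₜ[A] f x = 0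
    rw [hx, hkill])
  replace h1 : (1 : A ⧸ J) ⊗ₜ[A] (t • x) = 0 := h1
  have h2 : t • x ∈ J • (⊤ : Submodule A X) := mem_smul_top_of_tmul_one J _ (by
    simpa using congr(TensorProduct.comm A (A ⧸ J) X $h1))
  obtain ⟨x₁, hx₁⟩ : ∃ x₁ : X ⊗[A] J, ev x₁ = t • x := by
    clear h1 hx
    generalize t • x = z at h2 ⊢
    induction h2 using Submodule.smul_induction_on' with
    | smul c hc v _ => exact ⟨v ⊗ₜ ⟨c, hc⟩, by simp [ev]⟩
    | add v _ w _ hv hw =>
      obtain ⟨a, ha⟩ := hv
      obtain ⟨b, hb⟩ := hw
      exact ⟨a + b, by simp only [ev, map_add] at ha hb ⊢; rw [ha, hb]⟩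
  have hevS : ∀ z : N ⊗[A] J, ev (t • z) = t • ev z := by
    intro z
    induction z with
    | zero => simp [ev]
    | add a b ha hb => simp only [ev, smul_add, map_add] at ha hb ⊢; rw [ha, hb]
    | tmul n c => simp [ev, smul_tmul', smul_comm t]
  have h3 : J.subtype.lTensor N (t • y₁ - F x₁) = 0 := (TensorProduct.rid A N).injective (by
    rw [map_zero, map_sub, map_sub, sub_eq_zero]
    show ev (t • y₁) = ev (F x₁)
    rw [hevF, hx₁, hevS, map_smul, hx])
  obtain ⟨s, hs, hsy⟩ := hN J _ h3
  refine ⟨s * t, mul_mem hs ht, ?_⟩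
  have hQF : ∀ z : X ⊗[A] J, Q (F z) = 0 := by
    intro z
    induction z with
    | zero => simp
    | add a b ha hb => rw [map_add, map_add, ha, hb, add_zero]
    | tmul n c =>
      simp only [F, Q, AlgebraTensorModule.rTensor_tmul]
      rw [show (LinearMap.range f).mkQ (f n) = 0 from (Submodule.Quotient.mk_eq_zero _).2 ⟨n, rfl⟩, zero_tmul]
  have := congr(Q $hsy)
  rwa [map_smul, map_zero, map_sub, hQF, sub_zero, map_smul, ← mul_smul] at this

/-- An extension of modules which are flat at a place, the first map being injective there, is flat there. -/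
theorem flat_localized_of_extension [Module.Flat A X]
    (hK : Module.Flat A (LocalizedModule W (N ⧸ LinearMap.range f)))
    (hinj : ∀ x, f x = 0 → ∃ t ∈ W, t • x = 0) : Module.Flat A (LocalizedModule W N) := by
  rw [FlatModel.flat_localized_iff W (LocalizedModule.mkLinearMap W N)]
  rw [FlatModel.flat_localized_iff W (LocalizedModule.mkLinearMap W (N ⧸ LinearMap.range f))] at hK
  intro J y hy
  let Q := AlgebraTensorModule.rTensor (A := S) A J (LinearMap.range f).mkQ
  let F := AlgebraTensorModule.rTensor (A := S) A J f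
  have hQ : J.subtype.lTensor _ (Q y) = 0 := by
    have : J.subtype.lTensor (N ⧸ LinearMap.range f) (Q y) =
        AlgebraTensorModule.rTensor (A := S) A A (LinearMap.range f).mkQ (J.subtype.lTensor N y) := by
      clear hy
      induction y with
      | zero => simp
      | add a b ha hb => simp only [map_add, ha, hb]
      | tmul n c => simp only [Q, AlgebraTensorModule.rTensor_tmul, LinearMap.lTensor_tmul]
    rw [this, hy, map_zero]
  obtain ⟨s, hs, hsy⟩ := hK J _ hQ
  rw [← map_smul] at hsy
  obtain ⟨x₁, hx₁⟩ := ((rTensor_exact J (f := f.restrictScalars A) (g := (LinearMap.range f).mkQ.restrictScalars A)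
    (fun z => ⟨fun hz => (Submodule.Quotient.mk_eq_zero (LinearMap.range f)).1 hz,
      fun hz => (Submodule.Quotient.mk_eq_zero (LinearMap.range f)).2 hz⟩)
    (LinearMap.range f).mkQ_surjective) (s • y)).1 hsy
  have hnat : ∀ (t : S) (z : X ⊗[A] J), TensorProduct.rid A X (J.subtype.lTensor X (t • z)) =
      t • TensorProduct.rid A X (J.subtype.lTensor X z) := by
    intro t z
    induction z with
    | zero => simp
    | add a b ha hb => simp only [smul_add, map_add, ha, hb]
    | tmul n c => simp [smul_tmul', smul_comm t]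
  have hnatN : ∀ (t : S) (z : N ⊗[A] J), J.subtype.lTensor N (t • z) = t • J.subtype.lTensor N z :=
    fun t z => (AlgebraTensorModule.lTensor S N J.subtype).map_smul t z
  have h0 : f (TensorProduct.rid A X (J.subtype.lTensor X x₁)) = 0 := by
    have h1 : TensorProduct.rid A N (J.subtype.lTensor N ((f.restrictScalars A).rTensor J x₁)) = 0 := by
      rw [hx₁, hnatN, hy, smul_zero, map_zero]
    rw [← h1]
    clear h1 hx₁
    induction x₁ with
    | zero => simp
    | add a b ha hb => simp only [map_add, ha, hb]
    | tmul n c => simp [LinearMap.map_smul_of_tower]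
  obtain ⟨t, ht, htx⟩ := hinj _ h0
  have h2 : t • x₁ = 0 := Module.Flat.lTensor_preserves_injective_linearMap J.subtype Subtype.val_injective
    ((TensorProduct.rid A X).injective (by rw [hnat, htx, map_zero, map_zero]))
  refine ⟨t * s, mul_mem ht hs, ?_⟩
  rw [mul_smul, ← hx₁]
  have := congr(F $h2)
  rw [map_smul, map_zero] at this
  exact this

end Extension

section GeomIntegral

variable {A S : Type u} [CommRing A] [CommRing S] [Algebra A S]

/-- The relative assassin at an integral fibre lies below every point of the fibre. -/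
theorem assassin_le_of_isDomain (p : Ideal A) [p.IsPrime] [IsDomain (p.ResidueField ⊗[A] S)] (Q : Ideal S)
    [Q.IsPrime] (hass : FibAss p S Q) (P : Ideal S) [P.IsPrime] [P.LiesOver p] : Q ≤ P := by
  obtain ⟨m, hm⟩ := hass
  have hiff : ∀ s : S, ((1 : p.ResidueField) ⊗ₜ[A] (s • m) = 0) ↔ s ∈ Q := by
    intro s
    rw [hm]
    constructor
    · intro h0
      obtain ⟨b, hb, hbX⟩ := exists_smul_tmul_eq_zero p (s • m) h0
      refine ⟨b, hb, mem_smul_top_of_tmul_one p _ ?_⟩
      rw [← smul_tmul']
      refine hbX (A ⧸ p) 1 fun a ha => ?_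
      rw [Algebra.smul_def, Ideal.Quotient.algebraMap_eq, Ideal.Quotient.eq_zero_iff_mem.2 ha, zero_mul]
    · rintro ⟨b, hb, hmem⟩
      have h0 : b • ((1 : p.ResidueField) ⊗ₜ[A] (s • m)) = 0 := by
        rw [← tmul_smul]
        generalize b • s • m = z at hmem
        induction hmem using Submodule.smul_induction_on' with
        | smul a ha z _ =>
          rw [tmul_smul, smul_tmul', Algebra.smul_def, Ideal.algebraMap_residueField_eq_zero.2 ha, zero_mul, zero_tmul]
        | add x _ z _ hx hz => rw [tmul_add, hx, hz, add_zero]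
      rw [← algebraMap_smul p.ResidueField b] at h0
      exact (isUnit_iff_ne_zero.2 fun h' => hb (Ideal.algebraMap_residueField_eq_zero.1 h')).smul_eq_zero.1 h0
  intro t ht
  have hmul : ((1 : p.ResidueField) ⊗ₜ[A] t : p.ResidueField ⊗[A] S) * ((1 : p.ResidueField) ⊗ₜ[A] m) = 0 := by
    rw [Algebra.TensorProduct.tmul_mul_tmul, one_mul]
    exact (hiff t).2 ht
  have ht0 : ((1 : p.ResidueField) ⊗ₜ[A] t : p.ResidueField ⊗[A] S) = 0 :=
    (mul_eq_zero.1 hmul).resolve_right fun hm0 => ‹Q.IsPrime›.ne_top ((Ideal.eq_top_iff_one Q).2 ((hiff 1).1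
      (by rwa [one_smul])))
  let g : p.ResidueField ⊗[A] S →ₐ[A] P.ResidueField := Algebra.TensorProduct.productMap
    (Ideal.ResidueField.mapₐ p P (Algebra.ofId A S) (P.over_def p)) (IsScalarTower.toAlgHom A S P.ResidueField)
  have := congr(g $ht0)
  simp only [g, Algebra.TensorProduct.productMap_apply_tmul, map_one, one_mul, map_zero] at this
  exact Ideal.algebraMap_residueField_eq_zero.1 this

/-- The relative assassin of an algebra with geometrically integral fibres lies below every point of the fibre. -/
theorem assassin_le_of_geomIntegral (h : FlatCA.GeomIntegralFibres A S) (p : Ideal A) [p.IsPrime] (Q : Ideal S)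
    [Q.IsPrime] (hass : FibAss p S Q) (P : Ideal S) [P.IsPrime] [P.LiesOver p] : Q ≤ P :=
  have := isDomain_tensor_of_geomIntegral h p.ResidueField
  assassin_le_of_isDomain p Q hass P

variable [Algebra.FiniteType A S] [Module.Flat A S]

/-- An element of `Z ⊗ S^ι` killed by an element outside some point of each fibre over the weakly associated
primes of `Z` vanishes. -/
theorem eq_zero_of_lsmul' (h : ∀ (K : Type u) [Field K] [Algebra A K], IsDomain (K ⊗[A] S)) {Z : Type u}
    [AddCommGroup Z] [Module A Z] {ι : Type u} [Fintype ι] [DecidableEq ι] (w : Z ⊗[A] (ι → S)) (t : S)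
    (ht : ∀ p ∈ FlatCA.weakAss A Z, ∃ P : Ideal S, P.IsPrime ∧ P.LiesOver p ∧ t ∉ P)
    (hw : ((LinearMap.lsmul S (ι → S) t).restrictScalars A).lTensor Z w = 0) : w = 0 := by
  apply (TensorProduct.piRight A A Z fun _ : ι => S).injective
  rw [map_zero]
  funext i
  have key : ∀ x : Z ⊗[A] (ι → S), TensorProduct.piRight A A Z (fun _ : ι => S) x i =
      (LinearMap.proj i : (ι → S) →ₗ[A] S).lTensor Z x := by
    intro x
    induction x with
    | zero => simp
    | add a b ha hb => simp only [map_add, Pi.add_apply, ha, hb]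
    | tmul c n => simp
  rw [key, Pi.zero_apply]
  refine eq_zero_of_assassins (S := S) Z _ fun Q _ hZ hass => ?_
  have : (Q.under A).IsPrime := inferInstance
  obtain ⟨P, _, _, htP⟩ := ht (Q.under A) hZ
  have := h (Q.under A).ResidueField
  refine ⟨P, assassin_le_of_isDomain (Q.under A) Q hass P, t, htP, ?_⟩
  have := congr((LinearMap.proj i : (ι → S) →ₗ[A] S).lTensor Z $hw)
  rw [map_zero, ← LinearMap.lTensor_comp_apply] at this
  rw [← LinearMap.lTensor_comp_apply]
  exact this

/-- `eq_zero_of_lsmul'` for geometrically integral fibres. -/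
theorem eq_zero_of_lsmul (h : FlatCA.GeomIntegralFibres A S) {Z : Type u} [AddCommGroup Z] [Module A Z]
    {ι : Type u} [Fintype ι] [DecidableEq ι] (w : Z ⊗[A] (ι → S)) (t : S)
    (ht : ∀ p ∈ FlatCA.weakAss A Z, ∃ P : Ideal S, P.IsPrime ∧ P.LiesOver p ∧ t ∉ P)
    (hw : ((LinearMap.lsmul S (ι → S) t).restrictScalars A).lTensor Z w = 0) : w = 0 :=
  eq_zero_of_lsmul' (fun K _ _ => isDomain_tensor_of_geomIntegral h K) w t ht hw

end GeomIntegral

section Generic

variable {A S : Type u} [CommRing A] [CommRing S] [Algebra A S] (rr : Ideal A) [rr.IsPrime]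
  [(rr.map (algebraMap A S)).IsPrime] [(rr.map (algebraMap A S)).LiesOver rr]
  {N : Type u} [AddCommGroup N] [Module A N] [Module S N] [IsScalarTower A S N]
  {ι : Type u} [Fintype ι] [DecidableEq ι] (α : (ι → S) →ₗ[S] N)
  (hα : Function.Injective (α.baseChange (rr.map (algebraMap A S)).ResidueField))

include hα in
/-- Injectivity at the generic point of the fibre. -/
theorem fibre_injective_generic (w : rr.ResidueField ⊗[A] (ι → S))
    (hw : (((LocalizedModule.mkLinearMap (rr.map (algebraMap A S)).primeCompl N) ∘ₗ α).restrictScalars A).lTensor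
      rr.ResidueField w = 0) : w = 0 := by
  classical
  let P := rr.map (algebraMap A S)
  have hden : ∃ r ∉ rr, ∃ x : ι → S, r • w = (1 : rr.ResidueField) ⊗ₜ[A] x := by
    clear hw
    induction w with
    | zero => exact ⟨1, fun h1 => ‹rr.IsPrime›.ne_top ((Ideal.eq_top_iff_one rr).2 h1), 0, by simp⟩
    | add a b ha hb =>
      obtain ⟨r, hr, m, hm⟩ := ha
      obtain ⟨r', hr', m', hm'⟩ := hb
      refine ⟨r * r', Ideal.IsPrime.mul_notMem ‹_› hr hr', r' • m + r • m', ?_⟩
      rw [smul_add, tmul_add, tmul_smul, tmul_smul, ← hm, ← hm', smul_smul, smul_smul, mul_comm r' r]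
    | tmul c x =>
      obtain ⟨c₀, rfl⟩ := IsLocalRing.residue_surjective (R := Localization.AtPrime rr) c
      obtain ⟨⟨b, s⟩, hbs⟩ := IsLocalization.surj rr.primeCompl c₀
      refine ⟨s, s.2, b • x, ?_⟩
      rw [tmul_smul, smul_tmul', smul_tmul', Algebra.smul_def, Algebra.smul_def, mul_one, mul_comm]
      congr 1
      have h1 := congr(IsLocalRing.residue (Localization.AtPrime rr) $hbs)
      rw [map_mul] at h1
      exact h1
  obtain ⟨r, hr, x, hx⟩ := hden
  have hunit : ∀ z : rr.ResidueField ⊗[A] (ι → S), r • z = 0 → z = 0 := fun z hz => by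
    rw [← algebraMap_smul rr.ResidueField r z] at hz
    exact (isUnit_iff_ne_zero.2 fun h0 => hr (Ideal.algebraMap_residueField_eq_zero.1 h0)).smul_eq_zero.1 hz
  refine hunit w ?_
  rw [hx]
  have h0 : ((LocalizedModule.mkLinearMap P.primeCompl N).restrictScalars A).lTensor rr.ResidueField
      ((1 : rr.ResidueField) ⊗ₜ[A] α x) = 0 := by
    have := congr(r • $hw)
    rw [← map_smul, hx, smul_zero] at this
    exact this
  obtain ⟨t, ht, htx⟩ := exists_smul_eq_zero_of_lTensor P.primeCompl _ _ h0
  obtain ⟨s, hs, hsX⟩ := exists_smul_tmul_eq_zero rr (t • α x) htx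
  have hmem : (algebraMap A S s * t) • α x ∈ P • (⊤ : Submodule S N) := by
    rw [mul_smul, algebraMap_smul]
    refine AssFiber.smul_mem_pN rr (S := S) N (mem_smul_top_of_tmul_one rr _ ?_)
    rw [← smul_tmul']
    refine hsX (A ⧸ rr) 1 fun a ha => ?_
    rw [Algebra.smul_def, Ideal.Quotient.algebraMap_eq, Ideal.Quotient.eq_zero_iff_mem.2 ha, zero_mul]
  have h1 : (1 : P.ResidueField) ⊗ₜ[S] ((algebraMap A S s * t) • α x) = 0 := by
    generalize (algebraMap A S s * t) • α x = z at hmem
    induction hmem using Submodule.smul_induction_on' with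
    | smul a ha z _ =>
      rw [tmul_smul, smul_tmul', Algebra.smul_def, Ideal.algebraMap_residueField_eq_zero.2 ha, zero_mul, zero_tmul]
    | add u _ z _ hu hz => rw [tmul_add, hu, hz, add_zero]
  have h2 : (1 : P.ResidueField) ⊗ₜ[S] ((algebraMap A S s * t) • x) = 0 := hα (by
    rw [map_zero, LinearMap.baseChange_tmul, map_smul, h1])
  have h3 : ∀ i, x i ∈ P := fun i => by
    have := congr(TensorProduct.piScalarRight S S P.ResidueField ι $h2 i)
    rw [TensorProduct.piScalarRight_apply, TensorProduct.piScalarRightHom_tmul, map_zero, Pi.zero_apply] at this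
    replace this : ((algebraMap A S s * t) • x i) • (1 : P.ResidueField) = 0 := this
    rw [Algebra.smul_def, mul_one, Ideal.algebraMap_residueField_eq_zero, smul_eq_mul] at this
    refine (‹P.IsPrime›.mem_or_mem this).resolve_left (Ideal.IsPrime.mul_notMem ‹_› (fun h' => hs ?_) ht)
    rw [(rr.map (algebraMap A S)).over_def rr]
    exact h'
  have hk : ∀ (i : ι) (z : S), z ∈ rr • (⊤ : Submodule A S) → (1 : rr.ResidueField) ⊗ₜ[A] (Pi.single i z : ι → S) = 0 := by
    intro i z hz
    induction hz using Submodule.smul_induction_on' with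
    | smul a ha z _ =>
      rw [Pi.single_smul, tmul_smul, smul_tmul', Algebra.smul_def, Ideal.algebraMap_residueField_eq_zero.2 ha,
        zero_mul, zero_tmul]
    | add u _ z _ hu hz => rw [Pi.single_add, tmul_add, hu, hz, add_zero]
  rw [← Finset.univ_sum_single x, tmul_sum]
  refine Finset.sum_eq_zero fun i _ => hk i (x i) ?_
  rw [Ideal.smul_top_eq_map]
  exact h3 i

variable [Algebra.FiniteType A S] [Module.Finite S N]

include hα in
/-- Where the target is flat, elements killed by `α` die at the generic point of the fibre. -/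
theorem killed_generic (hflat : Module.Flat A (LocalizedModule (rr.map (algebraMap A S)).primeCompl N))
    {Z : Type u} [AddCommGroup Z] [Module A Z] (w : Z ⊗[A] (ι → S))
    (hw : (α.restrictScalars A).lTensor Z w = 0) :
    ∃ t ∉ rr.map (algebraMap A S), ((LinearMap.lsmul S (ι → S) t).restrictScalars A).lTensor Z w = 0 := by
  let P := rr.map (algebraMap A S)
  let lN := LocalizedModule.mkLinearMap P.primeCompl N
  let lX := LocalizedModule.mkLinearMap P.primeCompl (ι → S)
  let u := lN ∘ₗ α
  let lM := LocalizedModule.mkLinearMap P.primeCompl (LocalizedModule P.primeCompl N)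
  obtain ⟨-, huniv, -, -⟩ := finite_at rr P u fun x hx =>
    ⟨1, (Ideal.ne_top_iff_one P).1 (Ideal.IsPrime.ne_top ‹_›), by rw [fibre_injective_generic rr α hα x hx, map_zero]⟩
  refine exists_smul_eq_zero_of_lTensor P.primeCompl lX w (huniv Z ?_)
  rw [map_zero, ← LinearMap.lTensor_comp_apply]
  have : ((IsLocalizedModule.map P.primeCompl lX lM u).restrictScalars A) ∘ₗ (lX.restrictScalars A) =
      ((lM ∘ₗ lN).restrictScalars A) ∘ₗ (α.restrictScalars A) :=
    LinearMap.ext fun x => IsLocalizedModule.map_apply _ lX lM u x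
  rw [this, LinearMap.lTensor_comp_apply, hw, map_zero]

/-- Surjectivity at the generic point of the fibre. -/
theorem exists_smul_mem_range (hα' : Function.Surjective (α.baseChange (rr.map (algebraMap A S)).ResidueField))
    (n : N) : ∃ t ∉ rr.map (algebraMap A S), t • n ∈ LinearMap.range α := by
  let P := rr.map (algebraMap A S)
  let π := (LinearMap.range α).mkQ
  have hz : ∀ x : P.ResidueField ⊗[S] (ι → S), π.lTensor P.ResidueField (α.baseChange P.ResidueField x) = 0 := by
    intro x
    induction x with
    | zero => simp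
    | add a b ha hb => rw [map_add, map_add, ha, hb, add_zero]
    | tmul c z =>
      rw [LinearMap.baseChange_tmul, LinearMap.lTensor_tmul,
        show π (α z) = 0 from (Submodule.Quotient.mk_eq_zero _).2 ⟨z, rfl⟩, tmul_zero]
  have : Subsingleton (P.ResidueField ⊗[S] (N ⧸ LinearMap.range α)) := by
    refine subsingleton_of_forall_eq 0 fun z => ?_
    obtain ⟨w, rfl⟩ := LinearMap.lTensor_surjective P.ResidueField (g := π) (Submodule.mkQ_surjective _) z
    obtain ⟨x, rfl⟩ := hα' w
    exact hz x
  have hsupp : ¬ (⟨P, ‹_›⟩ : PrimeSpectrum S) ∈ Module.support S (N ⧸ LinearMap.range α) := by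
    rw [Module.mem_support_iff_nontrivial_residueField_tensorProduct, not_nontrivial_iff_subsingleton]
    exact this
  rw [Module.notMem_support_iff'] at hsupp
  obtain ⟨t, ht, ht0⟩ := hsupp (π n)
  exact ⟨t, ht, (Submodule.Quotient.mk_eq_zero _).1 ((LinearMap.map_smul π t n).trans ht0)⟩

end Generic

/-- A finite module has a basis at the generic point of a fibre, given by a map from a free module. -/
theorem exists_generic_basis {S : Type u} [CommRing S] (P : Ideal S) [P.IsPrime] (N : Type u) [AddCommGroup N]
    [Module S N] [Module.Finite S N] :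
    ∃ (r : ℕ) (α : (Fin r → S) →ₗ[S] N), Function.Bijective (α.baseChange P.ResidueField) := by
  let V := P.ResidueField ⊗[S] N
  let g : N →ₗ[S] V := TensorProduct.mk S P.ResidueField N 1
  obtain ⟨f, hfs, hfspan, hfli⟩ := Submodule.exists_fun_fin_finrank_span_eq P.ResidueField (Set.range g)
  choose n hn using hfs
  let r := Module.finrank P.ResidueField (Submodule.span P.ResidueField (Set.range g))
  have htop : Submodule.span P.ResidueField (Set.range g) = ⊤ := by
    refine eq_top_iff.2 fun z hz => ?_
    clear hz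
    induction z using TensorProduct.induction_on with
    | zero => exact zero_mem _
    | add a b ha hb => exact add_mem ha hb
    | tmul c x =>
      rw [show (c ⊗ₜ[S] x : V) = c • g x by
        show _ = c • ((1 : P.ResidueField) ⊗ₜ[S] x)
        rw [smul_tmul', smul_eq_mul, mul_one]]
      exact Submodule.smul_mem _ _ (Submodule.subset_span ⟨x, rfl⟩)
  let b : Module.Basis (Fin r) P.ResidueField V := Module.Basis.mk hfli (by rw [hfspan, htop])
  refine ⟨r, Fintype.linearCombination S n, ?_⟩
  have : (Fintype.linearCombination S n).baseChange P.ResidueField =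
      (b.equivFun.symm.toLinearMap ∘ₗ (TensorProduct.piScalarRight S P.ResidueField P.ResidueField (Fin r)).toLinearMap) := by
    apply LinearMap.ext
    intro z
    induction z using TensorProduct.induction_on with
    | zero => simp
    | add a c ha hc => simp only [map_add, ha, hc]
    | tmul c x =>
      simp only [LinearMap.baseChange_tmul, LinearMap.comp_apply, LinearEquiv.coe_coe,
        TensorProduct.piScalarRight_apply, TensorProduct.piScalarRightHom_tmul, Module.Basis.equivFun_symm_apply,
        Fintype.linearCombination_apply, b, Module.Basis.coe_mk, tmul_sum, ← hn, g, TensorProduct.mk_apply,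
        smul_tmul', smul_eq_mul, mul_one]
      exact Finset.sum_congr rfl fun i _ => by rw [TensorProduct.mk_apply, smul_tmul', smul_eq_mul, mul_one, ← smul_tmul]
  rw [this]
  exact (b.equivFun.symm.bijective).comp (TensorProduct.piScalarRight S P.ResidueField P.ResidueField (Fin r)).bijective

end Groth.Agent.RGCore
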