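import Groth.Agent.RGCore.GeomIntProjective
import Groth.Agent.FlatMisc.SpreadSmooth
import Mathlib.RingTheory.Spectrum.Prime.Chevalley
import Mathlib.RingTheory.Smooth.Fiber
import Mathlib.RingTheory.PolynomialAlgebra
import Mathlib.RingTheory.Localization.Algebra

/-!
Flat finitely presented algebras with geometrically integral fibres are projective modules.
-/

set_option autoImplicit false
set_option linter.unusedSectionVars false

universe u

open TensorProduct Polynomial

namespace Groth.Agent.RGCore

variable {R B : Type u} [CommRing R] [CommRing B] [Algebra R B] [Algebra.FinitePresentation R B] [Module.Flat R B]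
  (H : ∀ (K : Type u) [Field K] [Algebra R K], IsDomain (K ⊗[R] B))

include H in
/-- Every fibre meets a smooth basic open. -/
theorem exists_smooth_basicOpen (p : Ideal R) [p.IsPrime] :
    ∃ h : B, Algebra.Smooth R (Localization.Away h) ∧ ∃ P : Ideal B, P.IsPrime ∧ P.LiesOver p ∧ h ∉ P := by
  let k := p.ResidueField
  let F := p.Fiber B
  have : IsDomain F := H k
  have : Algebra.FiniteType k F := inferInstance
  have : Algebra.IsGeometricallyReduced k F := by
    rw [Algebra.isGeometricallyReduced_field_iff]
    have := H (AlgebraicClosure k)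
    exact isReduced_of_injective (Algebra.TensorProduct.cancelBaseChange R k k (AlgebraicClosure k) B)
      (AlgEquiv.injective _)
  obtain ⟨g', hg', hsm⟩ := FlatMisc.SpreadRed.exists_smooth_nzd k F
  obtain ⟨r, hr, b, hb⟩ := Ideal.Fiber.exists_smul_eq_one_tmul _ g'
  have hunit : IsUnit (algebraMap R F r) := by
    rw [IsScalarTower.algebraMap_apply R k F]
    exact (IsUnit.mk0 _ fun h => hr (Ideal.algebraMap_residueField_eq_zero.1 h)).map _
  let incl : B →ₐ[R] F := Algebra.TensorProduct.includeRight
  have hassoc : Associated g' (incl b) := by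
    refine ⟨hunit.unit, ?_⟩
    rw [show incl b = r • g' from hb.symm, Algebra.smul_def, IsUnit.unit_spec, mul_comm]
  have hb0 : incl b ≠ 0 := fun h => nonZeroDivisors.ne_zero hg' (by
    rw [← hassoc.eq_zero_iff] at h; exact h)
  let P : Ideal B := RingHom.ker incl
  have hP : P.IsPrime := RingHom.ker_isPrime _
  have hPp : P.LiesOver p := ⟨by
    ext a
    rw [Ideal.mem_under, RingHom.mem_ker, AlgHom.commutes, IsScalarTower.algebraMap_apply R k F,
      map_eq_zero_iff _ (algebraMap k F).injective, Ideal.algebraMap_residueField_eq_zero]⟩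
  have hbP : b ∉ P := hb0
  -- the fibre of the localisation is smooth
  let S := Localization.Away b
  have : Algebra.FinitePresentation B S := IsLocalization.Away.finitePresentation b
  have : Algebra.FinitePresentation R S := Algebra.FinitePresentation.trans R B S
  letI : Algebra (k ⊗[R] B) (k ⊗[R] S) :=
    (Algebra.TensorProduct.map (AlgHom.id R k) (IsScalarTower.toAlgHom R B S)).toAlgebra
  have : IsScalarTower k (k ⊗[R] B) (k ⊗[R] S) := .of_algebraMap_eq fun x => by
    simp [RingHom.algebraMap_toAlgebra]
  have := IsLocalization.tensorProduct_tensorProduct_right R k (Submonoid.powers b) S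
    (by ext; simp [RingHom.algebraMap_toAlgebra])
  rw [show (Submonoid.powers b).map (Algebra.TensorProduct.includeRight (R := R) (A := k)) =
    Submonoid.powers (incl b) from Submonoid.map_powers _ _] at this
  have : IsLocalization.Away g' (p.Fiber S) := by
    have : IsLocalization.Away (incl b) (p.Fiber S) := this
    exact IsLocalization.Away.of_associated hassoc.symm
  have : Algebra.FormallySmooth k (p.Fiber S) :=
    .of_equiv ((IsLocalization.algEquiv (Submonoid.powers g') (Localization.Away g') (p.Fiber S)).restrictScalars k)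
  have hdisj : Disjoint (Submonoid.powers b : Set B) (P : Set B) :=
    (Ideal.disjoint_powers_iff_notMem_of_isPrime b).2 hbP
  let q : Ideal S := P.map (algebraMap B S)
  have : q.IsPrime := IsLocalization.isPrime_of_isPrime_disjoint _ _ P hP hdisj
  have hqP : q.comap (algebraMap B S) = P :=
    IsLocalization.under_map_of_isPrime_disjoint (Submonoid.powers b) S hP hdisj
  have : q.LiesOver p := ⟨by
    rw [hPp.over, Ideal.under, Ideal.under, IsScalarTower.algebraMap_eq R B S, ← Ideal.comap_comap, hqP]⟩
  have hq : Algebra.IsSmoothAt R q := Algebra.IsSmoothAt.of_formallySmooth_fiber p q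
  have : Algebra.IsSmoothAt R P := by
    have h1 : (⟨q, inferInstance⟩ : PrimeSpectrum S) ∈ Algebra.smoothLocus R S := hq
    rw [← Algebra.smoothLocus_comap_of_isLocalization (A := B) b] at h1
    have h2 : PrimeSpectrum.comap (algebraMap B S) ⟨q, inferInstance⟩ = ⟨P, hP⟩ := PrimeSpectrum.ext hqP
    rw [Set.mem_preimage, h2] at h1
    exact h1
  obtain ⟨h, hhP, hsmooth⟩ := Algebra.IsSmoothAt.exists_notMem_smooth R P
  exact ⟨h, hsmooth, P, hP, hPp, hhP⟩

include H in
/-- A flat finitely presented algebra with geometrically integral fibres is a projective module. -/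
theorem projective_of_isDomain_fibres : Module.Projective R B := by
  classical
  choose h hsm P hPprime hPp hhP using fun p : PrimeSpectrum R => exists_smooth_basicOpen H p.asIdeal
  let V : PrimeSpectrum R → Set (PrimeSpectrum R) := fun p =>
    PrimeSpectrum.comap (algebraMap R B) '' (PrimeSpectrum.basicOpen (h p) : Set (PrimeSpectrum B))
  have hV : ∀ p, IsOpen (V p) := fun p =>
    PrimeSpectrum.isOpenMap_comap_of_hasGoingDown_of_finitePresentation _ (PrimeSpectrum.basicOpen (h p)).2
  have hcov : ∀ p, p ∈ V p := fun p =>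
    ⟨⟨P p, hPprime p⟩, hhP p, PrimeSpectrum.ext (hPp p).over.symm⟩
  obtain ⟨s, hs⟩ := isCompact_univ.elim_finite_subcover V hV fun p _ => Set.mem_iUnion.2 ⟨p, hcov p⟩
  let l := s.toList
  let g : B[X] := ∑ i : Fin l.length, Polynomial.C (h (l.get i)) * X ^ (i : ℕ)
  have hcoeff : ∀ i : Fin l.length, g.coeff i = h (l.get i) := by
    intro i
    simp only [g, finset_sum_coeff, coeff_C_mul, coeff_X_pow]
    rw [Finset.sum_eq_single i (fun j _ hj => by rw [if_neg fun e => hj (Fin.ext e.symm), mul_zero])
      (fun hi => absurd (Finset.mem_univ i) hi), if_pos rfl, mul_one]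
  have : Algebra.FinitePresentation R B[X] := Algebra.FinitePresentation.trans R B B[X]
  have : Module.Flat R B[X] := Module.Flat.trans R B B[X]
  have HX : ∀ (K : Type u) [Field K] [Algebra R K], IsDomain (K ⊗[R] B[X]) := by
    intro K _ _
    have := H K
    let e : K ⊗[R] B[X] ≃ₐ[R] (K ⊗[R] B)[X] :=
      (Algebra.TensorProduct.congr AlgEquiv.refl (polyEquivTensor R B)).trans
        (((Algebra.TensorProduct.assoc R R R K B R[X]).symm).trans (polyEquivTensor R (K ⊗[R] B)).symm)
    exact Function.Injective.isDomain e.toAlgHom e.injective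
  have hg : ∀ (p : Ideal R) [p.IsPrime], ∃ Q : Ideal B[X], Q.IsPrime ∧ Q.LiesOver p ∧ g ∉ Q := by
    intro p hp
    obtain ⟨p', hp's, ⟨⟨P₀, hP₀⟩, hmem, hP₀p⟩⟩ : ∃ p' ∈ s, ⟨p, hp⟩ ∈ V p' := by
      simpa using hs (Set.mem_univ (⟨p, hp⟩ : PrimeSpectrum R))
    refine ⟨P₀.map Polynomial.C, Ideal.isPrime_map_C_of_isPrime, ⟨?_⟩, fun hgQ => ?_⟩
    · ext a
      have hpa : a ∈ p ↔ algebraMap R B a ∈ P₀ := by
        have := congr(PrimeSpectrum.asIdeal $hP₀p)
        rw [PrimeSpectrum.comap_asIdeal] at this
        rw [← show P₀.comap (algebraMap R B) = p from this, Ideal.mem_comap]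
      rw [hpa, Ideal.mem_under, Ideal.mem_map_C_iff]
      simp only [Polynomial.algebraMap_apply, coeff_C]
      exact ⟨fun h n => by split_ifs with hn; exacts [h, zero_mem _], fun h => by simpa using h 0⟩
    · obtain ⟨i, hi⟩ := List.get_of_mem (Finset.mem_toList.2 hp's)
      have := Ideal.mem_map_C_iff.1 hgQ i
      rw [hcoeff, hi] at this
      exact hmem this
  have : Algebra.Smooth R (Localization.Away g) := by
    rw [← Algebra.basicOpen_subset_smoothLocus_iff_smooth]
    intro Q hQ
    obtain ⟨i, hi⟩ : ∃ i : Fin l.length, Polynomial.C (h (l.get i)) ∉ Q.asIdeal := by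
      by_contra hcon
      push Not at hcon
      exact hQ (sum_mem fun i _ => Q.asIdeal.mul_mem_right _ (hcon i))
    refine ((Algebra.basicOpen_subset_smoothLocus_iff_smooth (R := R) (f := Polynomial.C (h (l.get i)))).2 ?_) hi
    let Bh := Localization.Away (h (l.get i))
    have := hsm (l.get i)
    letI : Algebra B[X] Bh[X] := Polynomial.algebra B Bh
    have hloc := Polynomial.isLocalization (Submonoid.powers (h (l.get i))) Bh
    rw [Submonoid.map_powers] at hloc
    have : IsScalarTower R B[X] Bh[X] := .of_algebraMap_eq fun r => by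
      simp [RingHom.algebraMap_toAlgebra, IsScalarTower.algebraMap_apply R B Bh]
    have : Algebra.Smooth Bh Bh[X] := ⟨inferInstance, inferInstance⟩
    have : Algebra.Smooth R Bh[X] := Algebra.Smooth.comp R Bh Bh[X]
    exact Algebra.Smooth.of_equiv
      ((IsLocalization.algEquiv (Submonoid.powers (Polynomial.C (h (l.get i)))) Bh[X] _).restrictScalars R)
  have := projective_of_smooth_basicOpen HX g hg
  exact Module.Projective.of_split ((Algebra.linearMap B B[X]).restrictScalars R)
    ((Polynomial.lcoeff B 0).restrictScalars R) (LinearMap.ext fun x => by simp)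

end Groth.Agent.RGCore
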