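import Groth.Agent.RGCore.SplitIdem
import Groth.Agent.RGCore.FactorAlg
import Groth.Agent.AssLib.NoEmbTensor
import Groth.Prelude.Def_FlatCA
import Mathlib.RingTheory.Etale.StandardEtale
import Mathlib.RingTheory.Smooth.Flat
import Mathlib.RingTheory.Etale.Kaehler
import Mathlib.RingTheory.Flat.TorsionFree
import Mathlib.RingTheory.Flat.FaithfullyFlat.Algebra
import Mathlib.RingTheory.TensorProduct.MvPolynomial
import Mathlib.RingTheory.Polynomial.UniqueFactorization
import Mathlib.RingTheory.AdjoinRoot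
import Mathlib.RingTheory.Ideal.GoingUp
import Mathlib.RingTheory.Flat.Stability
import Mathlib.FieldTheory.LinearDisjoint
import Mathlib.RingTheory.Spectrum.Prime.Chevalley
import Mathlib.RingTheory.Polynomial.Tower

/-!
Geometrically integral fibres after an elementary étale localisation, near a point of a standard étale algebra
over a polynomial ring whose residue field is purely transcendental.
-/

set_option autoImplicit false
set_option linter.unusedSectionVars false
set_option linter.style.haveILetI false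
set_option maxHeartbeats 1600000
set_option maxRecDepth 4000
set_option synthInstance.maxHeartbeats 200000

universe u

open TensorProduct FlatCA Polynomial

namespace Groth.Agent.RGCore

/-- The fibre of a standard étale algebra over a polynomial ring is a domain when the idempotent of each
factorisation is constant on it. -/
theorem isDomain_of_fractions {n : ℕ} {K : Type u} [Field K] {h : (MvPolynomial (Fin n) K)[X]} (hh : h.Monic)
    {L : Type u} [CommRing L] [Algebra (MvPolynomial (Fin n) K) L] [Nontrivial L]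
    [Module.Flat (MvPolynomial (Fin n) K) L] (θ : L) (hroot : aeval θ h = 0)
    (hder : IsUnit (aeval θ h.derivative))
    (hfrac : ∀ x : L, ∃ a b : (MvPolynomial (Fin n) K)[X], IsUnit (aeval θ b) ∧ x * aeval θ b = aeval θ a)
    (hidem : ∀ q q₂ : (MvPolynomial (Fin n) K)[X], q.Monic → q₂.Monic → q * q₂ = h →
      aeval θ (q.derivative * q₂) = 0 ∨ aeval θ (q.derivative * q₂) = aeval θ h.derivative) :
    IsDomain L := by
  obtain ⟨M, hM⟩ := Ideal.exists_maximal L
  obtain ⟨f, hf, hfh⟩ := UniqueFactorizationMonoid.exists_prime_factors h hh.ne_zero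
  have hprod : aeval θ f.prod ∈ M := by
    obtain ⟨u, hu⟩ := hfh
    have : aeval θ f.prod * aeval θ (u : (MvPolynomial (Fin n) K)[X]) = 0 := by rw [← map_mul, hu, hroot]
    rw [(u.isUnit.map (aeval θ)).mul_left_eq_zero] at this
    rw [this]; exact M.zero_mem
  rw [map_multiset_prod, hM.isPrime.multiset_prod_mem_iff_exists_mem] at hprod
  obtain ⟨x, hx, hxM⟩ := hprod
  obtain ⟨p, hp, rfl⟩ := Multiset.mem_map.1 hx
  have hph : p ∣ h := (Multiset.dvd_prod hp).trans hfh.dvd
  obtain ⟨c, hc⟩ := hph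
  have hlc : IsUnit p.leadingCoeff := by
    refine IsUnit.of_mul_eq_one c.leadingCoeff ?_
    rw [← Polynomial.leadingCoeff_mul, ← hc, hh.leadingCoeff]
  let q := C (↑hlc.unit⁻¹ : MvPolynomial (Fin n) K) * p
  have hqm : q.Monic := monic_C_mul_of_mul_leadingCoeff_eq_one (by simp)
  have hqp : Associated p q := ⟨(isUnit_C.2 hlc.unit⁻¹.isUnit).unit, mul_comm _ _⟩
  have hqprime : Prime q := hqp.prime (hf p hp)
  have hqM : aeval θ q ∈ M := by simp only [q, map_mul]; exact M.mul_mem_left _ hxM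
  obtain ⟨q₂, hq₂⟩ : q ∣ h := hqp.symm.dvd.trans ⟨c, hc⟩
  have hq₂m : q₂.Monic := hqm.of_mul_monic_left (hq₂ ▸ hh)
  have hd : aeval θ h.derivative = aeval θ (q.derivative * q₂) + aeval θ q * aeval θ q₂.derivative := by
    rw [hq₂, derivative_mul, map_add, map_mul (aeval θ) q]
  have hz : aeval θ (q.derivative * q₂) = aeval θ h.derivative := by
    refine (hidem q q₂ hqm hq₂m hq₂.symm).resolve_left fun h0 => ?_
    refine hM.ne_top (Ideal.eq_top_of_isUnit_mem _ ?_ hder)
    rw [hd, h0, zero_add]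
    exact M.mul_mem_right _ hqM
  have hqθ : aeval θ q = 0 := by
    have h2 : IsUnit (aeval θ q₂) := isUnit_of_mul_isUnit_right (map_mul (aeval θ) q.derivative q₂ ▸ hz ▸ hder)
    refine h2.mul_left_eq_zero.1 ?_
    rw [← map_mul, ← hq₂, hroot]
  have hBd : IsDomain (AdjoinRoot q) := AdjoinRoot.isDomain_of_prime hqprime
  let ψ : AdjoinRoot q →ₐ[MvPolynomial (Fin n) K] L := AdjoinRoot.liftAlgHom q (Algebra.ofId _ _) θ hqθ
  have hψ : ∀ a, ψ (AdjoinRoot.mk q a) = aeval θ a := fun a => by simp [ψ, aeval_def, Algebra.ofId]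
  have hinj : ∀ b, ψ b = 0 → b = 0 := by
    intro b hb
    by_contra hb0
    have : (AdjoinRoot.powerBasis' hqm).dim = q.natDegree := rfl
    haveI : Module.Finite (MvPolynomial (Fin n) K) (AdjoinRoot q) := hqm.finite_adjoinRoot
    obtain ⟨pol, hpm, hpe⟩ := Algebra.IsIntegral.isIntegral (R := MvPolynomial (Fin n) K) b
    have hne := Ideal.comap_ne_bot_of_root_mem (f := algebraMap (MvPolynomial (Fin n) K) (AdjoinRoot q))
      (I := RingHom.ker ψ.toRingHom) hb0 hb hpm.ne_zero hpe
    obtain ⟨r, hr, hr0⟩ := Submodule.exists_mem_ne_zero_of_ne_bot hne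
    have h1 : r • (1 : L) = 0 := by
      rw [Algebra.smul_def, mul_one, ← ψ.commutes]; exact hr
    exact one_ne_zero ((Module.Flat.isSMulRegular_of_nonZeroDivisors (mem_nonZeroDivisors_of_ne_zero hr0))
      (show r • (1 : L) = r • 0 by rw [h1, smul_zero]))
  have : NoZeroDivisors L := ⟨fun {x y} hxy => by
    obtain ⟨a, b, hb, hab⟩ := hfrac x
    obtain ⟨a', b', hb', hab'⟩ := hfrac y
    have h0 : ψ (AdjoinRoot.mk q a * AdjoinRoot.mk q a') = 0 := by
      rw [map_mul, hψ, hψ, ← hab, ← hab', mul_mul_mul_comm, hxy, zero_mul]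
    rcases mul_eq_zero.1 (hinj _ h0) with h | h
    · exact .inl (hb.mul_left_eq_zero.1 (by rw [hab, ← hψ, h, map_zero]))
    · exact .inr (hb'.mul_left_eq_zero.1 (by rw [hab', ← hψ, h, map_zero]))⟩
  exact NoZeroDivisors.to_isDomain L

/-- Purely transcendental and finite extensions are linearly disjoint. -/
theorem isField_tensor_of_purelyTranscendental {k E F : Type u} [Field k] [Field E] [Field F] [Algebra k E]
    [Algebra k F] [Algebra.IsAlgebraic k F] {ι : Type u} {x : ι → E} (hx : AlgebraicIndependent k x)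
    (htop : IntermediateField.adjoin k (Set.range x) = ⊤) : IsField (E ⊗[k] F) := by
  have : IsDomain (↥(IntermediateField.adjoin k (Set.range x)) ⊗[k] F) := AssLib.isDomain_tensor_adjoin hx
  let e : ↥(IntermediateField.adjoin k (Set.range x)) ⊗[k] F ≃ₐ[k] E ⊗[k] F :=
    Algebra.TensorProduct.congr ((IntermediateField.equivOfEq htop).trans IntermediateField.topEquiv) .refl
  have : IsDomain (E ⊗[k] F) := e.symm.toMulEquiv.isDomain
  exact Algebra.TensorProduct.isField_of_isAlgebraic k E F (.inr inferInstance)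

section Uniq

variable {R : Type u} [CommRing R] {A D : Type u} [CommRing A] [Algebra R A] [Module.Finite R A] [CommRing D]
  [Algebra R D]

/-- Over a point with purely transcendental residue field, a point of a finite algebra has only one lift. -/
theorem eq_of_purelyTranscendental (p : Ideal R) [p.IsPrime] (y : Ideal D) [y.IsPrime] [y.LiesOver p]
    (hpt : FlatCA.PurelyTranscendental p y) (Q₁ Q₂ : Ideal (D ⊗[R] A)) (hQ₁ : Q₁.IsPrime) (hQ₂ : Q₂.IsPrime)
    (h₁ : Q₁.comap Algebra.TensorProduct.includeLeftRingHom = y)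
    (h₂ : Q₂.comap Algebra.TensorProduct.includeLeftRingHom = y)
    (h12 : Q₁.comap Algebra.TensorProduct.includeRight.toRingHom =
      Q₂.comap Algebra.TensorProduct.includeRight.toRingHom) : Q₁ = Q₂ := by
  let a := Q₁.comap (Algebra.TensorProduct.includeRight : A →ₐ[R] D ⊗[R] A).toRingHom
  have hap : a.LiesOver p := ⟨by
    ext r
    rw [y.over_def p, ← h₁]
    show algebraMap R D r ⊗ₜ[R] (1 : A) ∈ Q₁ ↔
      (Algebra.TensorProduct.includeRight : A →ₐ[R] D ⊗[R] A) (algebraMap R A r) ∈ Q₁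
    rw [AlgHom.commutes, Algebra.TensorProduct.algebraMap_apply]⟩
  letI := (Ideal.ResidueField.mapₐ p y (Algebra.ofId R D) (y.over_def p)).toRingHom.toAlgebra
  letI := Localization.AtPrime.algebraOfLiesOver p a
  obtain ⟨ι, x, hx, htop⟩ := hpt
  have hF : IsField (y.ResidueField ⊗[p.ResidueField] a.ResidueField) :=
    isField_tensor_of_purelyTranscendental hx.1 htop
  have : IsScalarTower R p.ResidueField y.ResidueField := .of_algebraMap_eq fun r => ((Ideal.ResidueField.mapₐ p y (Algebra.ofId R D) (y.over_def p)).commutes r).symm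
  let Φ : D ⊗[R] A →ₐ[R] y.ResidueField ⊗[p.ResidueField] a.ResidueField :=
    Algebra.TensorProduct.lift
      (((Algebra.TensorProduct.includeLeft : y.ResidueField →ₐ[p.ResidueField] _).restrictScalars R).comp
        (IsScalarTower.toAlgHom R D y.ResidueField))
      (((Algebra.TensorProduct.includeRight : a.ResidueField →ₐ[p.ResidueField] _).restrictScalars R).comp
        (IsScalarTower.toAlgHom R A a.ResidueField)) fun _ _ => .all _ _
  have key : ∀ Q : Ideal (D ⊗[R] A), Q.IsPrime → Q.comap Algebra.TensorProduct.includeLeftRingHom = y →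
      Q.comap Algebra.TensorProduct.includeRight.toRingHom = a → Q = RingHom.ker Φ.toRingHom := by
    intro Q hQ hy ha
    haveI := hQ
    have hQp : Q.LiesOver p := ⟨by
      ext r
      rw [y.over_def p, ← hy]
      rfl⟩
    letI := Localization.AtPrime.algebraOfLiesOver p Q
    let fy : y.ResidueField →ₐ[R] Q.ResidueField :=
      Ideal.ResidueField.mapₐ y Q Algebra.TensorProduct.includeLeft hy.symm
    let fa : a.ResidueField →ₐ[R] Q.ResidueField :=
      Ideal.ResidueField.mapₐ a Q Algebra.TensorProduct.includeRight ha.symm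
    let fy' : y.ResidueField →ₐ[p.ResidueField] Q.ResidueField :=
      { fy.toRingHom with commutes' := fun r => DFunLike.congr_fun (Ideal.ResidueField.algHom_ext (I := p)
          (f := fy.comp (IsScalarTower.toAlgHom R p.ResidueField y.ResidueField))
          (g := IsScalarTower.toAlgHom R p.ResidueField Q.ResidueField) (Subsingleton.elim _ _)) r }
    let fa' : a.ResidueField →ₐ[p.ResidueField] Q.ResidueField :=
      { fa.toRingHom with commutes' := fun r => DFunLike.congr_fun (Ideal.ResidueField.algHom_ext (I := p)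
          (f := fa.comp (IsScalarTower.toAlgHom R p.ResidueField a.ResidueField))
          (g := IsScalarTower.toAlgHom R p.ResidueField Q.ResidueField) (Subsingleton.elim _ _)) r }
    let Ψ := Algebra.TensorProduct.lift fy' fa' fun _ _ => .all _ _
    letI := hF.toField
    have hΨ : (Ψ.restrictScalars R).comp Φ = IsScalarTower.toAlgHom R (D ⊗[R] A) Q.ResidueField := by
      ext d <;> simp [Ψ, Φ, fy', fa', fy, fa] <;> exact Ideal.ResidueField.map_algebraMap _ _ _ _ _
    ext t
    rw [RingHom.mem_ker, ← Ideal.algebraMap_residueField_eq_zero (I := Q)]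
    show algebraMap (D ⊗[R] A) Q.ResidueField t = 0 ↔ Φ t = 0
    rw [← map_eq_zero_iff Ψ.toRingHom Ψ.toRingHom.injective (x := Φ t),
      show Ψ.toRingHom (Φ t) = algebraMap (D ⊗[R] A) Q.ResidueField t from DFunLike.congr_fun hΨ t]
  rw [key Q₁ hQ₁ h₁ rfl, key Q₂ hQ₂ h₂ h12.symm]

end Uniq

section Main

variable {R : Type u} [CommRing R] {n : ℕ} {D : Type u} [CommRing D] [Algebra R D]
  [Algebra (MvPolynomial (Fin n) R) D] [IsScalarTower R (MvPolynomial (Fin n) R) D]

/-- The fibre at a field is a domain when the idempotent of the factorisations is constant. -/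
theorem isDomain_fibre (pres : StandardEtalePresentation (MvPolynomial (Fin n) R) D) {A : Type u} [CommRing A]
    [Algebra R A] (h₁ h₂ : (MvPolynomial (Fin n) A)[X])
    (Θ : (MvPolynomial (Fin n) A)[X] →+* D ⊗[R] A)
    (hΘC : ∀ a, Θ (C (MvPolynomial.C a)) = 1 ⊗ₜ a)
    (hΘX : ∀ j, Θ (C (MvPolynomial.X j)) = algebraMap (MvPolynomial (Fin n) R) D (MvPolynomial.X j) ⊗ₜ 1)
    (hΘZ : Θ X = pres.x ⊗ₜ 1)
    (huniv : ∀ (K : Type u) [Field K] [Algebra R K] (q₁ q₂ : (MvPolynomial (Fin n) K)[X]),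
      q₁.Monic → q₂.Monic → q₁ * q₂ = pres.P.f.map (MvPolynomial.map (algebraMap R K)) →
      ∃ φ : A →ₐ[R] K, h₁.map (MvPolynomial.map φ.toRingHom) = q₁ ∧
        h₂.map (MvPolynomial.map φ.toRingHom) = q₂)
    {R' : Type u} [CommRing R'] [Algebra R R'] (g : R' ⊗[R] D) (e : R' ⊗[R] A) (he : IsIdempotentElem e)
    (hge : (g ⊗ₜ[R] (1 : A)) *
      (Algebra.TensorProduct.map (Algebra.TensorProduct.includeRight : D →ₐ[R] R' ⊗[R] D) (AlgHom.id R A)
          (((↑pres.hasMap.isUnit_derivative_f.unit⁻¹ : D) ⊗ₜ[R] (1 : A)) * Θ (h₁.derivative * h₂)) -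
        Algebra.TensorProduct.map (Algebra.TensorProduct.includeLeft : R' →ₐ[R] R' ⊗[R] D) (AlgHom.id R A) e)
      = 0)
    (K : Type u) [Field K] [Algebra R' K] [Nontrivial (K ⊗[R'] Localization.Away g)] :
    IsDomain (K ⊗[R'] Localization.Away g) := by
  letI : Algebra R K := ((algebraMap R' K).comp (algebraMap R R')).toAlgebra
  haveI : IsScalarTower R R' K := IsScalarTower.of_algebraMap_eq' rfl
  letI : Algebra (MvPolynomial (Fin n) R) (MvPolynomial (Fin n) K) := MvPolynomial.algebraMvPolynomial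
  haveI : IsScalarTower R (MvPolynomial (Fin n) R) (MvPolynomial (Fin n) K) :=
    IsScalarTower.of_algebraMap_eq fun r => (MvPolynomial.map_C (algebraMap R K) r).symm
  haveI : Algebra.Etale (MvPolynomial (Fin n) R) D :=
    haveI : Algebra.IsStandardEtale (MvPolynomial (Fin n) R) D := ⟨⟨pres⟩⟩
    inferInstance
  let T₀ := MvPolynomial (Fin n) K ⊗[MvPolynomial (Fin n) R] D
  let j₀ : R' ⊗[R] D →ₐ[R] T₀ := Algebra.TensorProduct.lift
    ((IsScalarTower.toAlgHom R (MvPolynomial (Fin n) K) T₀).comp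
      ((IsScalarTower.toAlgHom R K (MvPolynomial (Fin n) K)).comp (IsScalarTower.toAlgHom R R' K)))
    ((Algebra.TensorProduct.includeRight : D →ₐ[MvPolynomial (Fin n) R] T₀).restrictScalars R)
    fun _ _ => .all _ _
  let L := Localization.Away (j₀ g)
  let fD : D →ₐ[MvPolynomial (Fin n) R] L :=
    (IsScalarTower.toAlgHom (MvPolynomial (Fin n) R) T₀ L).comp Algebra.TensorProduct.includeRight
  let θ := fD pres.x
  have hmap : ∀ a : (MvPolynomial (Fin n) R)[X],
      aeval θ (a.map (MvPolynomial.map (algebraMap R K))) = fD (aeval pres.x a) := by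
    intro a
    rw [← aeval_algHom_apply]
    exact aeval_map_algebraMap (MvPolynomial (Fin n) K) θ a
  have hT0 : ∀ c : MvPolynomial (Fin n) K, algebraMap (MvPolynomial (Fin n) K) T₀ c = c ⊗ₜ 1 := fun _ => rfl
  let rK : R' →+* L := (algebraMap (MvPolynomial (Fin n) K) L).comp
    ((MvPolynomial.C).comp (algebraMap R' K))
  -- the comparison with the base change of the localisation
  let jL : R' ⊗[R] D →ₐ[R] L := (IsScalarTower.toAlgHom R T₀ L).comp j₀
  have hjr : ∀ r : R', jL (r ⊗ₜ 1) = rK r := fun r => by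
    simp [jL, j₀, rK, IsScalarTower.algebraMap_apply (MvPolynomial (Fin n) K) T₀ L, ← Algebra.TensorProduct.one_def]
  have hjg : IsUnit (jL.toRingHom g) := IsLocalization.Away.algebraMap_isUnit (S := L) (j₀ g)
  let jA := IsLocalization.Away.lift (S := Localization.Away g) g hjg
  let jA' : Localization.Away g →ₐ[R'] L :=
    { jA with
      commutes' := fun r => by
        show jA (algebraMap R' (Localization.Away g) r) = algebraMap R' L r
        rw [IsScalarTower.algebraMap_apply R' (R' ⊗[R] D) (Localization.Away g), IsLocalization.Away.lift_eq]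
        show jL (r ⊗ₜ 1) = _
        rw [hjr]
        simp [rK, IsScalarTower.algebraMap_apply R' K L,
          IsScalarTower.algebraMap_apply K (MvPolynomial (Fin n) K) L] }
  let Λ : K ⊗[R'] Localization.Away g →ₐ[K] L :=
    Algebra.TensorProduct.lift (Algebra.ofId K L) jA' fun _ _ => .all _ _
  let V := K ⊗[R'] Localization.Away g
  let ιD : D →ₐ[R] V :=
    ((Algebra.TensorProduct.includeRight : Localization.Away g →ₐ[R'] V).restrictScalars R).comp
      ((IsScalarTower.toAlgHom R (R' ⊗[R] D) (Localization.Away g)).comp Algebra.TensorProduct.includeRight)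
  letI : Algebra (MvPolynomial (Fin n) R) V :=
    (ιD.toRingHom.comp (algebraMap (MvPolynomial (Fin n) R) D)).toAlgebra
  let γ : MvPolynomial (Fin n) K →ₐ[MvPolynomial (Fin n) R] V :=
    { (MvPolynomial.aeval (R := K) fun j => algebraMap (MvPolynomial (Fin n) R) V (MvPolynomial.X j)).toRingHom with
      commutes' := fun a => by
        show MvPolynomial.aeval _ (MvPolynomial.map (algebraMap R K) a) = _
        rw [MvPolynomial.aeval_map_algebraMap]
        show _ = ιD (algebraMap (MvPolynomial (Fin n) R) D a)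
        rw [← IsScalarTower.coe_toAlgHom' R (MvPolynomial (Fin n) R) D, ← AlgHom.comp_apply]
        congr 1
        exact MvPolynomial.algHom_ext fun j => by simp [RingHom.algebraMap_toAlgebra] }
  let ιD' : D →ₐ[MvPolynomial (Fin n) R] V := { ιD.toRingHom with commutes' := fun _ => rfl }
  let Γ₀ : T₀ →ₐ[MvPolynomial (Fin n) R] V := Algebra.TensorProduct.lift γ ιD' fun _ _ => .all _ _
  have hγC : ∀ k, γ (MvPolynomial.C k) = (k ⊗ₜ 1 : V) := fun k =>
    (MvPolynomial.aeval_C (R := K) _ k).trans (Algebra.TensorProduct.algebraMap_apply k)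
  have hj₀ : ∀ r d, j₀ (r ⊗ₜ d) = (MvPolynomial.C (algebraMap R' K r) ⊗ₜ d : T₀) := fun r d => by
    refine (Algebra.TensorProduct.lift_tmul _ _ _ r d).trans ?_
    show (MvPolynomial.C (algebraMap R' K r) ⊗ₜ[MvPolynomial (Fin n) R] (1 : D)) *
      ((1 : MvPolynomial (Fin n) K) ⊗ₜ[MvPolynomial (Fin n) R] d) = _
    rw [Algebra.TensorProduct.tmul_mul_tmul, mul_one, one_mul]
  have hΓ₀ : ∀ c d, Γ₀ (c ⊗ₜ d) = γ c * ιD d := fun c d => Algebra.TensorProduct.lift_tmul _ _ _ c d
  have hΓj : ∀ w : R' ⊗[R] D, Γ₀ (j₀ w) = (1 : K) ⊗ₜ algebraMap (R' ⊗[R] D) (Localization.Away g) w := by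
    intro w
    induction w with
    | zero => simp
    | add a b ha hb => simp only [map_add, TensorProduct.tmul_add, ha, hb]
    | tmul r d =>
      rw [hj₀, hΓ₀, hγC, show (r ⊗ₜ[R] d : R' ⊗[R] D) = algebraMap R' (R' ⊗[R] D) r * (1 ⊗ₜ d) by simp,
        map_mul, ← IsScalarTower.algebraMap_apply, ← Algebra.smul_def, TensorProduct.tmul_smul,
        TensorProduct.smul_tmul', Algebra.smul_def, mul_one]
      show (algebraMap R' K r ⊗ₜ[R'] 1) * ((1 : K) ⊗ₜ[R'] _) = _
      rw [Algebra.TensorProduct.tmul_mul_tmul, mul_one, one_mul]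
      rfl
  have hΓg : IsUnit (Γ₀.toRingHom (j₀ g)) := by
    show IsUnit (Γ₀ (j₀ g))
    rw [hΓj]
    exact (IsLocalization.Away.algebraMap_isUnit g).map (Algebra.TensorProduct.includeRight (R := R') (A := K))
  let Γ : L →+* V := IsLocalization.Away.lift (S := L) (j₀ g) hΓg
  have hΓΛ : Γ.comp Λ.toRingHom = RingHom.id V := by
    refine Algebra.TensorProduct.ringHom_ext (RingHom.ext fun k => ?_) (IsLocalization.ringHom_ext (.powers g) ?_)
    · show Γ (Λ (k ⊗ₜ 1)) = k ⊗ₜ 1
      rw [show Λ (k ⊗ₜ 1) = algebraMap T₀ L (MvPolynomial.C k ⊗ₜ 1) by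
        simp [Λ, hT0, IsScalarTower.algebraMap_apply K (MvPolynomial (Fin n) K) L,
          IsScalarTower.algebraMap_apply (MvPolynomial (Fin n) K) T₀ L], IsLocalization.Away.lift_eq]
      exact (hΓ₀ _ _).trans (by rw [hγC, map_one, mul_one])
    · refine RingHom.ext fun w => ?_
      show Γ (Λ (1 ⊗ₜ algebraMap (R' ⊗[R] D) (Localization.Away g) w)) = 1 ⊗ₜ algebraMap _ _ w
      rw [show Λ (1 ⊗ₜ algebraMap (R' ⊗[R] D) (Localization.Away g) w) = algebraMap T₀ L (j₀ w) by
        simp [Λ, jA', jA, jL], IsLocalization.Away.lift_eq]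
      exact hΓj w
  have hinj : Function.Injective Λ := fun a b hab =>
    ((DFunLike.congr_fun hΓΛ a).symm.trans ((congr_arg Γ hab).trans (DFunLike.congr_fun hΓΛ b)) :)
  haveI : Nontrivial L := hinj.nontrivial
  haveI : Module.Flat (MvPolynomial (Fin n) K) T₀ := inferInstance
  haveI : Module.Flat T₀ L := IsLocalization.flat L (.powers (j₀ g))
  haveI : Module.Flat (MvPolynomial (Fin n) K) L := Module.Flat.trans _ T₀ _
  suffices IsDomain L from hinj.isDomain Λ.toRingHom
  refine isDomain_of_fractions (pres.P.monic_f.map (MvPolynomial.map (algebraMap R K))) θ ?_ ?_ ?_ ?_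
  · rw [hmap, pres.hasMap.1, map_zero]
  · rw [derivative_map, hmap]; exact pres.hasMap.isUnit_derivative_f.map fD
  · have hT : ∀ t : T₀, ∃ a b : (MvPolynomial (Fin n) K)[X], IsUnit (aeval θ b) ∧
        algebraMap T₀ L t * aeval θ b = aeval θ a := by
      intro t
      induction t using TensorProduct.induction_on with
      | zero => exact ⟨0, 1, by simp, by simp⟩
      | tmul c d =>
        obtain ⟨a, k, hd⟩ := pres.exists_mul_aeval_x_g_pow_eq_aeval_x d
        refine ⟨C c * a.map (MvPolynomial.map (algebraMap R K)),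
          (pres.P.g ^ k).map (MvPolynomial.map (algebraMap R K)), ?_, ?_⟩
        · rw [hmap, map_pow, map_pow]; exact (pres.hasMap.2.map fD).pow k
        · rw [map_mul, aeval_C, hmap, hmap, ← hd, map_pow, map_mul, ← mul_assoc]
          congr 1
          simp only [fD, IsScalarTower.algebraMap_apply (MvPolynomial (Fin n) K) T₀ L, AlgHom.comp_apply,
            IsScalarTower.coe_toAlgHom', ← map_mul, hT0]
          refine congr_arg _ ?_
          show _ = (c ⊗ₜ[MvPolynomial (Fin n) R] (1 : D)) * ((1 : MvPolynomial (Fin n) K) ⊗ₜ[MvPolynomial (Fin n) R] d)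
          rw [Algebra.TensorProduct.tmul_mul_tmul, mul_one, one_mul]
      | add t s ht hs =>
        obtain ⟨a, b, hb, ha⟩ := ht
        obtain ⟨a', b', hb', ha'⟩ := hs
        refine ⟨a * b' + a' * b, b * b', by rw [map_mul]; exact hb.mul hb', ?_⟩
        simp only [map_add, map_mul, ← ha, ← ha']
        ring
    intro x
    obtain ⟨⟨t, ⟨_, k, rfl⟩⟩, hx⟩ := IsLocalization.surj (Submonoid.powers (j₀ g)) x
    obtain ⟨a, b, hb, ha⟩ := hT t
    obtain ⟨a', b', hb', ha'⟩ := hT (j₀ g)
    have hu : IsUnit (aeval θ a') := ha' ▸ (IsLocalization.Away.algebraMap_isUnit (j₀ g)).mul hb'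
    refine ⟨a * b' ^ k, b * a' ^ k, by rw [map_mul, map_pow]; exact hb.mul (hu.pow k), ?_⟩
    simp only [map_mul, map_pow, ← ha, ← ha'] at hx ⊢
    linear_combination (aeval θ b * aeval θ b' ^ k) * hx
  · intro q q₂ hq hq₂ hqq
    obtain ⟨φ, hφ₁, hφ₂⟩ := huniv K q q₂ hq hq₂ hqq
    let χ : D ⊗[R] A →ₐ[R] L := Algebra.TensorProduct.lift (fD.restrictScalars R)
      ((IsScalarTower.toAlgHom R K L).comp φ) fun _ _ => .all _ _
    have hχΘ : ∀ w, χ (Θ w) = aeval θ (w.map (MvPolynomial.map φ.toRingHom)) := by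
      intro w
      show (χ.toRingHom.comp Θ) w =
        ((aeval θ).toRingHom.comp (Polynomial.mapRingHom (MvPolynomial.map φ.toRingHom))) w
      congr 1
      refine Polynomial.ringHom_ext' (MvPolynomial.ringHom_ext (fun a => ?_) fun j => ?_) ?_
      · simp [hΘC, χ, IsScalarTower.algebraMap_apply K (MvPolynomial (Fin n) K) L]
      · simp [hΘX, χ]
        rw [IsScalarTower.algebraMap_apply (MvPolynomial (Fin n) R) (MvPolynomial (Fin n) K) L,
          MvPolynomial.algebraMap_def, MvPolynomial.map_X]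
      · simp [hΘZ, χ, θ]
    let φ' : R' ⊗[R] A →ₐ[R] K :=
      Algebra.TensorProduct.lift (IsScalarTower.toAlgHom R R' K) φ fun _ _ => .all _ _
    let χ' : (R' ⊗[R] D) ⊗[R] A →ₐ[R] L := Algebra.TensorProduct.lift jL
      ((IsScalarTower.toAlgHom R K L).comp φ) fun _ _ => .all _ _
    have h1 : χ'.comp (Algebra.TensorProduct.map Algebra.TensorProduct.includeRight (AlgHom.id R A)) = χ := by
      ext d <;> simp [χ', χ, jL, j₀, fD, ← Algebra.TensorProduct.one_def] <;> rfl
    have h2 : χ'.comp (Algebra.TensorProduct.map Algebra.TensorProduct.includeLeft (AlgHom.id R A)) =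
        (IsScalarTower.toAlgHom R K L).comp φ' := by
      ext r <;> simp [χ', φ', hjr, rK, IsScalarTower.algebraMap_apply K (MvPolynomial (Fin n) K) L]
    have h3 := congr_arg χ' hge
    rw [map_zero, map_mul, show χ' (g ⊗ₜ 1) = jL g by simp [χ'], (show IsUnit (jL g) from hjg).mul_right_eq_zero, map_sub,
      sub_eq_zero, ← AlgHom.comp_apply, ← AlgHom.comp_apply χ', h1, h2, map_mul, hχΘ, Polynomial.map_mul,
      ← derivative_map, hφ₁, hφ₂, show χ ((↑pres.hasMap.isUnit_derivative_f.unit⁻¹ : D) ⊗ₜ[R] (1 : A)) =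
        fD ↑pres.hasMap.isUnit_derivative_f.unit⁻¹ by simp [χ]] at h3
    have h4 : aeval θ (q.derivative * q₂) =
        aeval θ (pres.P.f.map (MvPolynomial.map (algebraMap R K))).derivative * algebraMap K L (φ' e) := by
      rw [derivative_map, hmap, show algebraMap K L (φ' e) = _ from h3.symm, ← mul_assoc, ← map_mul,
        IsUnit.mul_val_inv, map_one, one_mul]
    rcases IsIdempotentElem.iff_eq_zero_or_one.1 (he.map φ') with h | h
    · left; rw [h4, h, map_zero, mul_zero]
    · right; rw [h4, h, map_one, mul_one]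

/-- Geometrically integral fibres after an elementary étale localisation. -/
theorem exists_geomInt_nhd [Algebra.IsStandardEtale (MvPolynomial (Fin n) R) D] (p : Ideal R) [p.IsPrime]
    (y : Ideal D) [y.IsPrime] [y.LiesOver p] (hpt : FlatCA.PurelyTranscendental p y) :
    ∃ (R' : Type u) (_ : CommRing R') (_ : Algebra R R') (p' : Ideal R') (_ : p'.IsPrime)
      (y' : Ideal (R' ⊗[R] D)) (_ : y'.IsPrime) (g : R' ⊗[R] D),
      IsEtaleNhd R R' p p' ∧ y'.LiesOver p' ∧
      y'.comap Algebra.TensorProduct.includeRight.toRingHom = y ∧ g ∉ y' ∧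
      ∀ (K : Type u) [Field K] [Algebra R' K], IsDomain (K ⊗[R'] Localization.Away g) := by
  obtain ⟨pres⟩ := (inferInstance : Nonempty (StandardEtalePresentation (MvPolynomial (Fin n) R) D))
  obtain ⟨A, _, _, _, h₁, h₂, hh, huniv⟩ := exists_factor_algebra pres.P.f pres.P.monic_f
  let Θ : (MvPolynomial (Fin n) A)[X] →+* D ⊗[R] A := Polynomial.eval₂RingHom
    (MvPolynomial.eval₂Hom (Algebra.TensorProduct.includeRight : A →ₐ[R] D ⊗[R] A).toRingHom
      fun j => algebraMap (MvPolynomial (Fin n) R) D (MvPolynomial.X j) ⊗ₜ 1) (pres.x ⊗ₜ 1)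
  have hΘ : ∀ a : (MvPolynomial (Fin n) R)[X],
      Θ (a.map (MvPolynomial.map (algebraMap R A))) = aeval pres.x a ⊗ₜ 1 := by
    intro a
    show (Θ.comp (Polynomial.mapRingHom (MvPolynomial.map (algebraMap R A)))) a =
      (Algebra.TensorProduct.includeLeftRingHom.comp (aeval pres.x).toRingHom) a
    congr 1
    refine Polynomial.ringHom_ext' (MvPolynomial.ringHom_ext (fun r => ?_) fun j => ?_) ?_
    · simp only [RingHom.comp_apply, Polynomial.coe_mapRingHom, Polynomial.map_C, MvPolynomial.map_C, Θ,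
        Polynomial.coe_eval₂RingHom, Polynomial.eval₂_C, MvPolynomial.eval₂Hom_C, AlgHom.toRingHom_eq_coe,
        RingHom.coe_coe, aeval_C, AlgHom.commutes]
      rw [← MvPolynomial.algebraMap_eq, ← IsScalarTower.algebraMap_apply]
      exact Algebra.TensorProduct.algebraMap_apply r
    · simp [Θ]
    · simp [Θ]
  let v : D := ↑pres.hasMap.isUnit_derivative_f.unit⁻¹
  let ε := (v ⊗ₜ[R] (1 : A)) * Θ (h₁.derivative * h₂)
  have hroot : Θ h₁ * Θ h₂ = 0 := by rw [← map_mul, hh, hΘ, pres.hasMap.1, TensorProduct.zero_tmul]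
  have hder : (v ⊗ₜ[R] (1 : A)) * (Θ (h₁.derivative * h₂) + Θ h₁ * Θ h₂.derivative) = 1 := by
    rw [← map_mul Θ h₁, ← map_add, ← derivative_mul, hh, derivative_map, hΘ,
      Algebra.TensorProduct.tmul_mul_tmul, IsUnit.val_inv_mul, mul_one, Algebra.TensorProduct.one_def]
  have hε : IsIdempotentElem ε := by
    show ε * ε = ε
    simp only [ε, map_mul Θ h₁.derivative] at hder ⊢
    linear_combination ((v ⊗ₜ[R] (1 : A)) * (Θ h₁.derivative * Θ h₂)) * hder -
      ((v ⊗ₜ[R] (1 : A)) ^ 2 * Θ h₁.derivative * Θ h₂.derivative) * hroot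
  obtain ⟨R₁, _, _, p₁, _, e, y₁, _, g₁, hn₁, he, hy₁p, hy₁, hg₁, hge⟩ :=
    exists_split_side p y ε hε (eq_of_purelyTranscendental p y hpt)
  haveI := hy₁p
  haveI : Algebra.Smooth R (MvPolynomial (Fin n) R) := ⟨inferInstance, inferInstance⟩
  haveI : Algebra.Smooth R D := Algebra.Smooth.comp R (MvPolynomial (Fin n) R) D
  haveI : Algebra.Smooth R₁ (R₁ ⊗[R] D) := inferInstance
  haveI : Algebra.Smooth R₁ (Localization.Away g₁) := Algebra.Smooth.comp R₁ (R₁ ⊗[R] D) _
  have hopen : IsOpen (Set.range (PrimeSpectrum.comap (algebraMap R₁ (Localization.Away g₁)))) :=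
    (PrimeSpectrum.isOpenMap_comap_of_hasGoingDown_of_finitePresentation (R := R₁)
      (S := Localization.Away g₁)).isOpen_range
  have hd₁ : Disjoint (Submonoid.powers g₁ : Set (R₁ ⊗[R] D)) y₁ := by
    rwa [Ideal.disjoint_powers_iff_notMem_of_isPrime]
  have hmem : (⟨p₁, ‹_›⟩ : PrimeSpectrum R₁) ∈
      Set.range (PrimeSpectrum.comap (algebraMap R₁ (Localization.Away g₁))) := by
    refine ⟨⟨_, IsLocalization.isPrime_of_isPrime_disjoint (.powers g₁) (Localization.Away g₁) y₁ ‹_› hd₁⟩,
      PrimeSpectrum.ext ?_⟩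
    show ((y₁.map (algebraMap _ (Localization.Away g₁))).comap (algebraMap R₁ (Localization.Away g₁))) = p₁
    rw [IsScalarTower.algebraMap_eq R₁ (R₁ ⊗[R] D) (Localization.Away g₁), ← Ideal.comap_comap]
    exact (congr_arg (Ideal.comap (algebraMap R₁ (R₁ ⊗[R] D)))
      (IsLocalization.comap_map_of_isPrime_disjoint (.powers g₁) (Localization.Away g₁) ‹_› hd₁)).trans
      (y₁.over_def p₁).symm
  obtain ⟨_, ⟨_, ⟨f, rfl⟩, rfl⟩, hfp, hfsub⟩ :=
    PrimeSpectrum.isBasis_basic_opens.exists_subset_of_mem_open hmem hopen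
  obtain ⟨p₂, _, hn₂⟩ := isEtaleNhd_away p₁ f hfp
  obtain ⟨-, l₂, b₂⟩ := id hn₂
  haveI := l₂
  let R₂ := Localization.Away f
  let κ : R₁ ⊗[R] D →ₐ[R] R₂ ⊗[R] D :=
    Algebra.TensorProduct.map (IsScalarTower.toAlgHom R R₁ R₂) (AlgHom.id R D)
  let κA : R₁ ⊗[R] A →ₐ[R] R₂ ⊗[R] A :=
    Algebra.TensorProduct.map (IsScalarTower.toAlgHom R R₁ R₂) (AlgHom.id R A)
  obtain ⟨-, l', b⟩ := isEtaleNhd_trans hn₁ hn₂
  haveI := l'
  let y₂ := (Ideal.fiberIsoOfBijectiveResidueField (S := D) b).symm ⟨y, ‹_›, ‹_›⟩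
  haveI := y₂.2.1; haveI := y₂.2.2
  have hy₂ : y₂.1.comap Algebra.TensorProduct.includeRight.toRingHom = y :=
    Ideal.comap_fiberIsoOfBijectiveResidueField_symm b _
  have hcomap : y₂.1.comap κ.toRingHom = y₁ := by
    obtain ⟨-, l₁, b₁⟩ := id hn₁
    haveI : (y₂.1.comap κ.toRingHom).LiesOver p₁ := ⟨by
      ext r
      refine (Iff.of_eq (congr_arg (r ∈ ·) (p₂.over_def p₁))).trans ?_
      show algebraMap R₁ R₂ r ∈ p₂ ↔ κ (algebraMap R₁ (R₁ ⊗[R] D) r) ∈ y₂.1
      rw [show κ (algebraMap R₁ (R₁ ⊗[R] D) r) = algebraMap R₂ (R₂ ⊗[R] D) (algebraMap R₁ R₂ r) by simp [κ]]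
      exact Iff.of_eq (congr_arg (algebraMap R₁ R₂ r ∈ ·) y₂.2.2.over)⟩
    refine Ideal.eq_of_comap_eq_comap_of_bijective_residueFieldMap b₁ _ _ ?_
    rw [hy₁, Ideal.comap_comap, ← hy₂]
    congr 1
    exact RingHom.ext fun d => by simp [κ]
  refine ⟨R₂, inferInstance, inferInstance, p₂, ‹_›, y₂.1, ‹_›, κ g₁, isEtaleNhd_trans hn₁ hn₂, ‹_›, hy₂,
    fun h => hg₁ (hcomap ▸ (Ideal.mem_comap.2 h : g₁ ∈ y₂.1.comap κ.toRingHom)), fun K _ _ => ?_⟩
  haveI : Algebra.Smooth R₂ (R₂ ⊗[R] D) := inferInstance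
  haveI : Algebra.Smooth R₂ (Localization.Away (κ g₁)) := Algebra.Smooth.comp R₂ (R₂ ⊗[R] D) _
  haveI : Module.FaithfullyFlat R₂ (Localization.Away (κ g₁)) := by
    refine Module.FaithfullyFlat.of_comap_surjective fun P => ?_
    let P₁ : PrimeSpectrum R₁ := PrimeSpectrum.comap (algebraMap R₁ R₂) P
    have hfP : f ∉ P₁.asIdeal := fun h => P.2.ne_top
      (Ideal.eq_top_of_isUnit_mem _ h (IsLocalization.Away.algebraMap_isUnit f))
    obtain ⟨w, hw⟩ := hfsub (show P₁ ∈ (PrimeSpectrum.basicOpen f : Set (PrimeSpectrum R₁)) from hfP)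
    let o : Localization.Away g₁ →ₐ[R₁] w.asIdeal.ResidueField := IsScalarTower.toAlgHom _ _ _
    have hof : IsUnit (o.toRingHom.comp (algebraMap R₁ _) f) := by
      rw [isUnit_iff_ne_zero]
      intro h
      refine hfP ?_
      rw [← hw]
      show algebraMap R₁ (Localization.Away g₁) f ∈ w.asIdeal
      exact Ideal.algebraMap_residueField_eq_zero.1 h
    let oR : R₂ →+* w.asIdeal.ResidueField := IsLocalization.Away.lift (S := R₂) f hof
    let oR' : R₂ →ₐ[R] w.asIdeal.ResidueField :=
      { oR with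
        commutes' := fun r => (congr_arg oR (IsScalarTower.algebraMap_apply R R₁ R₂ r)).trans
          ((IsLocalization.Away.lift_eq f hof (algebraMap R R₁ r)).trans ((o.restrictScalars R).commutes r)) }
    let oD : R₂ ⊗[R] D →ₐ[R] w.asIdeal.ResidueField := Algebra.TensorProduct.lift oR'
      (((o.restrictScalars R).comp (IsScalarTower.toAlgHom R (R₁ ⊗[R] D) (Localization.Away g₁))).comp
        Algebra.TensorProduct.includeRight) fun _ _ => .all _ _
    have hoD : oD.comp κ =
        (o.restrictScalars R).comp (IsScalarTower.toAlgHom R (R₁ ⊗[R] D) (Localization.Away g₁)) := by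
      ext r
      · simp [oD, κ, oR', oR, ← Algebra.TensorProduct.one_def]
        exact (o.commutes r).symm
      · simp [oD, κ]
    have hu : IsUnit (oD.toRingHom (κ g₁)) := by
      show IsUnit ((oD.comp κ) g₁)
      rw [hoD]
      exact (IsLocalization.Away.algebraMap_isUnit g₁).map o
    let oL : Localization.Away (κ g₁) →+* w.asIdeal.ResidueField := IsLocalization.Away.lift (κ g₁) hu
    refine ⟨⟨RingHom.ker oL, RingHom.ker_isPrime _⟩, ?_⟩
    refine PrimeSpectrum.localization_comap_injective R₂ (.powers f) ?_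
    refine Eq.trans ?_ hw
    refine PrimeSpectrum.ext (Ideal.ext fun r => ?_)
    show oL (algebraMap R₂ (Localization.Away (κ g₁)) (algebraMap R₁ R₂ r)) = 0 ↔
      algebraMap R₁ (Localization.Away g₁) r ∈ w.asIdeal
    rw [IsScalarTower.algebraMap_apply R₂ (R₂ ⊗[R] D) (Localization.Away (κ g₁)), IsLocalization.Away.lift_eq,
      ← Ideal.algebraMap_residueField_eq_zero (I := w.asIdeal)]
    simp [oD, oR', oR, o, ← Algebra.TensorProduct.one_def]
  haveI : Nontrivial (K ⊗[R₂] Localization.Away (κ g₁)) := Module.FaithfullyFlat.rTensor_nontrivial _ _ K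
  refine isDomain_fibre pres h₁ h₂ Θ (fun a => by simp [Θ]) (fun j => by simp [Θ]) (by simp [Θ]) huniv (κ g₁)
    (κA e) (he.map κA) ?_ K
  let κ' : (R₁ ⊗[R] D) ⊗[R] A →ₐ[R] (R₂ ⊗[R] D) ⊗[R] A := Algebra.TensorProduct.map κ (AlgHom.id R A)
  have h1 : κ'.comp (Algebra.TensorProduct.map Algebra.TensorProduct.includeRight (AlgHom.id R A)) =
      Algebra.TensorProduct.map Algebra.TensorProduct.includeRight (AlgHom.id R A) := by
    ext d <;> simp [κ', κ, ← Algebra.TensorProduct.one_def]
  have h2 : κ'.comp (Algebra.TensorProduct.map Algebra.TensorProduct.includeLeft (AlgHom.id R A)) =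
      (Algebra.TensorProduct.map Algebra.TensorProduct.includeLeft (AlgHom.id R A)).comp κA := by
    ext r <;> simp [κ', κ, κA]
  have := congr_arg κ' hge
  rwa [map_zero, map_mul, map_sub, ← AlgHom.comp_apply, ← AlgHom.comp_apply κ', h1, h2,
    Algebra.TensorProduct.map_tmul, map_one] at this

end Main

end Groth.Agent.RGCore
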