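import Groth.Agent.RGCore.SmoothSeparated
import Groth.Agent.RGCore.CompleteProjective
import Groth.Agent.CAlgUI.FlatML
import Groth.Agent.CAlgUI.BaseChange
import Groth.Agent.CAlgUI.Countable
import Mathlib.RingTheory.Flat.FaithfullyFlat.Algebra
import Mathlib.RingTheory.Localization.BaseChange

/-!
Flat finitely presented algebras with geometrically integral fibres are projective modules: the case where a
smooth basic open meets every fibre.
-/

set_option autoImplicit false
set_option linter.unusedSectionVars false

universe u

open TensorProduct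

namespace Groth.Agent.RGCore

/-- Functionals separate a projective module after tensoring with any module. -/
theorem eq_zero_of_forall_functional {R P : Type u} [CommRing R] [AddCommGroup P] [Module R P] [Module.Projective R P]
    {Q : Type u} [AddCommGroup Q] [Module R Q] (z : Q ⊗[R] P)
    (h : ∀ φ : P →ₗ[R] R, φ.lTensor Q z = 0) : z = 0 := by
  classical
  obtain ⟨s, hs⟩ := (inferInstance : Module.Projective R P).out
  have hli : (Finsupp.linearCombination R id) ∘ₗ s = LinearMap.id := LinearMap.ext hs
  suffices s.lTensor Q z = 0 by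
    rw [← LinearMap.lTensor_id_apply Q P z, ← hli, LinearMap.lTensor_comp_apply, this, map_zero]
  refine (TensorProduct.finsuppScalarRight R R Q P).injective ?_
  rw [map_zero]
  ext i
  rw [Finsupp.zero_apply]
  have key : ∀ y : Q ⊗[R] (P →₀ R), TensorProduct.finsuppScalarRight R R Q P y i =
      TensorProduct.rid R Q ((Finsupp.lapply i).lTensor Q y) := by
    intro y
    induction y with
    | zero => simp
    | add a b ha hb => simp only [map_add, Finsupp.add_apply, ha, hb]
    | tmul a f => simp [TensorProduct.finsuppScalarRight_apply_tmul_apply]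
  rw [key, ← LinearMap.lTensor_comp_apply, h, map_zero]

/-- A flat module separated by functionals after every tensor product is Mittag-Leffler. -/
theorem ml_of_separating {R M : Type u} [CommRing R] [AddCommGroup M] [Module R M] [Module.Flat R M]
    (H : ∀ (Q : Type u) [AddCommGroup Q] [Module R Q] (z : Q ⊗[R] M),
      (∀ φ : M →ₗ[R] R, φ.lTensor Q z = 0) → z = 0) : CAlg.IsMittagLeffler R M := by
  refine CAlgUI.ml_of_exists_smallest fun n x => ?_
  let F' : Submodule R (Fin n → R) :=
    Submodule.span R (Set.range fun φ : M →ₗ[R] R => TensorProduct.rid R _ (φ.lTensor _ x))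
  have hrid : ∀ {Q Q' : Type u} [AddCommGroup Q] [Module R Q] [AddCommGroup Q'] [Module R Q'] (f : Q →ₗ[R] Q')
      (φ : M →ₗ[R] R) (y : Q ⊗[R] M),
      TensorProduct.rid R Q' (φ.lTensor Q' (f.rTensor M y)) = f (TensorProduct.rid R Q (φ.lTensor Q y)) := by
    intro Q Q' _ _ _ _ f φ y
    induction y with
    | zero => simp
    | add a b ha hb => simp only [map_add, ha, hb]
    | tmul a b => simp
  refine ⟨F', ?_, fun F'' hx => ?_⟩
  · have h0 : F'.mkQ.rTensor M x = 0 := H _ _ fun φ => (TensorProduct.rid R _).injective (by
      rw [hrid, map_zero, Submodule.mkQ_apply, Submodule.Quotient.mk_eq_zero]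
      exact Submodule.subset_span ⟨φ, rfl⟩)
    exact (rTensor_exact M (LinearMap.exact_subtype_mkQ F') F'.mkQ_surjective x).1 h0
  · rw [Submodule.span_le]
    rintro _ ⟨φ, rfl⟩
    obtain ⟨w, hw⟩ := hx
    show TensorProduct.rid R _ (φ.lTensor _ x) ∈ F''
    rw [← hw, hrid]
    exact (TensorProduct.rid R F'' (φ.lTensor F'' w)).2

section Main

variable {R B : Type u} [CommRing R] [CommRing B] [Algebra R B] [Algebra.FiniteType R B] [Module.Flat R B]
  (H : ∀ (K : Type u) [Field K] [Algebra R K], IsDomain (K ⊗[R] B))
  (g : B) (hg : ∀ (p : Ideal R) [p.IsPrime], ∃ P : Ideal B, P.IsPrime ∧ P.LiesOver p ∧ g ∉ P)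

include H hg in
/-- Localizing at an element which does not vanish on any fibre is universally injective. -/
theorem eq_zero_of_lTensor_away (Q : Type u) [AddCommGroup Q] [Module R Q] (z : Q ⊗[R] B)
    (hz : (IsScalarTower.toAlgHom R B (Localization.Away g)).toLinearMap.lTensor Q z = 0) : z = 0 := by
  let C := Localization.Away g
  let e : C ⊗[B] (B ⊗[R] Q) ≃ₗ[C] C ⊗[R] Q := AlgebraTensorModule.cancelBaseChange R B C C Q
  let f : B ⊗[R] Q →ₗ[B] C ⊗[R] Q := (e.restrictScalars B).toLinearMap ∘ₗ TensorProduct.mk B C (B ⊗[R] Q) 1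
  have hf : IsBaseChange C f := (TensorProduct.isBaseChange B (B ⊗[R] Q) C).comp (IsBaseChange.ofEquiv e)
  have : IsLocalizedModule (Submonoid.powers g) f := (isLocalizedModule_iff_isBaseChange _ C f).2 hf
  have hcomm : f (TensorProduct.comm R Q B z) =
      TensorProduct.comm R Q C ((IsScalarTower.toAlgHom R B C).toLinearMap.lTensor Q z) := by
    clear hz
    induction z with
    | zero => simp
    | add a b ha hb => simp only [map_add, ha, hb]
    | tmul a b => simp [f, e, Algebra.smul_def]
  rw [hz, map_zero] at hcomm
  obtain ⟨c, hc⟩ := (IsLocalizedModule.eq_zero_iff (Submonoid.powers g) f).1 hcomm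
  obtain ⟨k, hk⟩ := c.2
  refine eq_zero_of_assassins (S := B) Q z fun Q' _ _ hass => ?_
  have := H (Q'.under R).ResidueField
  obtain ⟨P, _, _, hgP⟩ := hg (Q'.under R)
  refine ⟨P, assassin_le_of_isDomain (Q'.under R) Q' hass P, g ^ k,
    fun h => hgP (‹P.IsPrime›.mem_of_pow_mem k h), (TensorProduct.comm R Q B).injective ?_⟩
  have hnat : ∀ (t : B) (x : Q ⊗[R] B),
      TensorProduct.comm R Q B (((LinearMap.lsmul B B t).restrictScalars R).lTensor Q x) =
        t • TensorProduct.comm R Q B x := by
    intro t x
    induction x with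
    | zero => simp
    | add a b ha hb => simp only [map_add, smul_add, ha, hb]
    | tmul a b => simp [smul_tmul']
  rw [hnat, map_zero]
  have : ((c : B)) • TensorProduct.comm R Q B z = 0 := hc
  rwa [← hk] at this

include hg in
/-- The basic open meets every fibre. -/
theorem faithfullyFlat_away : Module.FaithfullyFlat R (Localization.Away g) := by
  have : Module.Flat B (Localization.Away g) := IsLocalization.flat _ (Submonoid.powers g)
  have : Module.Flat R (Localization.Away g) := Module.Flat.trans R B _
  refine Module.FaithfullyFlat.of_comap_surjective fun p => ?_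
  obtain ⟨P, _, _, hgP⟩ := hg p.asIdeal
  have hdisj : Disjoint (Submonoid.powers g : Set B) (P : Set B) :=
    (Ideal.disjoint_powers_iff_notMem_of_isPrime g).2 hgP
  refine ⟨⟨P.map (algebraMap B (Localization.Away g)),
    IsLocalization.isPrime_of_isPrime_disjoint _ _ P ‹_› hdisj⟩, PrimeSpectrum.ext ?_⟩
  have := IsLocalization.under_map_of_isPrime_disjoint (Submonoid.powers g) (Localization.Away g) ‹P.IsPrime› hdisj
  simp only [Ideal.under] at this
  rw [PrimeSpectrum.comap_asIdeal, IsScalarTower.algebraMap_eq R B (Localization.Away g), ← Ideal.comap_comap]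
  dsimp only
  rw [this]
  exact (P.over_def p.asIdeal).symm

include H hg in
theorem isDomain_tensor_away (K : Type u) [Field K] [Algebra R K] : IsDomain (K ⊗[R] Localization.Away g) := by
  let C := Localization.Away g
  have := H K
  let p : Ideal R := RingHom.ker (algebraMap R K)
  have : p.IsPrime := RingHom.ker_isPrime _
  let j : p.ResidueField →ₐ[R] K := Ideal.ResidueField.liftₐ p (Algebra.ofId R K) le_rfl fun x hx =>
    IsUnit.mk0 _ fun h => hx h
  obtain ⟨P, _, _, hgP⟩ := hg p
  have h1 : (1 : K) ⊗ₜ[R] g ≠ 0 := by
    intro h0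
    have hinj := Module.Flat.rTensor_preserves_injective_linearMap (M := B) j.toLinearMap j.toRingHom.injective
    have h2 : (1 : p.ResidueField) ⊗ₜ[R] g = 0 := hinj (by
      rw [LinearMap.rTensor_tmul, AlgHom.toLinearMap_apply, map_one, h0, map_zero])
    let r : p.ResidueField ⊗[R] B →ₐ[R] P.ResidueField := Algebra.TensorProduct.productMap
      (Ideal.ResidueField.mapₐ p P (Algebra.ofId R B) (P.over_def p)) (IsScalarTower.toAlgHom R B P.ResidueField)
    have := congr(r $h2)
    simp only [r, Algebra.TensorProduct.productMap_apply_tmul, map_one, one_mul, map_zero] at this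
    exact hgP (Ideal.algebraMap_residueField_eq_zero.1 this)
  letI : Algebra (K ⊗[R] B) (K ⊗[R] C) :=
    (Algebra.TensorProduct.map (AlgHom.id R K) (IsScalarTower.toAlgHom R B C)).toAlgebra
  have : IsScalarTower K (K ⊗[R] B) (K ⊗[R] C) := .of_algebraMap_eq fun x => by
    simp [RingHom.algebraMap_toAlgebra]
  have := IsLocalization.tensorProduct_tensorProduct_right R K (Submonoid.powers g) C
    (by ext; simp [RingHom.algebraMap_toAlgebra])
  refine IsLocalization.isDomain_of_le_nonZeroDivisors (K ⊗[R] C)
    (M := (Submonoid.powers g).map (Algebra.TensorProduct.includeRight (R := R) (A := K))) ?_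
  rintro _ ⟨_, ⟨k, rfl⟩, rfl⟩
  refine mem_nonZeroDivisors_of_ne_zero ?_
  rw [map_pow]
  exact pow_ne_zero k h1

include H hg in
/-- Flat finite type algebras with geometrically integral fibres, smooth on a basic open meeting every fibre,
are projective. -/
theorem projective_of_smooth_basicOpen [Algebra.Smooth R (Localization.Away g)] : Module.Projective R B := by
  let C := Localization.Away g
  have := faithfullyFlat_away g hg
  let π : C ⊗[R] C →ₐ[C] C := Algebra.TensorProduct.lift (AlgHom.id C C) (AlgHom.id R C) fun _ _ => Commute.all _ _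
  have HC : ∀ (K : Type u) [Field K] [Algebra C K], IsDomain (K ⊗[C] (C ⊗[R] C)) := fun K _ _ => by
    letI : Algebra R K := ((algebraMap C K).comp (algebraMap R C)).toAlgebra
    have : IsScalarTower R C K := .of_algebraMap_eq fun _ => rfl
    have := isDomain_tensor_away H g hg K
    exact Function.Injective.isDomain (Algebra.TensorProduct.cancelBaseChange R C C K C).toAlgHom
      (AlgEquiv.injective _)
  have hml : CAlg.IsMittagLeffler C (C ⊗[R] B) := by
    refine ml_of_separating fun Q _ _ z hz => ?_
    letI : Module R Q := Module.compHom Q (algebraMap R C)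
    have : IsScalarTower R C Q := .of_algebraMap_smul fun _ _ => rfl
    let ι : C ⊗[R] B →ₐ[C] C ⊗[R] C :=
      Algebra.TensorProduct.map (AlgHom.id C C) (IsScalarTower.toAlgHom R B C)
    have hP : ι.toLinearMap.lTensor Q z = 0 := by
      refine eq_zero_of_forall_aug π HC _ fun n => ?_
      have := projective_quotient_aug π n
      refine eq_zero_of_forall_functional _ fun φ => ?_
      rw [← LinearMap.lTensor_comp_apply, ← LinearMap.lTensor_comp_apply]
      exact hz _
    let cB : Q ⊗[C] (C ⊗[R] B) ≃ₗ[C] Q ⊗[R] B := AlgebraTensorModule.cancelBaseChange R C C Q B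
    let cC : Q ⊗[C] (C ⊗[R] C) ≃ₗ[C] Q ⊗[R] C := AlgebraTensorModule.cancelBaseChange R C C Q C
    refine cB.injective ?_
    rw [map_zero]
    refine eq_zero_of_lTensor_away H g hg Q (cB z) ?_
    have hnat : ∀ u, (IsScalarTower.toAlgHom R B C).toLinearMap.lTensor Q (cB u) = cC (ι.toLinearMap.lTensor Q u) := by
      intro u
      induction u with
      | zero => simp
      | add a b ha hb => simp only [map_add, ha, hb]
      | tmul a b =>
        induction b with
        | zero => simp
        | add x y hx hy => simp only [tmul_add, map_add, hx, hy]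
        | tmul c x => simp [cB, cC, ι]
    rw [hnat, hP, map_zero]
  exact CAlgUI.projective_of_flat_ml_countablyGenerated (CAlgUI.ml_of_faithfullyFlat hml)
    (isCountablyGenerated_of_finiteType (S := B) B)

end Main

end Groth.Agent.RGCore
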