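import Groth.Agent.RGCore.WeakAssTransfer

/-!
Injectivity of `X → S' ⊗ X` for a flat algebra `S'` whose spectrum meets the minimal primes over annihilators.
-/

set_option autoImplicit false
set_option linter.unusedSectionVars false

universe u

open TensorProduct

namespace Groth.Agent.RGCore

theorem mk_injective_of_weakAss_lift {S S' X : Type u} [CommRing S] [CommRing S'] [Algebra S S'] [Module.Flat S S']
    [AddCommGroup X] [Module S X]
    (h : ∀ q ∈ FlatCA.weakAss S X, ∃ q' : Ideal S', q'.IsPrime ∧ q'.comap (algebraMap S S') = q) :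
    Function.Injective (TensorProduct.mk S S' X 1) := by
  rw [injective_iff_map_eq_zero]
  intro x hx
  by_contra hx0
  have hann : WeakAss.annEl S x ≠ ⊤ := fun hc => hx0 (by
    simpa using WeakAss.mem_annEl.1 (hc ▸ Submodule.mem_top : (1 : S) ∈ _))
  obtain ⟨q, hq⟩ := Ideal.nonempty_minimalPrimes hann
  obtain ⟨q', hq', hq'q⟩ := h q ⟨x, hq⟩
  let e := (WeakAss.annEl S x).liftQ (LinearMap.toSpanSingleton S X x) fun a ha => WeakAss.mem_annEl.1 ha
  have he : Function.Injective e := by
    rw [injective_iff_map_eq_zero]
    intro a ha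
    obtain ⟨a, rfl⟩ := Submodule.Quotient.mk_surjective _ a
    exact (Submodule.Quotient.mk_eq_zero _).2 (WeakAss.mem_annEl.2 ha)
  have h1 : (1 : S') ⊗ₜ[S] (1 : S ⧸ WeakAss.annEl S x) = 0 := by
    apply Module.Flat.lTensor_preserves_injective_linearMap (M := S') e he
    rw [LinearMap.lTensor_tmul, map_zero, show e 1 = x from one_smul S x]
    exact hx
  rw [show (1 : S ⧸ WeakAss.annEl S x) = Submodule.Quotient.mk (1 : S) from rfl,
    show (1 : S') ⊗ₜ[S] (Submodule.Quotient.mk (1 : S) : S ⧸ WeakAss.annEl S x) =
      (TensorProduct.tensorQuotEquivQuotSMul S' (WeakAss.annEl S x)).symm (Submodule.Quotient.mk 1) from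
        (TensorProduct.tensorQuotEquivQuotSMul_symm_mk _ _).symm, LinearEquiv.map_eq_zero_iff,
    Submodule.Quotient.mk_eq_zero] at h1
  have hle : ∀ y ∈ WeakAss.annEl S x • (⊤ : Submodule S S'), y ∈ q' := fun y hy => by
    induction hy using Submodule.smul_induction_on' with
    | smul a ha y _ =>
      rw [Algebra.smul_def]
      exact q'.mul_mem_right _ (show a ∈ q'.comap (algebraMap S S') by rw [hq'q]; exact hq.1.2 ha)
    | add y _ z _ hy hz => exact add_mem hy hz
  exact hq'.ne_top ((Ideal.eq_top_iff_one _).2 (hle 1 h1))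

/-- `N → S' ⊗ N` is universally injective over the base if the weakly associated primes of all `N ⊗ Z`
are contractions from `S'`. -/
theorem univInj_mk_of_lift {R S S' : Type u} [CommRing R] [CommRing S] [CommRing S'] [Algebra R S] [Algebra S S']
    [Algebra R S'] [IsScalarTower R S S'] [Module.Flat S S']
    (N : Type u) [AddCommGroup N] [Module S N] [Module R N] [IsScalarTower R S N]
    (h : ∀ (Z : Type u) [AddCommGroup Z] [Module R Z], ∀ q ∈ FlatCA.weakAss S (N ⊗[R] Z),
      ∃ q' : Ideal S', q'.IsPrime ∧ q'.comap (algebraMap S S') = q) :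
    FlatCA.UnivInj R ((TensorProduct.mk S S' N 1).restrictScalars R) := by
  intro Z _ _
  let e := AlgebraTensorModule.assoc R S S S' N Z
  let f := (TensorProduct.mk S S' N 1).restrictScalars R
  have key : ∀ w : N ⊗[R] Z, e (f.rTensor Z w) = TensorProduct.mk S S' (N ⊗[R] Z) 1 w := by
    intro w
    induction w with
    | zero => simp
    | add a b ha hb => simp only [map_add, ha, hb]
    | tmul m z => simp [e, f]
  have hinj : Function.Injective (f.rTensor Z) := fun a b hab =>
    mk_injective_of_weakAss_lift (h Z) (by rw [← key, ← key, hab])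
  intro a b hab
  apply (TensorProduct.comm R Z N).injective
  apply hinj
  have key2 : ∀ w, f.rTensor Z (TensorProduct.comm R Z N w) = TensorProduct.comm R Z _ (f.lTensor Z w) := by
    intro w
    induction w with
    | zero => simp
    | add a b ha hb => simp only [map_add, ha, hb]
    | tmul z m => simp
  rw [key2, key2]
  exact congrArg _ hab

end Groth.Agent.RGCore
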