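import Groth.Agent.RGCore.UnivInjAt
import Groth.Agent.RGCore.PureLift

/-!
The local situation: a local homomorphism, essentially of finite presentation, and a flat finitely presented
module.
-/

set_option autoImplicit false
set_option linter.unusedSectionVars false

universe u

open TensorProduct IsLocalRing

namespace Groth.Agent.RGCore

attribute [local instance] Algebra.TensorProduct.rightAlgebra

/-- In the local situation a linear map to a flat module which is injective on the closed fibre is
universally injective. -/
theorem univInj_local {R S : Type u} [CommRing R] [IsLocalRing R] [CommRing S] [IsLocalRing S] [Algebra R S]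
    [IsLocalHom (algebraMap R S)] (hS : FlatCA.EssFinitePresentation R S)
    {N : Type u} [AddCommGroup N] [Module S N] [Module R N] [IsScalarTower R S N] [Module.FinitePresentation S N]
    [Module.Flat R N]
    {M : Type u} [AddCommGroup M] [Module S M] [Module R M] [IsScalarTower R S M] [Module.Flat R M]
    (u : N →ₗ[S] M) (hinj : Function.Injective ((u.restrictScalars R).lTensor (maximalIdeal R).ResidueField)) :
    FlatCA.UnivInj R (u.restrictScalars R) := by
  obtain ⟨S₀, _, _, _, _, T, hfp, hloc⟩ := hS
  let y : Ideal S₀ := (maximalIdeal S).comap (algebraMap S₀ S)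
  have : y.LiesOver (maximalIdeal R) := ⟨by
    rw [Ideal.under_def, Ideal.comap_comap, ← IsScalarTower.algebraMap_eq]
    ext r
    rw [Ideal.mem_comap, mem_maximalIdeal, mem_maximalIdeal, mem_nonunits_iff, mem_nonunits_iff, not_iff_not]
    exact (isUnit_map_iff (algebraMap R S) r).symm⟩
  have hunit : ∀ x ∈ y.primeCompl, IsUnit (algebraMap S₀ S x) := fun x hx => notMem_maximalIdeal.1 hx
  have : IsLocalization y.primeCompl S :=
    IsLocalization.of_le T y.primeCompl (fun x hx => fun hxy =>
      (mem_maximalIdeal _).1 hxy (IsLocalization.map_units S (⟨x, hx⟩ : T))) hunit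
  let : Module S₀ N := Module.compHom N (algebraMap S₀ S)
  have : IsScalarTower S₀ S N := .of_algebraMap_smul fun _ _ => rfl
  let : Module S₀ M := Module.compHom M (algebraMap S₀ S)
  have : IsScalarTower S₀ S M := .of_algebraMap_smul fun _ _ => rfl
  have : IsScalarTower R S₀ N := .of_algebraMap_smul fun r x => by
    rw [← algebraMap_smul S (algebraMap R S₀ r) x, ← IsScalarTower.algebraMap_apply, algebraMap_smul]
  have : IsScalarTower R S₀ M := .of_algebraMap_smul fun r x => by
    rw [← algebraMap_smul S (algebraMap R S₀ r) x, ← IsScalarTower.algebraMap_apply, algebraMap_smul]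
  obtain ⟨N₀, _, _, l, hl, hfp₀⟩ := exists_fp_model y.primeCompl (Bt := S) N
  exact univInj_localized y (maximalIdeal R) l (u.restrictScalars S₀) hinj

theorem ext_comm {R S : Type u} [CommRing R] [CommRing S] [Algebra R S] {N M : Type u}
    [AddCommGroup N] [Module R N] [AddCommGroup M] [Module R M] (f : N →ₗ[R] M) (Z : Type u) [AddCommGroup Z]
    [Module R Z] (w : Z ⊗[R] N) :
    f.rTensor Z (TensorProduct.comm R Z N w) = TensorProduct.comm R Z M (f.lTensor Z w) := by
  induction w with
  | zero => simp
  | add a b ha hb => simp only [map_add, ha, hb]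
  | tmul z m => simp

/-- Multiplication by an element regular on the closed fibre is universally injective. -/
theorem univInj_lsmul_local {R S : Type u} [CommRing R] [IsLocalRing R] [CommRing S] [IsLocalRing S] [Algebra R S]
    [IsLocalHom (algebraMap R S)] (hS : FlatCA.EssFinitePresentation R S)
    (N : Type u) [AddCommGroup N] [Module S N] [Module R N] [IsScalarTower R S N] [Module.FinitePresentation S N]
    [Module.Flat R N] {s : S} (hs : s ∈ FlatCA.nzdFiber R S N) :
    FlatCA.UnivInj R ((LinearMap.lsmul S N s).restrictScalars R) := by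
  refine univInj_local hS (LinearMap.lsmul S N s) ((injective_iff_map_eq_zero _).2 fun w hw => ?_)
  obtain ⟨n, rfl⟩ : ∃ n : N, (1 : (maximalIdeal R).ResidueField) ⊗ₜ[R] n = w :=
    TensorProduct.mk_surjective R N _ (Ideal.algebraMap_residueField_surjective _) w
  rw [LinearMap.lTensor_tmul] at hw
  obtain ⟨a, ha, hmem⟩ := exists_smul_tmul_eq_zero (maximalIdeal R) (s • n) hw
  have h0 : FlatCA.toFiberMod (maximalIdeal R) (S := S) N (s • n) = 0 := by
    refine (toFiberMod_eq_zero_iff _ _).2 ⟨a, ha, ?_⟩
    have h := hmem (R ⧸ maximalIdeal R) 1 fun b hb => by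
      rw [Algebra.smul_def, mul_one, Ideal.Quotient.algebraMap_eq]
      exact Ideal.Quotient.eq_zero_iff_mem.2 hb
    rw [TensorProduct.smul_tmul', ← TensorProduct.tensorQuotEquivQuotSMul_symm_mk,
      LinearEquiv.map_eq_zero_iff, Submodule.Quotient.mk_eq_zero] at h
    exact h
  rw [map_smul] at h0
  obtain ⟨b, hb, hn⟩ := (toFiberMod_eq_zero_iff _ _).1 (hs _ h0)
  have hu : IsUnit (algebraMap R (maximalIdeal R).ResidueField b) :=
    isUnit_iff_ne_zero.2 fun h => hb (Ideal.algebraMap_residueField_eq_zero.1 h)
  rw [← hu.smul_eq_zero, algebraMap_smul, ← tmul_smul]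
  clear hw hmem h0 ha
  suffices hmap : ∀ v ∈ maximalIdeal R • (⊤ : Submodule R N), (1 : (maximalIdeal R).ResidueField) ⊗ₜ[R] v = 0 from
    hmap _ hn
  intro v hv
  induction hv using Submodule.smul_induction_on' with
  | smul c hc m _ =>
    rw [tmul_smul, ← algebraMap_smul (maximalIdeal R).ResidueField c,
      Ideal.algebraMap_residueField_eq_zero.2 hc, zero_smul]
  | add x _ y _ hx hy => rw [tmul_add, hx, hy, add_zero]

theorem univInj_mkLinearMap_nzd {R S : Type u} [CommRing R] [IsLocalRing R] [CommRing S] [IsLocalRing S] [Algebra R S]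
    [IsLocalHom (algebraMap R S)] (hS : FlatCA.EssFinitePresentation R S)
    (N : Type u) [AddCommGroup N] [Module S N] [Module R N] [IsScalarTower R S N] [Module.FinitePresentation S N]
    [Module.Flat R N] :
    FlatCA.UnivInj R ((LocalizedModule.mkLinearMap (FlatCA.nzdFiber R S N) N).restrictScalars R) := by
  intro Z _ _
  rw [injective_iff_map_eq_zero]
  intro w hw
  let F := AlgebraTensorModule.rTensor (A := S) R Z (LocalizedModule.mkLinearMap (FlatCA.nzdFiber R S N) N)
  obtain ⟨c, hc⟩ := (IsLocalizedModule.eq_zero_iff (FlatCA.nzdFiber R S N) F).1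
    (show F (TensorProduct.comm R Z N w) = 0 from
      (ext_comm (S := S) ((LocalizedModule.mkLinearMap (FlatCA.nzdFiber R S N) N).restrictScalars R) Z w).trans
        (by rw [hw, map_zero]))
  apply univInj_lsmul_local hS N c.2 Z
  rw [map_zero]
  apply (TensorProduct.comm R Z N).injective
  rw [map_zero, ← hc, ← ext_comm (S := S)]
  generalize TensorProduct.comm R Z N w = v
  induction v with
  | zero => simp
  | add a b ha hb => simp only [map_add, ha, hb, smul_add]
  | tmul m z => simp [Submonoid.smul_def, smul_tmul']

theorem flat_tensor_flat_algebra {R S S' : Type u} [CommRing R] [CommRing S] [CommRing S'] [Algebra R S]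
    [Algebra S S'] [Algebra R S'] [IsScalarTower R S S'] [Module.Flat S S']
    (N : Type u) [AddCommGroup N] [Module S N] [Module R N] [IsScalarTower R S N] [Module.Flat R N] :
    Module.Flat R (S' ⊗[S] N) := by
  rw [Module.Flat.iff_lTensor_preserves_injective_linearMap]
  intro X Y _ _ _ _ f hf
  let g := AlgebraTensorModule.lTensor S N f
  have hg : Function.Injective g := Module.Flat.lTensor_preserves_injective_linearMap f hf
  have h1 : Function.Injective (g.lTensor S') := Module.Flat.lTensor_preserves_injective_linearMap g hg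
  let eX := AlgebraTensorModule.assoc R S S S' N X
  let eY := AlgebraTensorModule.assoc R S S S' N Y
  have key : ∀ w, eY (f.lTensor (S' ⊗[S] N) w) = g.lTensor S' (eX w) := by
    intro w
    induction w with
    | zero => simp
    | add a b ha hb => simp only [map_add, ha, hb]
    | tmul v x =>
      induction v with
      | zero => simp
      | add a b ha hb => simp only [add_tmul, map_add, ha, hb]
      | tmul s m => simp [eX, eY, g]
  intro a b hab
  exact eX.injective (h1 (by rw [← key, ← key, hab]))

theorem univInj_mk_local {R S S' : Type u} [CommRing R] [IsLocalRing R] [CommRing S] [IsLocalRing S] [CommRing S']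
    [Algebra R S] [IsLocalHom (algebraMap R S)] [Algebra S S'] [Algebra R S'] [IsScalarTower R S S']
    (hS : FlatCA.EssFinitePresentation R S) [Module.Flat S S']
    (N : Type u) [AddCommGroup N] [Module S N] [Module R N] [IsScalarTower R S N] [Module.FinitePresentation S N]
    [Module.Flat R N]
    (h : ∀ q ∈ associatedPrimes S (FlatCA.fiberMod (maximalIdeal R) S N),
      ∃ q' : Ideal S', q'.IsPrime ∧ q'.comap (algebraMap S S') = q) :
    FlatCA.UnivInj R ((TensorProduct.mk S S' N 1).restrictScalars R) := by
  have := flat_tensor_flat_algebra (R := R) (S := S) (S' := S') N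
  let F := FlatCA.fiberMod (maximalIdeal R) S N
  have hweak : Function.Injective (TensorProduct.mk S S' F 1) := by
    refine mk_injective_of_weakAss_lift fun q hq => h q ?_
    have hfin : Algebra.EssFiniteType R S := by
      obtain ⟨S₀, _, _, _, _, T, hfp, hloc⟩ := hS
      have := Algebra.EssFiniteType.of_isLocalization (R := S₀) (S := S) T
      exact Algebra.EssFiniteType.comp R S₀ S
    have : IsNoetherianRing ((maximalIdeal R).Fiber S) :=
      Algebra.EssFiniteType.isNoetherianRing (maximalIdeal R).ResidueField _
    obtain ⟨x, hx⟩ := hq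
    let ι := algebraMap S ((maximalIdeal R).Fiber S)
    have hann : WeakAss.annEl S x = (WeakAss.annEl ((maximalIdeal R).Fiber S) x).comap ι := by
      ext s
      rw [Ideal.mem_comap, WeakAss.mem_annEl, WeakAss.mem_annEl, AssFiber.algebraMap_smul_fiberMod]
    have hx' : q ∈ (WeakAss.annEl S x).minimalPrimes := hx
    rw [hann] at hx'
    obtain ⟨J, hJ, rfl⟩ := Ideal.exists_minimalPrimes_comap_eq ι q hx'
    obtain ⟨-, z, hz⟩ := WeakAss.mem_ass_of_mem_weakAss_of_fg (IsNoetherian.noetherian J)
      (M := F) ⟨x, hJ⟩
    refine ⟨hJ.1.1.comap ι, z, ?_⟩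
    have hcol : (⊥ : Submodule S F).colon {z} = J.comap ι := by
      ext s
      rw [Submodule.mem_colon_singleton, Submodule.mem_bot, Ideal.mem_comap, hz]
      exact (Iff.of_eq congr($(AssFiber.algebraMap_smul_fiberMod (maximalIdeal R) N s z) = 0).symm).trans
        WeakAss.mem_annEl.symm
    rw [hcol, (hJ.1.1.comap ι).radical]
  refine univInj_local hS (TensorProduct.mk S S' N 1) ((injective_iff_map_eq_zero _).2 fun w hw => ?_)
  obtain ⟨n, rfl⟩ : ∃ n : N, (1 : (maximalIdeal R).ResidueField) ⊗ₜ[R] n = w :=
    TensorProduct.mk_surjective R N _ (Ideal.algebraMap_residueField_surjective _) w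
  rw [LinearMap.lTensor_tmul] at hw
  obtain ⟨a, ha, hkill⟩ := exists_smul_tmul_eq_zero (maximalIdeal R) _ hw
  have ha' : IsUnit a := notMem_maximalIdeal.1 ha
  have h0 : (1 : S') ⊗ₜ[S] FlatCA.toFiberMod (maximalIdeal R) (S := S) N n = 0 := by
    let T := (FlatCA.toFiberMod (maximalIdeal R) (S := S) N).lTensor S'
    have hsmul : a • ((1 : S') ⊗ₜ[S] n) ∈ maximalIdeal R • (⊤ : Submodule R (S' ⊗[S] N)) := by
      have h := hkill (R ⧸ maximalIdeal R) 1 fun b hb => by
        rw [Algebra.smul_def, mul_one, Ideal.Quotient.algebraMap_eq]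
        exact Ideal.Quotient.eq_zero_iff_mem.2 hb
      rw [TensorProduct.smul_tmul', ← TensorProduct.tensorQuotEquivQuotSMul_symm_mk,
        LinearEquiv.map_eq_zero_iff, Submodule.Quotient.mk_eq_zero] at h
      exact h
    rw [Submodule.smul_mem_iff_of_isUnit _ ha'] at hsmul
    have hT : ∀ v ∈ maximalIdeal R • (⊤ : Submodule R (S' ⊗[S] N)), T v = 0 := by
      intro v hv
      induction hv using Submodule.smul_induction_on' with
      | smul c hc v hvtop =>
        clear hvtop
        induction v with
        | zero => simp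
        | add x y hx hy => rw [smul_add, map_add, hx, hy, add_zero]
        | tmul s m =>
          rw [← algebraMap_smul S c, ← tmul_smul]
          show s ⊗ₜ[S] FlatCA.toFiberMod (maximalIdeal R) (S := S) N (algebraMap R S c • m) = 0
          rw [(toFiberMod_eq_zero_iff (maximalIdeal R) _).2 ⟨1,
            (Ideal.ne_top_iff_one _).1 (Ideal.IsPrime.ne_top inferInstance), by
              rw [one_smul, algebraMap_smul]; exact Submodule.smul_mem_smul hc trivial⟩, tmul_zero]
      | add x _ y _ hx hy => rw [map_add, hx, hy, add_zero]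
    exact hT _ hsmul
  obtain ⟨b, hb, hn⟩ := (toFiberMod_eq_zero_iff _ _).1 (hweak (h0.trans (map_zero _).symm))
  have hu : IsUnit (algebraMap R (maximalIdeal R).ResidueField b) :=
    isUnit_iff_ne_zero.2 fun h => hb (Ideal.algebraMap_residueField_eq_zero.1 h)
  rw [← hu.smul_eq_zero, algebraMap_smul, ← tmul_smul]
  clear hw hkill ha h0
  suffices hmap : ∀ v ∈ maximalIdeal R • (⊤ : Submodule R N), (1 : (maximalIdeal R).ResidueField) ⊗ₜ[R] v = 0 from
    hmap _ hn
  intro v hv
  induction hv using Submodule.smul_induction_on' with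
  | smul c hc m _ =>
    rw [tmul_smul, ← algebraMap_smul (maximalIdeal R).ResidueField c,
      Ideal.algebraMap_residueField_eq_zero.2 hc, zero_smul]
  | add x _ y _ hx hy => rw [tmul_add, hx, hy, add_zero]

end Groth.Agent.RGCore
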