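import Groth.Agent.FlatModel.Local

/-!
Descent of flatness at a prime of a finitely presented module to finitely generated subalgebras of
the base (the argument of `Groth.Agent.FlatModel.exists_ptFlat_powers`, kept at the lower level).
-/

namespace Groth.Agent.RGCore

open MvPolynomial TensorProduct Groth.Agent.FlatModel

universe u

variable {a n : ℕ} {R₀ : Type u} [CommRing R₀] (K₀ : Submodule (MvPolynomial (Fin n) R₀) (V a n R₀))

/-- Flatness at a prime descends to all large enough finitely generated subalgebras. -/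
theorem exists_ptFlat_descend [IsNoetherianRing R₀] {R : Type u} [CommRing R] [Algebra R₀ R]
    (Q : Ideal (MvPolynomial (Fin n) R)) [Q.IsPrime] (h : PtFlat K₀ R Q.primeCompl) :
    ∃ R₁ : Subalgebra R₀ R, R₁.FG ∧ ∃ g₁ : MvPolynomial (Fin n) R₁,
      MvPolynomial.map R₁.val.toRingHom g₁ ∉ Q ∧ ∀ (R₃ : Subalgebra R₀ R) (hle : R₁ ≤ R₃), R₃.FG →
        PtFlat K₀ R₃ (Submonoid.powers (MvPolynomial.map (Subalgebra.inclusion hle).toRingHom g₁)) := by
  classical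
  obtain ⟨S, hS, hcover⟩ := exists_cover K₀ ⊥
  choose G hG using fun p : Ideal R₀ => (IsNoetherian.noetherian (K₀ ⊓ CJ a n p) : (K₀ ⊓ CJ a n p).FG)
  let T : Ideal R₀ → (R₁ : Subalgebra R₀ R) → MvPolynomial (Fin n) R₁ → Set (V a n R₀) := fun p R₁ g =>
    {t | g • mapV (algebraMap R₀ R₁) t ∈
      ((((p.map (algebraMap R₀ R₁)).map C : Ideal (MvPolynomial (Fin n) R₁))) • KK K₀ R₁)}
  have hmono : ∀ p (R₁ R₂ : Subalgebra R₀ R) (hle : R₁ ≤ R₂) (g : MvPolynomial (Fin n) R₁)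
      (g' : MvPolynomial (Fin n) R₂), T p R₁ g ⊆ T p R₂ (g' * MvPolynomial.map (Subalgebra.inclusion hle).toRingHom g) := by
    intro p R₁ R₂ hle g g' t ht
    simp only [T, Set.mem_setOf_eq, map_smul_KK_eq_span] at ht ⊢
    have := span_mono_subalgebra hle ht
    rw [mapV_smul, mapV_algebraMap] at this
    rw [mul_smul]
    exact Submodule.smul_mem _ _ this
  have hone : ∀ p, ∀ t ∈ K₀, t ∈ CJ a n p → ∃ R₁ : Subalgebra R₀ R, R₁.FG ∧ ∃ g : MvPolynomial (Fin n) R₁,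
      MvPolynomial.map R₁.val.toRingHom g ∉ Q ∧ t ∈ T p R₁ g := by
    intro p t ht htp
    have h1 : mapV (algebraMap R₀ R) t ∈ CJ a n (p.map (algebraMap R₀ R)) := mem_CJ.2 fun i =>
      MvPolynomial.mem_map_C_iff.2 fun d => by
        rw [mapV_apply, MvPolynomial.coeff_map]
        exact Ideal.mem_map_of_mem _ (MvPolynomial.mem_map_C_iff.1 (mem_CJ.1 htp i) d)
    obtain ⟨s, hs, h2⟩ := h _ _ (mapL_mem_KK K₀ ht) h1
    rw [map_smul_KK_eq_span] at h2
    obtain ⟨R₁, hR₁, x₁, hx₁, hx₁t⟩ := exists_fg_span_descent h2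
    let R₂ := R₁ ⊔ Algebra.adjoin R₀ (s.coeffs : Set R)
    obtain ⟨g, hg⟩ : s ∈ Set.range (MvPolynomial.map R₂.val.toRingHom) :=
      MvPolynomial.mem_range_map_iff_coeffs_subset.2 fun c hc =>
        ⟨⟨c, (le_sup_right : _ ≤ R₂) (Algebra.subset_adjoin hc)⟩, rfl⟩
    refine ⟨R₂, hR₁.sup (Subalgebra.fg_adjoin_finset _), g, hg.symm ▸ hs, ?_⟩
    have hx₂ := span_mono_subalgebra (le_sup_left : R₁ ≤ R₂) hx₁
    have : mapV (Subalgebra.inclusion le_sup_left).toRingHom x₁ = g • mapV (algebraMap R₀ R₂) t :=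
      mapV_injective (g := R₂.val.toRingHom) Subtype.val_injective (by
        rw [mapV_val_inclusion, hx₁t, mapV_smul, hg, mapV_algebraMap]
        rfl)
    simp only [T, Set.mem_setOf_eq, map_smul_KK_eq_span]
    exact this ▸ hx₂
  have hfin : ∀ W : Finset (Ideal R₀ × V a n R₀), (∀ w ∈ W, w.2 ∈ K₀ ⊓ CJ a n w.1) →
      ∃ R₁ : Subalgebra R₀ R, R₁.FG ∧ ∃ g : MvPolynomial (Fin n) R₁,
        MvPolynomial.map R₁.val.toRingHom g ∉ Q ∧ ∀ w ∈ W, w.2 ∈ T w.1 R₁ g := by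
    intro W
    induction W using Finset.induction with
    | empty =>
      exact fun _ => ⟨⊥, Subalgebra.fg_bot, 1, by
        rw [map_one]; exact (Ideal.ne_top_iff_one Q).1 (Ideal.IsPrime.ne_top ‹_›), by simp⟩
    | insert w W _ ih =>
      intro hW
      obtain ⟨R₁, h₁, g₁, hg₁, h₁'⟩ := ih fun z hz => hW z (Finset.mem_insert_of_mem hz)
      obtain ⟨R₂, h₂, g₂, hg₂, h₂'⟩ := hone w.1 w.2 (hW w (Finset.mem_insert_self _ _)).1 (hW w (Finset.mem_insert_self _ _)).2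
      let i₁ := MvPolynomial.map (σ := Fin n) (Subalgebra.inclusion (le_sup_left : R₁ ≤ R₁ ⊔ R₂)).toRingHom
      let i₂ := MvPolynomial.map (σ := Fin n) (Subalgebra.inclusion (le_sup_right : R₂ ≤ R₁ ⊔ R₂)).toRingHom
      refine ⟨R₁ ⊔ R₂, h₁.sup h₂, i₁ g₁ * i₂ g₂, ?_, fun z hz => ?_⟩
      · rw [map_mul]
        refine Ideal.IsPrime.mul_notMem ‹_› ?_ ?_
        · simp only [i₁, MvPolynomial.map_map]; exact hg₁
        · simp only [i₂, MvPolynomial.map_map]; exact hg₂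
      rcases Finset.mem_insert.1 hz with rfl | hz
      · exact hmono _ _ _ le_sup_right g₂ (i₁ g₁) h₂'
      · rw [mul_comm]
        exact hmono _ _ _ le_sup_left g₁ (i₂ g₂) (h₁' z hz)
  obtain ⟨R₁, hR₁, g₁, hg₁, hW⟩ := hfin (S.biUnion fun x => (G x.1).image fun t => (x.1, t)) (by
    intro w hw
    simp only [Finset.mem_biUnion, Finset.mem_image] at hw
    obtain ⟨x, -, t, ht, rfl⟩ := hw
    exact (hG x.1).le (Submodule.subset_span ht))
  refine ⟨R₁, hR₁, g₁, hg₁, fun R₃ hle hR₃ J₃ x₃ hx₃ hx₃J => ?_⟩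
  let g := MvPolynomial.map (σ := Fin n) (Subalgebra.inclusion hle).toRingHom g₁
  have : Algebra.FiniteType R₀ R₃ := (Subalgebra.fg_iff_finiteType R₃).1 hR₃
  have : IsNoetherianRing R₃ := Algebra.FiniteType.isNoetherianRing R₀ R₃
  let c : Ideal (MvPolynomial (Fin n) R₃) :=
    ((J₃.map C : Ideal (MvPolynomial (Fin n) R₃)) • KK K₀ R₃).comap (LinearMap.toSpanSingleton _ _ x₃)
  have hgc : g ∈ c.radical := by
    rw [Ideal.radical_eq_sInf, Ideal.mem_sInf]
    rintro P ⟨hcP, hP⟩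
    by_contra hgP
    obtain ⟨⟨p, f⟩, hpf, hpP, hfP⟩ :=
      hcover (P.comap ((C : R₃ →+* MvPolynomial (Fin n) R₃).comp (algebraMap R₀ R₃))) (Ideal.IsPrime.comap _) bot_le
    have hT : ∀ t ∈ K₀, t ∈ CJ a n p → g • mapV (algebraMap R₀ R₃) t ∈
        (((p.map (algebraMap R₀ R₃)).map C : Ideal (MvPolynomial (Fin n) R₃))) • KK K₀ R₃ := by
      intro t ht htp
      have hmem : t ∈ Submodule.span (MvPolynomial (Fin n) R₀) (G p : Set (V a n R₀)) := (hG p).ge ⟨ht, htp⟩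
      have hspan : Submodule.span (MvPolynomial (Fin n) R₃) (mapV (algebraMap R₀ R₃) '' (G p : Set (V a n R₀))) ≤
          (((p.map (algebraMap R₀ R₃)).map C : Ideal (MvPolynomial (Fin n) R₃)) • KK K₀ R₃).comap
            (LinearMap.lsmul (MvPolynomial (Fin n) R₃) (V a n R₃) g) := by
        rw [Submodule.span_le]
        rintro _ ⟨t, ht, rfl⟩
        have h1 := hmono p R₁ R₃ hle g₁ 1 (hW (p, t) (Finset.mem_biUnion.2 ⟨(p, f), hpf, Finset.mem_image_of_mem _ ht⟩))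
        rw [one_mul] at h1
        exact h1
      exact hspan (mapV_mem_span (algebraMap R₀ R₃) hmem)
    obtain ⟨s, hs, hsx⟩ := exists_smul_mem K₀ (hS _ hpf) g hT J₃ hx₃ hx₃J P hpP hfP hgP
    exact hs (hcP hsx)
  obtain ⟨m, hm⟩ := hgc
  exact ⟨_, ⟨m, rfl⟩, hm⟩

end Groth.Agent.RGCore
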