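import Groth.Agent.RGCore.Assassin
import Mathlib.RingTheory.Etale.Basic
import Mathlib.RingTheory.IsTensorProduct

/-!
Purity along a fibre, for the trivial elementary étale neighbourhood.
-/

set_option autoImplicit false
set_option linter.unusedSectionVars false

universe u

open TensorProduct

namespace Groth.Agent.RGCore

variable {A B : Type u} [CommRing A] [CommRing B] [Algebra A B] {N : Type u} [AddCommGroup N] [Module A N]
  [Module B N] [IsScalarTower A B N]

theorem isEtaleNhd_self (p : Ideal A) [p.IsPrime] : FlatCA.IsEtaleNhd A A p p := by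
  refine ⟨inferInstance, ⟨by rw [Ideal.under, Algebra.algebraMap_self, Ideal.comap_id]⟩, ?_⟩
  have h : ∀ hpp : p = p.comap (algebraMap A A), ∀ x,
      Ideal.ResidueField.mapₐ p p (Algebra.ofId A A) hpp x = x := by
    intro hpp x
    have : Ideal.ResidueField.mapₐ p p (Algebra.ofId A A) hpp = AlgHom.id A p.ResidueField :=
      Ideal.ResidueField.algHom_ext (Subsingleton.elim _ _)
    rw [this]
    rfl
  exact ⟨fun a b hab => by rwa [h, h] at hab, fun b => ⟨b, h _ b⟩⟩

/-- A pure module: the points of the relative assassin over generisations of `p` specialise to the fibre at `p`. -/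
theorem exists_liesOver_of_pureAlong (p : Ideal A) [p.IsPrime] (hpure : FlatCA.IsPureAlong A B N p)
    (p' : Ideal A) [p'.IsPrime] (hle : p' ≤ p) (Q : Ideal B) [Q.IsPrime] [Q.LiesOver p']
    (hass : FlatCA.fiberIdeal p' Q ∈ associatedPrimes (p'.Fiber B) (FlatCA.fiberMod p' B N)) :
    ∃ q : Ideal B, q.IsPrime ∧ Q ≤ q ∧ q.LiesOver p := by
  by_contra hcon
  have hpush : Algebra.IsPushout A B A B :=
    ⟨IsBaseChange.of_equiv ((AlgebraTensorModule.rid A B B)) fun x => by simp [Algebra.algebraMap_eq_smul_one]⟩
  exact hpure A B N (LinearMap.id : N →ₗ[B] N) p' p Q (isEtaleNhd_self p)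
    ⟨hpush, IsBaseChange.of_equiv (TensorProduct.lid B N) fun x => by simp, hle,
      ⟨by rw [Ideal.under, Algebra.algebraMap_self, Ideal.comap_id]⟩, inferInstance, hass,
      fun P hP h hP' => hcon ⟨P, hP, h, hP'⟩⟩

end Groth.Agent.RGCore
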