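import Groth.Agent.RGCore.Fibrewise

/-!
Finitely presented modules over localisations come from finitely presented modules, and reduction of the
fibrewise criterion to polynomial rings.
-/

set_option autoImplicit false
set_option linter.unusedSectionVars false

universe u

namespace Groth.Agent.RGCore

theorem isLocalizedModule_pi {B : Type u} [CommRing B] (T : Submonoid B) {Bt : Type u} [CommRing Bt]
    [Algebra B Bt] [IsLocalization T Bt] (m : ℕ) :
    IsLocalizedModule T (LinearMap.pi fun i : Fin m => (Algebra.linearMap B Bt).comp (LinearMap.proj i)) where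
  map_units s := by
    rw [Module.End.isUnit_iff]
    have hu := IsLocalization.map_units Bt s
    constructor
    · intro x y h
      funext i
      apply hu.mul_left_cancel
      simpa [Algebra.smul_def] using congr_fun h i
    · intro y
      refine ⟨fun i => ↑hu.unit⁻¹ * y i, funext fun i => ?_⟩
      show (s : B) • (↑hu.unit⁻¹ * y i) = y i
      rw [Algebra.smul_def, ← mul_assoc, IsUnit.mul_val_inv, one_mul]
  surj y := by
    obtain ⟨b, hb⟩ := IsLocalization.exist_integer_multiples_of_finite T y
    choose x hx using hb
    exact ⟨⟨x, b⟩, funext fun i => (hx i).symm⟩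
  exists_of_eq {x y} h := by
    have hi : ∀ i, ∃ c : T, (c : B) * x i = (c : B) * y i := fun i =>
      (IsLocalization.eq_iff_exists T Bt).1 (congr_fun h i)
    choose c hc using hi
    refine ⟨∏ i, c i, funext fun i => ?_⟩
    show ((∏ i, c i : T) : B) * x i = ((∏ i, c i : T) : B) * y i
    rw [← Finset.prod_erase_mul _ _ (Finset.mem_univ i), Submonoid.coe_mul, mul_assoc, mul_assoc, hc i]

/-- A finitely presented module over a localisation is the localisation of a finitely presented module. -/
theorem exists_fp_model {B : Type u} [CommRing B] (T : Submonoid B) {Bt : Type u} [CommRing Bt]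
    [Algebra B Bt] [IsLocalization T Bt] (N : Type u) [AddCommGroup N] [Module Bt N] [Module B N]
    [IsScalarTower B Bt N] [Module.FinitePresentation Bt N] :
    ∃ (N₀ : Type u) (_ : AddCommGroup N₀) (_ : Module B N₀) (l : N₀ →ₗ[B] N),
      IsLocalizedModule T l ∧ Module.FinitePresentation B N₀ := by
  classical
  obtain ⟨m, π, hπ⟩ := Module.Finite.exists_fin' Bt N
  obtain ⟨G, hG⟩ := Module.FinitePresentation.fg_ker π hπ
  let f : (Fin m → B) →ₗ[B] (Fin m → Bt) := LinearMap.pi fun i => (Algebra.linearMap B Bt).comp (LinearMap.proj i)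
  have hf : IsLocalizedModule T f := isLocalizedModule_pi T m
  have hg : ∀ g : Fin m → Bt, ∃ (g₀ : Fin m → B) (s : T), (s : B) • g = f g₀ := fun g => by
    obtain ⟨⟨g₀, s⟩, h⟩ := IsLocalizedModule.surj T f g
    exact ⟨g₀, s, h⟩
  choose g₀ s hs using hg
  let K₀ : Submodule B (Fin m → B) := Submodule.span B (g₀ '' G)
  have hK : K₀.localized' Bt T f = LinearMap.ker π := by
    apply le_antisymm
    · rintro x ⟨k, hk, t, rfl⟩
      have hfk : π (f k) = 0 := by
        have : K₀ ≤ ((LinearMap.ker π).restrictScalars B).comap f := by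
          refine Submodule.span_le.2 ?_
          rintro _ ⟨g, hgG, rfl⟩
          show π (f (g₀ g)) = 0
          rw [← hs, LinearMap.map_smul_of_tower,
            LinearMap.mem_ker.1 (hG.le (Submodule.subset_span hgG)), smul_zero]
        exact this hk
      rw [LinearMap.mem_ker, ← (IsLocalization.map_units Bt t).smul_eq_zero, algebraMap_smul,
        ← LinearMap.map_smul_of_tower, show (t : B) • IsLocalizedModule.mk' f k t = f k from
          IsLocalizedModule.mk'_cancel' f k t]
      exact hfk
    · rw [← hG, Submodule.span_le]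
      intro g hgG
      exact ⟨g₀ g, Submodule.subset_span ⟨g, hgG, rfl⟩, s g, (IsLocalizedModule.mk'_eq_iff).2 (hs g).symm⟩
  refine ⟨(Fin m → B) ⧸ K₀, inferInstance, inferInstance,
    (((Submodule.quotEquivOfEq _ _ hK).trans (π.quotKerEquivOfSurjective hπ)).restrictScalars B).toLinearMap ∘ₗ
      K₀.toLocalizedQuotient' Bt T f, IsLocalizedModule.of_linearEquiv _ _ _,
    Module.finitePresentation_of_surjective K₀.mkQ (Submodule.mkQ_surjective _)
      (by rw [Submodule.ker_mkQ]; exact ⟨G.image g₀, by rw [Finset.coe_image]⟩)⟩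

/-- A finitely presented algebra has a presentation by a polynomial ring over which the finitely presented
modules remain finitely presented. -/
theorem exists_presentation {A B : Type u} [CommRing A] [CommRing B] [Algebra A B] [Algebra.FinitePresentation A B]
    (N₀ : Type u) [AddCommGroup N₀] [Module B N₀] [Module.FinitePresentation B N₀] :
    ∃ (n : ℕ) (φ : MvPolynomial (Fin n) A →ₐ[A] B) (_ : Module (MvPolynomial (Fin n) A) N₀),
      Function.Surjective φ ∧ (∀ (q : MvPolynomial (Fin n) A) (x : N₀), q • x = φ q • x) ∧
      Module.FinitePresentation (MvPolynomial (Fin n) A) N₀ := by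
  obtain ⟨n, φ, hφ, hker⟩ := ‹Algebra.FinitePresentation A B›
  let : Algebra (MvPolynomial (Fin n) A) B := φ.toRingHom.toAlgebra
  let : Module (MvPolynomial (Fin n) A) N₀ := Module.compHom N₀ φ.toRingHom
  have : IsScalarTower (MvPolynomial (Fin n) A) B N₀ := .of_algebraMap_smul fun _ _ => rfl
  have : Module.FinitePresentation (MvPolynomial (Fin n) A) B :=
    Module.finitePresentation_of_surjective (Algebra.linearMap (MvPolynomial (Fin n) A) B) hφ hker
  exact ⟨n, φ, _, hφ, fun _ _ => rfl, Module.FinitePresentation.trans (MvPolynomial (Fin n) A) N₀ B⟩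

theorem univInj_of_fibrewise_fp {A B : Type u} [CommRing A] [CommRing B] [Algebra A B] [Algebra.FinitePresentation A B]
    (T : Submonoid B) {Bt : Type u} [CommRing Bt] [Algebra B Bt] [Algebra A Bt] [IsScalarTower A B Bt]
    [IsLocalization T Bt] (N : Type u) [AddCommGroup N] [Module Bt N] [Module A N] [IsScalarTower A Bt N]
    [Module.FinitePresentation Bt N] [Module.Flat A N]
    {M : Type u} [AddCommGroup M] [Module A M] [Module.Flat A M] (u : N →ₗ[A] M)
    (h : ∀ (p : Ideal A) [p.IsPrime], Function.Injective (u.lTensor p.ResidueField)) :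
    FlatCA.UnivInj A u := by
  let : Module B N := Module.compHom N (algebraMap B Bt)
  have : IsScalarTower B Bt N := .of_algebraMap_smul fun _ _ => rfl
  obtain ⟨N₀, _, _, l, hl, hfp⟩ := exists_fp_model T (Bt := Bt) N
  obtain ⟨n, φ, _, hφ, hact, hfp'⟩ := exists_presentation (A := A) (B := B) N₀
  let : Module A N₀ := Module.compHom N₀ (algebraMap A (MvPolynomial (Fin n) A))
  have : IsScalarTower A (MvPolynomial (Fin n) A) N₀ := .of_algebraMap_smul fun _ _ => rfl
  let : Module (MvPolynomial (Fin n) A) N := Module.compHom N φ.toRingHom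
  have : IsScalarTower A (MvPolynomial (Fin n) A) N := .of_algebraMap_smul fun a x => by
    show φ (algebraMap A _ a) • x = a • x
    rw [AlgHom.commutes, ← algebraMap_smul Bt (algebraMap A B a) x, ← IsScalarTower.algebraMap_apply,
      algebraMap_smul]
  let l' : N₀ →ₗ[MvPolynomial (Fin n) A] N :=
    { toFun := l
      map_add' := l.map_add
      map_smul' := fun q x => by rw [hact]; exact l.map_smul _ _ }
  let T' := T.comap φ.toRingHom.toMonoidHom
  have : IsLocalizedModule T' l' :=
    { map_units := fun t => (Module.End.isUnit_iff _).2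
        (show Function.Bijective fun y : N => φ t.1 • y from
          (Module.End.isUnit_iff _).1 (IsLocalizedModule.map_units l (⟨φ t.1, t.2⟩ : T)))
      surj := fun y => by
        obtain ⟨⟨x, t⟩, hx⟩ := IsLocalizedModule.surj T l y
        obtain ⟨t', ht'⟩ := hφ t.1
        refine ⟨⟨x, ⟨t', show φ t' ∈ T from ht' ▸ t.2⟩⟩, ?_⟩
        show φ t' • y = l x
        rw [ht']
        exact hx
      exists_of_eq := fun {x y} h => by
        obtain ⟨c, hc⟩ := IsLocalizedModule.exists_of_eq (S := T) (f := l) h
        obtain ⟨t', ht'⟩ := hφ c.1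
        refine ⟨⟨t', show φ t' ∈ T from ht' ▸ c.2⟩, ?_⟩
        show t' • x = t' • y
        rw [hact, hact, ht']
        exact hc }
  exact univInj_of_fibrewise T' l' u h

end Groth.Agent.RGCore
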