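import Mathlib.RingTheory.MvPolynomial.Ideal
import Mathlib.RingTheory.Smooth.Basic
import Mathlib.RingTheory.FiniteType
import Mathlib.LinearAlgebra.Projection
import Mathlib.Algebra.Module.Projective
import Groth.Agent.MiscTwoH99.SmoothGraded

/-!
The infinitesimal neighbourhoods of a section of a formally smooth algebra are projective.
-/

set_option autoImplicit false

universe u

namespace Groth.Agent.RGCore

open MvPolynomial

/-- The truncated polynomial algebra is projective. -/
theorem projective_truncated (C : Type u) [CommRing C] (σ : Type) (n : ℕ) :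
    Module.Projective C (MvPolynomial σ C ⧸ idealOfVars σ C ^ n) := by
  classical
  let b := basisMonomials σ C
  let pr : MvPolynomial σ C →ₗ[C] MvPolynomial σ C :=
    b.constr C fun x => if Finsupp.degree x < n then b x else 0
  have hpr : ∀ (p : MvPolynomial σ C) (x), coeff x (pr p) = if Finsupp.degree x < n then coeff x p else 0 := by
    intro p x
    induction p using MvPolynomial.induction_on' with
    | monomial y a =>
      rw [show monomial y a = a • b y by simp [b, smul_monomial], map_smul, Module.Basis.constr_basis]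
      simp only [coeff_smul]
      by_cases hxy : y = x
      · subst hxy; split_ifs <;> simp [b, coeff_monomial]
      · split_ifs <;> simp [b, coeff_monomial, hxy]
    | add p q hp hq => simp only [map_add, coeff_add, hp, hq]; split_ifs <;> simp
  let J : Submodule C (MvPolynomial σ C) := (idealOfVars σ C ^ n).restrictScalars C
  have hJ : J ≤ LinearMap.ker pr := fun p hp => by
    refine LinearMap.mem_ker.2 (MvPolynomial.ext _ _ fun x => ?_)
    rw [hpr, coeff_zero]
    split_ifs with h
    · exact (mem_pow_idealOfVars_iff' n p).1 hp x h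
    · rfl
  let s : (MvPolynomial σ C ⧸ idealOfVars σ C ^ n) →ₗ[C] MvPolynomial σ C :=
    (Submodule.liftQ J pr hJ).comp (Submodule.Quotient.restrictScalarsEquiv C _).symm.toLinearMap
  refine Module.Projective.of_split s (Ideal.Quotient.mkₐ C _).toLinearMap (LinearMap.ext fun q => ?_)
  obtain ⟨p, rfl⟩ := Ideal.Quotient.mk_surjective q
  show Ideal.Quotient.mk _ (pr p) = Ideal.Quotient.mk _ p
  rw [Ideal.Quotient.eq, mem_pow_idealOfVars_iff']
  intro x hx
  rw [coeff_sub, hpr, if_pos hx, sub_self]

variable {C P : Type u} [CommRing C] [CommRing P] [Algebra C P]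

/-- The thickenings of a section of a formally smooth algebra of finite type are projective modules. -/
theorem projective_quotient_aug [Algebra.FiniteType C P] [Algebra.FormallySmooth C P]
    (π : P →ₐ[C] C) (n : ℕ) : Module.Projective C (P ⧸ RingHom.ker π ^ n) := by
  classical
  cases n with
  | zero =>
    have : Subsingleton (P ⧸ RingHom.ker π ^ 0) := Ideal.Quotient.subsingleton_iff.2 (by rw [pow_zero, Ideal.one_eq_top])
    infer_instance
  | succ n =>
    set I := RingHom.ker π with hI
    obtain ⟨d, f, hf⟩ : ∃ (d : ℕ) (f : Fin d → P), Ideal.span (Set.range f) = I :=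
      Submodule.fg_iff_exists_fin_generating_family.1 (MiscTwoH99.SmoothGraded.aug_fg (R := C) (A₀ := C) π)
    have hfI : ∀ i, π (f i) = 0 := fun i =>
      RingHom.mem_ker.1 (hf.le (Ideal.subset_span (Set.mem_range_self i)))
    let Q := P ⧸ I ^ (n + 1)
    let ψ : MvPolynomial (Fin d) C →ₐ[C] P := aeval f
    let g : MvPolynomial (Fin d) C →ₐ[C] Q := (Ideal.Quotient.mkₐ C _).comp ψ
    have hJI : (idealOfVars (Fin d) C).map ψ ≤ I := by
      rw [idealOfVars, Ideal.map_span, Ideal.span_le]
      rintro _ ⟨_, ⟨i, rfl⟩, rfl⟩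
      simpa [ψ, I] using hfI i
    have hg : ∀ p ∈ idealOfVars (Fin d) C ^ (n + 1), g p = 0 := fun p hp =>
      Ideal.Quotient.eq_zero_iff_mem.2 ((Ideal.pow_right_mono hJI _)
        (by rw [← Ideal.map_pow]; exact Ideal.mem_map_of_mem _ hp))
    let T := MvPolynomial (Fin d) C ⧸ idealOfVars (Fin d) C ^ (n + 1)
    let φ : T →ₐ[C] Q := Ideal.Quotient.liftₐ _ g hg
    have hψ : ∀ p, π (ψ p) = constantCoeff p := by
      intro p
      induction p using MvPolynomial.induction_on with
      | C a => simp [ψ]
      | add p q hp hq => simp only [map_add, hp, hq]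
      | mul_X p i _ => simp [ψ, hfI i]
    have hsurjk : ∀ k (x : P), ∃ p, x - ψ p ∈ I ^ k := by
      intro k
      induction k with
      | zero => exact fun x => ⟨0, by simp⟩
      | succ k ih =>
        intro x
        have hx : x - algebraMap C P (π x) ∈ Ideal.span (Set.range f) := by
          rw [hf]; simp [I, RingHom.mem_ker]
        obtain ⟨c, hc⟩ := Ideal.mem_span_range_iff_exists_fun.1 hx
        choose p hp using fun i => ih (c i)
        refine ⟨MvPolynomial.C (π x) + ∑ i, p i * X i, ?_⟩
        have : x - ψ (MvPolynomial.C (π x) + ∑ i, p i * X i) = ∑ i, (c i - ψ (p i)) * f i := by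
          simp only [map_add, map_sum, map_mul, ψ, aeval_C, aeval_X, sub_mul, Finset.sum_sub_distrib]
          rw [hc]
          abel
        rw [this, pow_succ]
        exact sum_mem fun i _ => Ideal.mul_mem_mul (hp i) (hf.le (Ideal.subset_span (Set.mem_range_self i)))
    have hφ : Function.Surjective φ := fun q => by
      obtain ⟨x, rfl⟩ := Ideal.Quotient.mk_surjective q
      obtain ⟨p, hp⟩ := hsurjk (n + 1) x
      exact ⟨Ideal.Quotient.mk _ p, (Ideal.Quotient.eq.2 hp).symm⟩
    have hker : ∀ p : MvPolynomial (Fin d) C, constantCoeff p = 0 → p ∈ idealOfVars (Fin d) C := by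
      intro p hp
      rw [← pow_one (idealOfVars (Fin d) C), mem_pow_idealOfVars_iff']
      intro x hx
      rw [show x = 0 by simpa [Finsupp.degree_eq_zero_iff] using (Nat.lt_one_iff.1 hx)]
      exact hp
    let Jb : Ideal T := (idealOfVars (Fin d) C).map (Ideal.Quotient.mk _)
    have hJb : Jb ^ (n + 1) = ⊥ := by
      rw [← Ideal.map_pow]; exact Ideal.map_quotient_self _
    have hφπ : ∀ t : T, ∀ x : P, φ t = Ideal.Quotient.mk _ x → π x = 0 → t ∈ Jb := by
      intro t x htx hx
      obtain ⟨p, rfl⟩ := Ideal.Quotient.mk_surjective t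
      refine Ideal.mem_map_of_mem _ (hker p ?_)
      have : ψ p - x ∈ I ^ (n + 1) := Ideal.Quotient.eq.1 htx
      have : π (ψ p - x) = 0 := RingHom.mem_ker.1 (Ideal.pow_le_self n.succ_ne_zero this)
      rw [map_sub, hψ, hx, sub_zero] at this
      exact this
    have hnil : IsNilpotent (RingHom.ker (φ : T →+* Q)) := by
      refine ⟨n + 1, ?_⟩
      rw [Ideal.zero_eq_bot, ← le_bot_iff, ← hJb]
      refine Ideal.pow_right_mono (fun t ht => hφπ t 0 ?_ (map_zero π)) _
      rw [map_zero]; exact ht
    let β : P →ₐ[C] T := Algebra.FormallySmooth.liftOfSurjective (Ideal.Quotient.mkₐ C (I ^ (n + 1))) φ hφ hnil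
    have hβ : ∀ x, φ (β x) = Ideal.Quotient.mk _ x :=
      Algebra.FormallySmooth.liftOfSurjective_apply _ φ hφ hnil
    have hβI : ∀ x ∈ I ^ (n + 1), β x = 0 := by
      intro x hx
      rw [← Ideal.mem_bot, ← hJb]
      refine Ideal.pow_right_mono ?_ (n + 1) (Ideal.map_pow (β : P →+* T) I (n + 1) ▸ Ideal.mem_map_of_mem (β : P →+* T) hx)
      rw [Ideal.map_le_iff_le_comap]
      exact fun y hy => hφπ (β y) y (hβ y) (RingHom.mem_ker.1 hy)
    let s : Q →ₐ[C] T := Ideal.Quotient.liftₐ _ β hβI
    have := projective_truncated C (Fin d) (n + 1)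
    exact Module.Projective.of_split s.toLinearMap φ.toLinearMap (LinearMap.ext fun q => by
      obtain ⟨x, rfl⟩ := Ideal.Quotient.mk_surjective q
      exact hβ x)

end Groth.Agent.RGCore
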