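import Groth.Agent.RGCore.GenericBasis
import Groth.Agent.RGCore.SmoothAug
import Groth.Agent.CAlgUI.Factor
import Mathlib.RingTheory.Filtration
import Mathlib.RingTheory.Smooth.Flat
import Mathlib.RingTheory.Smooth.NoetherianDescent

/-!
Separatedness along a section of a smooth algebra with integral fibres, after tensoring with any module.
-/

set_option autoImplicit false
set_option linter.unusedSectionVars false

universe u

open TensorProduct

namespace Groth.Agent.RGCore

section Noetherian

variable {A P : Type u} [CommRing A] [IsNoetherianRing A] [CommRing P] [Algebra A P]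
  [Algebra.FiniteType A P] [Algebra.FormallySmooth A P] [Module.Flat A P]

theorem eq_zero_of_forall_aug_fg (π : P →ₐ[A] A) {Z : Type u} [AddCommGroup Z] [Module A Z] [Module.Finite A Z]
    (hZ : ∀ (p : Ideal A) [p.IsPrime], p ∈ FlatCA.weakAss A Z → IsDomain (p.ResidueField ⊗[A] P)) (z : Z ⊗[A] P)
    (h : ∀ n, (Ideal.Quotient.mkₐ A (RingHom.ker π ^ n)).toLinearMap.lTensor Z z = 0) : z = 0 := by
  set I := RingHom.ker π with hI
  have : IsNoetherianRing P := Algebra.FiniteType.isNoetherianRing A P
  let w : P ⊗[A] Z := TensorProduct.comm A Z P z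
  have hw : w ∈ (⨅ i : ℕ, I ^ i • ⊤ : Submodule P (P ⊗[A] Z)) := by
    refine (Submodule.mem_iInf _).2 fun n => ?_
    have hex : Function.Exact ((I ^ n).subtype.restrictScalars A) (Ideal.Quotient.mkₐ A (I ^ n)).toLinearMap := by
      rw [LinearMap.exact_iff]
      ext x
      simp [Ideal.Quotient.eq_zero_iff_mem]
    obtain ⟨y, hy⟩ := (lTensor_exact Z hex Ideal.Quotient.mk_surjective z).1 (h n)
    show TensorProduct.comm A Z P z ∈ _
    rw [← hy]
    clear hy
    induction y with
    | zero => simp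
    | add a b ha hb => simp only [map_add]; exact add_mem ha hb
    | tmul a x =>
      simp only [LinearMap.lTensor_tmul, LinearMap.restrictScalars_apply, Submodule.subtype_apply, TensorProduct.comm_tmul]
      rw [show (x : P) ⊗ₜ[A] a = (x : P) • ((1 : P) ⊗ₜ[A] a) by rw [smul_tmul', smul_eq_mul, mul_one]]
      exact Submodule.smul_mem_smul x.2 trivial
  obtain ⟨r, hr⟩ := (Ideal.mem_iInf_smul_pow_eq_bot_iff I w).1 hw
  refine eq_zero_of_assassins (S := P) Z z fun Q _ hQ hass => ?_
  have hp : (Q.under A).IsPrime := inferInstance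
  let q : Ideal P := (Q.under A).comap π
  have : q.IsPrime := Ideal.IsPrime.comap π
  have : q.LiesOver (Q.under A) := ⟨by ext a; simp [q]⟩
  have := hZ (Q.under A) hQ
  refine ⟨q, assassin_le_of_isDomain (Q.under A) Q hass q, 1 - (r : P), ?_, ?_⟩
  · intro h1
    have hr0 : π (r : P) = 0 := r.2
    refine hp.ne_top ((Ideal.eq_top_iff_one _).2 ?_)
    simpa [q, hr0] using h1
  · refine (TensorProduct.comm A Z P).injective ?_
    have hnat : ∀ (t : P) (x : Z ⊗[A] P),
        TensorProduct.comm A Z P (((LinearMap.lsmul P P t).restrictScalars A).lTensor Z x) =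
          t • TensorProduct.comm A Z P x := by
      intro t x
      induction x with
      | zero => simp
      | add a b ha hb => simp only [map_add, smul_add, ha, hb]
      | tmul a b => simp [smul_tmul']
    rw [hnat, map_zero]
    exact (sub_smul (1 : P) (r : P) w).trans (by rw [one_smul, hr, sub_self])

/-- Separatedness along a section, Noetherian base. -/
theorem eq_zero_of_forall_aug_noetherian (π : P →ₐ[A] A) {Z : Type u} [AddCommGroup Z] [Module A Z]
    (hZ : ∀ (p : Ideal A) [p.IsPrime], p ∈ FlatCA.weakAss A Z → IsDomain (p.ResidueField ⊗[A] P)) (z : Z ⊗[A] P)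
    (h : ∀ n, (Ideal.Quotient.mkₐ A (RingHom.ker π ^ n)).toLinearMap.lTensor Z z = 0) : z = 0 := by
  obtain ⟨k, a, b, rfl⟩ := TensorProduct.exists_sum_tmul_eq z
  let Z₁ : Submodule A Z := Submodule.span A (Set.range a)
  have : Module.Finite A Z₁ := Module.Finite.span_of_finite A (Set.finite_range a)
  let z₁ : Z₁ ⊗[A] P := ∑ j, (⟨a j, Submodule.subset_span (Set.mem_range_self j)⟩ : Z₁) ⊗ₜ b j
  have hz₁ : Z₁.subtype.rTensor P z₁ = ∑ j, a j ⊗ₜ b j := by simp [z₁]
  have h1 : z₁ = 0 := by
    refine eq_zero_of_forall_aug_fg π (fun p _ hp => hZ p ?_) z₁ fun n => ?_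
    · obtain ⟨m, hm⟩ := hp
      refine ⟨(m : Z), ?_⟩
      rwa [show (Submodule.span A {(m : Z)}).annihilator = (Submodule.span A {m}).annihilator from ?_]
      ext r
      rw [Submodule.mem_annihilator_span_singleton, Submodule.mem_annihilator_span_singleton, Subtype.ext_iff,
        Submodule.coe_smul, Submodule.coe_zero]
    · have := projective_quotient_aug π n
      refine Module.Flat.rTensor_preserves_injective_linearMap (M := P ⧸ RingHom.ker π ^ n) Z₁.subtype
        Z₁.injective_subtype ?_
      rw [map_zero, ← LinearMap.comp_apply, LinearMap.rTensor_comp_lTensor, ← LinearMap.lTensor_comp_rTensor,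
        LinearMap.comp_apply, hz₁]
      exact h n
  rw [← hz₁, h1, map_zero]

end Noetherian

/-- Separatedness descends to a Noetherian model. -/
theorem eq_zero_of_forall_aug_descend {A C PA P : Type u} [CommRing A] [IsNoetherianRing A] [CommRing C] [Algebra A C]
    [CommRing PA] [Algebra A PA] [Algebra.FiniteType A PA] [Algebra.FormallySmooth A PA] [Module.Flat A PA]
    [CommRing P] [Algebra C P] (π : P →ₐ[C] C) (πA : PA →ₐ[A] A) (e : C ⊗[A] PA ≃ₐ[C] P)
    (heπ : ∀ b : PA, π (e (1 ⊗ₜ b)) = algebraMap A C (πA b))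
    (H : ∀ (K : Type u) [Field K] [Algebra C K], IsDomain (K ⊗[C] P))
    {Z : Type u} [AddCommGroup Z] [Module C Z] (z : Z ⊗[C] P)
    (h : ∀ n, (Ideal.Quotient.mkₐ C (RingHom.ker π ^ n)).toLinearMap.lTensor Z z = 0) : z = 0 := by
  -- the comparison map
  let I₀ := RingHom.ker πA
  let Ψ : ∀ n, P →ₐ[C] C ⊗[A] (PA ⧸ I₀ ^ n) := fun n =>
    (Algebra.TensorProduct.map (AlgHom.id C C) (Ideal.Quotient.mkₐ A (I₀ ^ n))).comp e.symm.toAlgHom
  have hΨ : ∀ n, ∀ x ∈ RingHom.ker π ^ n, Ψ n x = 0 := by
    intro n x hx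
    let J : Ideal (C ⊗[A] (PA ⧸ I₀ ^ n)) :=
      (I₀.map (Ideal.Quotient.mk (I₀ ^ n))).map
        (Algebra.TensorProduct.includeRight : (PA ⧸ I₀ ^ n) →ₐ[A] C ⊗[A] (PA ⧸ I₀ ^ n))
    have hJn : J ^ n = ⊥ := by
      rw [← Ideal.map_pow, ← Ideal.map_pow, Ideal.map_quotient_self, Ideal.map_bot]
    rw [← Ideal.mem_bot, ← hJn]
    have key : ∀ w : C ⊗[A] PA, Algebra.TensorProduct.map (AlgHom.id C C) (Ideal.Quotient.mkₐ A (I₀ ^ n)) w -
        algebraMap C _ (π (e w)) ∈ J := by
      intro w
      induction w using TensorProduct.induction_on with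
      | zero => simp
      | add x y hx hy => simp only [map_add, add_sub_add_comm]; exact add_mem hx hy
      | tmul c b =>
        have h1 : π (e (c ⊗ₜ b)) = c * algebraMap A C (πA b) := by
          rw [show c ⊗ₜ[A] b = c • ((1 : C) ⊗ₜ[A] b) by rw [smul_tmul', smul_eq_mul, mul_one], map_smul, map_smul,
            heπ, smul_eq_mul]
        have h2 : Ideal.Quotient.mk (I₀ ^ n) (b - algebraMap A PA (πA b)) ∈ I₀.map (Ideal.Quotient.mk (I₀ ^ n)) :=
          Ideal.mem_map_of_mem _ (by simp [I₀, RingHom.mem_ker])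
        have h3 : c ⊗ₜ[A] Ideal.Quotient.mk (I₀ ^ n) (b - algebraMap A PA (πA b)) ∈ J := by
          rw [show c ⊗ₜ[A] Ideal.Quotient.mk (I₀ ^ n) (b - algebraMap A PA (πA b)) =
            (c ⊗ₜ[A] 1) * (1 ⊗ₜ[A] Ideal.Quotient.mk (I₀ ^ n) (b - algebraMap A PA (πA b))) by
              rw [Algebra.TensorProduct.tmul_mul_tmul, mul_one, one_mul]]
          exact J.mul_mem_left _ (Ideal.mem_map_of_mem _ h2)
        convert h3 using 1
        rw [map_sub, tmul_sub, h1, Algebra.TensorProduct.map_tmul, AlgHom.coe_id, id_eq, Ideal.Quotient.mkₐ_eq_mk,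
          Algebra.TensorProduct.algebraMap_apply, Algebra.algebraMap_self, RingHom.id_apply]
        congr 1
        rw [Ideal.Quotient.mk_algebraMap, Algebra.algebraMap_eq_smul_one (R := A) (A := PA ⧸ I₀ ^ n), tmul_smul,
          smul_tmul', Algebra.smul_def, mul_comm]
    refine Ideal.pow_right_mono ?_ n (Ideal.map_pow (Ψ n).toRingHom (RingHom.ker π) n ▸
      Ideal.mem_map_of_mem (Ψ n).toRingHom hx)
    rw [Ideal.map_le_iff_le_comap]
    intro y hy
    have := key (e.symm y)
    rwa [AlgEquiv.apply_symm_apply, RingHom.mem_ker.1 hy, map_zero, sub_zero] at this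
  -- descend
  letI : Module A Z := Module.compHom Z (algebraMap A C)
  haveI : IsScalarTower A C Z := .of_algebraMap_smul fun _ _ => rfl
  let c₁ : Z ⊗[C] (C ⊗[A] PA) ≃ₗ[C] Z ⊗[A] PA := TensorProduct.AlgebraTensorModule.cancelBaseChange A C C Z PA
  let z₀ : Z ⊗[A] PA := c₁ (e.symm.toLinearEquiv.toLinearMap.lTensor Z z)
  have hdom : ∀ (p : Ideal A) [p.IsPrime], p ∈ FlatCA.weakAss A Z → IsDomain (p.ResidueField ⊗[A] PA) := by
    intro p _ hp
    obtain ⟨m, hm⟩ := hp
    rw [show (Submodule.span A {m}).annihilator = ((Submodule.span C {m}).annihilator).comap (algebraMap A C) from by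
      ext r; simp [Submodule.mem_annihilator_span_singleton, algebraMap_smul]] at hm
    obtain ⟨q, hq, -, hqp⟩ := Ideal.exists_comap_eq_of_mem_minimalPrimes (algebraMap A C) p hm
    haveI : q.IsPrime := hq
    haveI : q.LiesOver p := ⟨hqp.symm⟩
    haveI : IsDomain (q.ResidueField ⊗[A] PA) := by
      haveI := H q.ResidueField
      exact Function.Injective.isDomain ((Algebra.TensorProduct.cancelBaseChange A C C q.ResidueField PA).symm.trans
        ((Algebra.TensorProduct.congr AlgEquiv.refl e))).toAlgHom (AlgEquiv.injective _)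
    let j : p.ResidueField →ₐ[A] q.ResidueField := Ideal.ResidueField.mapₐ p q (Algebra.ofId A C) hqp.symm
    exact Function.Injective.isDomain (Algebra.TensorProduct.map j (AlgHom.id A PA))
      (Module.Flat.rTensor_preserves_injective_linearMap (M := PA) j.toLinearMap j.toRingHom.injective)
  have h0 : z₀ = 0 := by
    refine eq_zero_of_forall_aug_noetherian πA hdom z₀ fun n => ?_
    have hnat : ∀ u : Z ⊗[C] (C ⊗[A] PA), (Ideal.Quotient.mkₐ A (I₀ ^ n)).toLinearMap.lTensor Z (c₁ u) =
        TensorProduct.AlgebraTensorModule.cancelBaseChange A C C Z (PA ⧸ I₀ ^ n)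
          ((Algebra.TensorProduct.map (AlgHom.id C C) (Ideal.Quotient.mkₐ A (I₀ ^ n))).toLinearMap.lTensor Z u) := by
      intro u
      induction u with
      | zero => simp
      | add a b ha hb => simp only [map_add, ha, hb]
      | tmul a b =>
        induction b with
        | zero => simp
        | add x y hx hy => simp only [tmul_add, map_add, hx, hy]
        | tmul c x => simp [c₁]
    rw [hnat]
    refine (congrArg _ ?_).trans (map_zero _)
    have hfac : ((Algebra.TensorProduct.map (AlgHom.id C C) (Ideal.Quotient.mkₐ A (I₀ ^ n))).toLinearMap).comp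
        e.symm.toLinearEquiv.toLinearMap =
          (Ideal.Quotient.liftₐ _ (Ψ n) (hΨ n)).toLinearMap.comp
            (Ideal.Quotient.mkₐ C (RingHom.ker π ^ n)).toLinearMap := LinearMap.ext fun x => rfl
    rw [← LinearMap.lTensor_comp_apply, hfac, LinearMap.lTensor_comp_apply, h n, map_zero]
  refine (LinearEquiv.lTensor Z e.symm.toLinearEquiv).injective (c₁.injective ?_)
  rw [map_zero, map_zero]
  exact h0


/-- Separatedness along a section of a smooth algebra with integral fibres. -/
theorem eq_zero_of_forall_aug {C P : Type u} [CommRing C] [CommRing P] [Algebra C P] [Algebra.Smooth C P]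
    (π : P →ₐ[C] C) (H : ∀ (K : Type u) [Field K] [Algebra C K], IsDomain (K ⊗[C] P))
    {Z : Type u} [AddCommGroup Z] [Module C Z] (z : Z ⊗[C] P)
    (h : ∀ n, (Ideal.Quotient.mkₐ C (RingHom.ker π ^ n)).toLinearMap.lTensor Z z = 0) : z = 0 := by
  classical
  obtain ⟨A₀, B₀, _, _, hA₀, _, ⟨e₀⟩⟩ := Algebra.Smooth.exists_subalgebra_fg ℤ C P
  obtain ⟨S, hS⟩ := (inferInstance : Algebra.FiniteType A₀ B₀).out
  let π₀ : B₀ →ₐ[A₀] C := ((π.restrictScalars A₀).comp (e₀.symm.toAlgHom.restrictScalars A₀)).comp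
    Algebra.TensorProduct.includeRight
  let A : Subalgebra ℤ C := A₀ ⊔ Algebra.adjoin ℤ (π₀ '' (S : Set B₀))
  have hAfg : A.FG := hA₀.sup ⟨S.image π₀, by rw [Finset.coe_image]⟩
  have hle : A₀ ≤ A := le_sup_left
  letI : Algebra A₀ A := (Subalgebra.inclusion hle).toRingHom.toAlgebra
  haveI : IsScalarTower A₀ A C := .of_algebraMap_eq fun _ => rfl
  haveI : Algebra.FiniteType ℤ A := ⟨A.fg_top.mpr hAfg⟩
  haveI : IsNoetherianRing A := Algebra.FiniteType.isNoetherianRing ℤ _
  let A' : Subalgebra A₀ C := (IsScalarTower.toAlgHom A₀ A C).range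
  have hmem : ∀ b, π₀ b ∈ A' := by
    have : π₀.range ≤ A' := by
      rw [← Algebra.map_top, ← hS, AlgHom.map_adjoin, Algebra.adjoin_le_iff]
      intro c hc
      exact ⟨⟨c, (le_sup_right : _ ≤ A) (Algebra.subset_adjoin hc)⟩, rfl⟩
    exact fun b => this ⟨b, rfl⟩
  choose a ha using hmem
  have hinj : Function.Injective (algebraMap A C) := Subtype.val_injective
  let a' : B₀ →ₐ[A₀] A :=
    { toFun := a
      map_one' := hinj (by simpa using ha 1)
      map_mul' := fun x y => hinj (by simpa [map_mul] using (ha (x * y)).trans ((π₀.map_mul x y).trans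
        (congrArg₂ (· * ·) (ha x).symm (ha y).symm)))
      map_zero' := hinj (by simpa using ha 0)
      map_add' := fun x y => hinj (by simpa [map_add] using (ha (x + y)).trans ((π₀.map_add x y).trans
        (congrArg₂ (· + ·) (ha x).symm (ha y).symm)))
      commutes' := fun r => hinj ((ha _).trans ((π₀.commutes r).trans (IsScalarTower.algebraMap_apply A₀ A C r))) }
  let PA := A ⊗[A₀] B₀
  let πA : PA →ₐ[A] A := Algebra.TensorProduct.lift (AlgHom.id A A) a' fun _ _ => Commute.all _ _
  haveI : Module.Flat A PA := inferInstance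
  let e : C ⊗[A] PA ≃ₐ[C] P := (Algebra.TensorProduct.cancelBaseChange A₀ A C C B₀).trans e₀.symm
  have heπ : ∀ b : PA, π (e (1 ⊗ₜ b)) = algebraMap A C (πA b) := by
    intro b
    induction b using TensorProduct.induction_on with
    | zero => simp
    | add x y hx hy => rw [tmul_add, map_add, map_add, map_add, map_add, hx, hy]
    | tmul x b =>
      have h1 : e ((1 : C) ⊗ₜ[A] (x ⊗ₜ[A₀] b)) = algebraMap C P (algebraMap A C x) * e₀.symm (1 ⊗ₜ[A₀] b) := by
        rw [← AlgEquiv.commutes e₀.symm, ← map_mul]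
        simp only [e, AlgEquiv.trans_apply]
        congr 1
        rw [Algebra.TensorProduct.cancelBaseChange_tmul, Algebra.smul_def, mul_one,
          Algebra.TensorProduct.algebraMap_apply, Algebra.TensorProduct.tmul_mul_tmul, one_mul,
          Algebra.algebraMap_self, RingHom.id_apply, mul_one]
      rw [h1, map_mul, AlgHom.commutes]
      simp only [πA, Algebra.TensorProduct.lift_tmul, AlgHom.coe_id, id_eq, map_mul]
      exact congrArg _ (ha b).symm
  exact eq_zero_of_forall_aug_descend π πA e heπ H z h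

end Groth.Agent.RGCore
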