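import Groth.Agent.RGCore.PureAlong
import Mathlib.RingTheory.Etale.QuasiFinite
import Mathlib.RingTheory.Ideal.GoingUp

/-!
Idempotents splitting a finite algebra over an elementary étale neighbourhood.
-/

set_option autoImplicit false
set_option linter.unusedSectionVars false

universe u

open TensorProduct FlatCA

namespace Groth.Agent.RGCore

/-- Elementary étale neighbourhoods compose. -/
theorem isEtaleNhd_trans {R R₁ R₂ : Type u} [CommRing R] [CommRing R₁] [CommRing R₂] [Algebra R R₁]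
    [Algebra R R₂] [Algebra R₁ R₂] [IsScalarTower R R₁ R₂] {p : Ideal R} {p₁ : Ideal R₁} {p₂ : Ideal R₂}
    [p.IsPrime] [p₁.IsPrime] [p₂.IsPrime] (h₁ : IsEtaleNhd R R₁ p p₁) (h₂ : IsEtaleNhd R₁ R₂ p₁ p₂) :
    IsEtaleNhd R R₂ p p₂ := by
  obtain ⟨e1, l1, b1⟩ := h₁
  obtain ⟨e2, l2, b2⟩ := h₂
  haveI := l1; haveI := l2
  refine ⟨Algebra.Etale.comp R R₁ R₂, .trans _ p₁ _, ?_⟩
  convert b2.comp b1
  rw [← @AlgHom.coe_restrictScalars' R R₁, ← AlgHom.coe_comp]; congr 1; ext

/-- A basic open neighbourhood is an elementary étale neighbourhood. -/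
theorem isEtaleNhd_away {R : Type u} [CommRing R] (p : Ideal R) [p.IsPrime] (f : R) (hf : f ∉ p) :
    ∃ (p' : Ideal (Localization.Away f)) (_ : p'.IsPrime), IsEtaleNhd R (Localization.Away f) p p' := by
  have hd : Disjoint (Submonoid.powers f : Set R) p := by
    rwa [Ideal.disjoint_powers_iff_notMem_of_isPrime]
  have hp := IsLocalization.isPrime_of_isPrime_disjoint (.powers f) (Localization.Away f) p ‹_› hd
  have hl : (p.map (algebraMap R (Localization.Away f))).LiesOver p :=
    IsLocalization.liesOver_map_of_isPrime_disjoint (.powers f) _ hd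
  exact ⟨_, hp, inferInstance, hl,
    (RingHom.surjectiveOnStalks_of_isLocalization (.powers f) _).residueFieldMap_bijective _ _ _⟩

/-- A finite set of primes of a finite algebra over `p` is cut out by an idempotent over an elementary étale
neighbourhood. -/
theorem exists_split_idem {R : Type u} [CommRing R] {A : Type u} [CommRing A] [Algebra R A] [Module.Finite R A]
    (p : Ideal R) [p.IsPrime] (T : Finset (Ideal A)) (hT : ∀ a ∈ T, a.IsPrime ∧ a.LiesOver p) :
    ∃ (R' : Type u) (_ : CommRing R') (_ : Algebra R R') (p' : Ideal R') (_ : p'.IsPrime)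
      (e : R' ⊗[R] A), IsEtaleNhd R R' p p' ∧ IsIdempotentElem e ∧
      ∀ a' : Ideal (R' ⊗[R] A), a'.IsPrime → a'.LiesOver p' →
        (e ∉ a' ↔ a'.comap Algebra.TensorProduct.includeRight.toRingHom ∈ T) := by
  classical
  induction T using Finset.induction with
  | empty => exact ⟨R, inferInstance, inferInstance, p, inferInstance, 0, isEtaleNhd_self p, .zero,
      fun a' ha' _ => by simp⟩
  | insert a T haT IH =>
    obtain ⟨R₁, _, _, p₁, _, e₁, hn₁, he₁, H₁⟩ := IH fun b hb => hT b (Finset.mem_insert_of_mem hb)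
    obtain ⟨-, l₁, b₁⟩ := id hn₁
    haveI := l₁
    obtain ⟨hap, hal⟩ := hT a (Finset.mem_insert_self a T)
    let F₁ := Ideal.fiberIsoOfBijectiveResidueField (S := A) b₁
    let a₁ := F₁.symm ⟨a, hap, hal⟩
    haveI := a₁.2.1; haveI := a₁.2.2
    have ha₁ : a₁.1.comap Algebra.TensorProduct.includeRight.toRingHom = a :=
      Ideal.comap_fiberIsoOfBijectiveResidueField_symm b₁ _
    obtain ⟨R₂, _, _, _, P, _, _, e₂, he₂, P', _, _, hP', heP', b₂, -, H₂⟩ :=
      Algebra.exists_etale_isIdempotentElem_forall_liesOver_eq p₁ a₁.1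
    letI : Algebra R R₂ := ((algebraMap R₁ R₂).comp (algebraMap R R₁)).toAlgebra
    haveI : IsScalarTower R R₁ R₂ := IsScalarTower.of_algebraMap_eq' rfl
    let c : R₂ ⊗[R₁] (R₁ ⊗[R] A) ≃ₐ[R₂] R₂ ⊗[R] A :=
      Algebra.TensorProduct.cancelBaseChange R R₁ R₂ R₂ A
    let φ : R₁ ⊗[R] A →ₐ[R₁] R₂ ⊗[R] A :=
      Algebra.TensorProduct.map (Algebra.ofId R₁ R₂) (AlgHom.id R A)
    have hcφ : ∀ x, c (1 ⊗ₜ x) = φ x := by
      intro x
      induction x with
      | zero => simp
      | add x y hx hy => simp only [TensorProduct.tmul_add, map_add, hx, hy]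
      | tmul r s => simp [c, φ, Algebra.algebraMap_eq_smul_one]
    refine ⟨R₂, _, _, P, ‹_›, φ e₁ + c e₂ - φ e₁ * c e₂,
      isEtaleNhd_trans hn₁ ⟨‹_›, ‹_›, b₂⟩, ?_, fun a' ha' hl => ?_⟩
    · have h1 := (he₁.map φ).eq; have h2 := (he₂.map c).eq
      show _ * _ = _
      linear_combination (1 - c e₂) ^ 2 * h1 + (1 - φ e₁) * h2
    · let b := a'.comap φ.toRingHom
      have hbl : b.LiesOver p₁ := by
        refine ⟨?_⟩
        rw [P.over_def p₁, a'.over_def P, Ideal.under, Ideal.under, Ideal.under, Ideal.comap_comap,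
          Ideal.comap_comap, ← IsScalarTower.algebraMap_eq]
        congr 1
      have hbA : b.comap Algebra.TensorProduct.includeRight.toRingHom =
          a'.comap Algebra.TensorProduct.includeRight.toRingHom := by
        rw [Ideal.comap_comap]; congr 1; ext; simp [φ]
      have e1iff : φ e₁ ∉ a' ↔ a'.comap Algebra.TensorProduct.includeRight.toRingHom ∈ T := by
        rw [← hbA]; exact H₁ b inferInstance hbl
      let a'' := a'.comap c.toAlgHom
      haveI : a''.LiesOver P := inferInstance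
      have hab : a''.comap Algebra.TensorProduct.includeRight.toRingHom = b := by
        ext x; show c (1 ⊗ₜ x) ∈ a' ↔ φ x ∈ a'; rw [hcφ]
      have e2iff : c e₂ ∉ a' ↔ a'.comap Algebra.TensorProduct.includeRight.toRingHom = a := by
        constructor
        · intro h
          have := H₂ a'' inferInstance inferInstance h
          rw [← hbA, ← hab, this, hP', ha₁]
        · intro h
          haveI := hbl
          have : b = a₁.1 := Ideal.eq_of_comap_eq_comap_of_bijective_residueFieldMap b₁ _ _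
            (by rw [hbA, ha₁]; exact h)
          have : a'' = P' := Ideal.eq_of_comap_eq_comap_of_bijective_residueFieldMap b₂ _ _
            (by rw [hab, hP', this])
          intro h'
          exact heP' (this ▸ h')
      rw [Finset.mem_insert, ← e1iff, ← e2iff, ← not_and_or]
      refine not_congr ⟨fun h => ⟨?_, ?_⟩, fun h => sub_mem (add_mem h.2 h.1) (a'.mul_mem_right _ h.2)⟩
      · have h2 := a'.mul_mem_left (c e₂) h
        rwa [show c e₂ * (φ e₁ + c e₂ - φ e₁ * c e₂) = c e₂ by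
          linear_combination (1 - φ e₁) * (he₂.map c).eq] at h2
      · have h2 := a'.mul_mem_left (φ e₁) h
        rwa [show φ e₁ * (φ e₁ + c e₂ - φ e₁ * c e₂) = φ e₁ by
          linear_combination (1 - c e₂) * (he₁.map φ).eq] at h2

/-- An idempotent of `D ⊗ A` which is constant along the fibre of a point `y` of `D` comes from `A`, near `y`,
after an elementary étale neighbourhood. -/
theorem exists_split_side {R : Type u} [CommRing R] {A D : Type u} [CommRing A] [Algebra R A] [Module.Finite R A]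
    [CommRing D] [Algebra R D] (p : Ideal R) [p.IsPrime] (y : Ideal D) [y.IsPrime] [y.LiesOver p]
    (ε : D ⊗[R] A) (hε : IsIdempotentElem ε)
    (huniq : ∀ Q₁ Q₂ : Ideal (D ⊗[R] A), Q₁.IsPrime → Q₂.IsPrime →
      Q₁.comap Algebra.TensorProduct.includeLeftRingHom = y →
      Q₂.comap Algebra.TensorProduct.includeLeftRingHom = y →
      Q₁.comap Algebra.TensorProduct.includeRight.toRingHom = Q₂.comap Algebra.TensorProduct.includeRight.toRingHom →
      Q₁ = Q₂) :
    ∃ (R' : Type u) (_ : CommRing R') (_ : Algebra R R') (p' : Ideal R') (_ : p'.IsPrime)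
      (e : R' ⊗[R] A) (y' : Ideal (R' ⊗[R] D)) (_ : y'.IsPrime) (g : R' ⊗[R] D),
      IsEtaleNhd R R' p p' ∧ IsIdempotentElem e ∧ y'.LiesOver p' ∧
      y'.comap Algebra.TensorProduct.includeRight.toRingHom = y ∧ g ∉ y' ∧
      (g ⊗ₜ[R] (1 : A)) *
        (Algebra.TensorProduct.map (Algebra.TensorProduct.includeRight : D →ₐ[R] R' ⊗[R] D) (AlgHom.id R A) ε -
         Algebra.TensorProduct.map (Algebra.TensorProduct.includeLeft : R' →ₐ[R] R' ⊗[R] D) (AlgHom.id R A) e)
        = 0 := by
  classical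
  have hfin : (p.primesOver A).Finite := Algebra.QuasiFinite.finite_primesOver p
  let T := hfin.toFinset.filter fun a => ∃ Q : Ideal (D ⊗[R] A), Q.IsPrime ∧
    Q.comap Algebra.TensorProduct.includeLeftRingHom = y ∧
    Q.comap Algebra.TensorProduct.includeRight.toRingHom = a ∧ ε ∉ Q
  obtain ⟨R', _, _, p', _, e, hn, he, He⟩ := exists_split_idem p T fun a ha => by
    simp only [T, Finset.mem_filter, Set.Finite.mem_toFinset] at ha; exact ha.1
  obtain ⟨-, l, b⟩ := id hn
  haveI := l
  let y' := (Ideal.fiberIsoOfBijectiveResidueField (S := D) b).symm ⟨y, ‹_›, ‹_›⟩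
  haveI := y'.2.1; haveI := y'.2.2
  have hy' : y'.1.comap Algebra.TensorProduct.includeRight.toRingHom = y :=
    Ideal.comap_fiberIsoOfBijectiveResidueField_symm b _
  let iD : D ⊗[R] A →ₐ[R] (R' ⊗[R] D) ⊗[R] A :=
    Algebra.TensorProduct.map Algebra.TensorProduct.includeRight (AlgHom.id R A)
  let iR : R' ⊗[R] A →ₐ[R] (R' ⊗[R] D) ⊗[R] A :=
    Algebra.TensorProduct.map Algebra.TensorProduct.includeLeft (AlgHom.id R A)
  let δ := iD ε - iR e
  have hδ : δ ^ 3 = δ := by
    have h1 := (hε.map iD).eq; have h2 := (he.map iR).eq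
    simp only [δ]
    linear_combination (iD ε + 1 - 3 * iR e) * h1 + (3 * iD ε - iR e - 1) * h2
  have hmem : ∀ Q : Ideal ((R' ⊗[R] D) ⊗[R] A), Q.IsPrime → Q.comap (algebraMap (R' ⊗[R] D) _) = y'.1 →
      δ ^ 2 ∈ Q := by
    intro Q hQ hQy
    let Q₀ := Q.comap iD.toRingHom
    have hQ₀y : Q₀.comap Algebra.TensorProduct.includeLeftRingHom = y := by
      rw [← hy', ← hQy]
      rfl
    let a' := Q.comap iR.toRingHom
    have ha'l : a'.LiesOver p' := ⟨by
      rw [y'.1.over_def p', ← hQy]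
      rfl⟩
    let a := a'.comap Algebra.TensorProduct.includeRight.toRingHom
    have hQ₀a : Q₀.comap Algebra.TensorProduct.includeRight.toRingHom = a := by
      ext x; simp [Q₀, a, a', iD, iR, Ideal.mem_comap]
    have hal : a.LiesOver p := ⟨by
      ext r
      rw [p'.over_def p, a'.over_def p']
      show algebraMap R' (R' ⊗[R] A) (algebraMap R R' r) ∈ a' ↔
        (Algebra.TensorProduct.includeRight : A →ₐ[R] R' ⊗[R] A) (algebraMap R A r) ∈ a'
      rw [AlgHom.commutes, ← IsScalarTower.algebraMap_apply R R' (R' ⊗[R] A)]⟩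
    have hiff : e ∉ a' ↔ ε ∉ Q₀ := by
      rw [He a' inferInstance ha'l]
      simp only [T, Finset.mem_filter, Set.Finite.mem_toFinset]
      constructor
      · rintro ⟨-, Q₁, h1, h2, h3, h4⟩
        rwa [huniq Q₀ Q₁ inferInstance h1 hQ₀y h2 (hQ₀a.trans h3.symm)]
      · exact fun h => ⟨⟨inferInstance, hal⟩, Q₀, inferInstance, hQ₀y, hQ₀a, h⟩
    refine (Ideal.IsPrime.pow_mem_iff_mem hQ 2 two_pos).2 ?_
    by_cases h : iR e ∈ Q
    · exact Q.sub_mem (not_not.1 (mt hiff.2 (not_not.2 h))) h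
    · have h1 : iD ε ∉ Q := hiff.1 h
      have h2 : 1 - iR e ∈ Q := (hQ.mem_or_mem (show iR e * (1 - iR e) ∈ Q by
        rw [mul_sub, mul_one, (he.map iR).eq, sub_self]; exact Q.zero_mem)).resolve_left h
      have h3 : 1 - iD ε ∈ Q := (hQ.mem_or_mem (show iD ε * (1 - iD ε) ∈ Q by
        rw [mul_sub, mul_one, (hε.map iD).eq, sub_self]; exact Q.zero_mem)).resolve_left h1
      simpa [δ] using Q.sub_mem h2 h3
  let J : Ideal ((R' ⊗[R] D) ⊗[R] A) := (Submodule.span _ {δ ^ 2}).annihilator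
  obtain ⟨g, hgJ, hg⟩ : ∃ g, g ∈ J.comap (algebraMap (R' ⊗[R] D) _) ∧ g ∉ y'.1 := by
    by_contra hcon
    push Not at hcon
    obtain ⟨Q, hJQ, hQ, hQy⟩ := Ideal.exists_ideal_over_prime_of_isIntegral y'.1 J hcon
    refine hQ.ne_top ((Ideal.eq_top_iff_one _).2 ?_)
    have h1 : 1 - δ ^ 2 ∈ J := (Submodule.mem_annihilator_span_singleton _ _).2 (by
      show (1 - δ ^ 2) * δ ^ 2 = 0
      linear_combination (-δ) * hδ)
    simpa using Q.add_mem (hJQ h1) (hmem Q hQ hQy)
  refine ⟨R', _, _, p', ‹_›, e, y'.1, ‹_›, g, hn, he, ‹_›, hy', hg, ?_⟩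
  have h2 : (g ⊗ₜ[R] (1 : A)) * δ ^ 2 = 0 :=
    (Submodule.mem_annihilator_span_singleton _ _).1 (Ideal.mem_comap.1 hgJ)
  show (g ⊗ₜ[R] (1 : A)) * δ = 0
  linear_combination δ * h2 - (g ⊗ₜ[R] (1 : A)) * hδ

end Groth.Agent.RGCore
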