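import Groth.Agent.RGCore.ValuationContent

/-!
A map, linear over the base only, from a module which is flat and relatively finitely presented at a point over
the closed point to a flat module is universally injective when it is injective on the closed fibre.
-/

set_option autoImplicit false
set_option linter.unusedSectionVars false

universe u

open TensorProduct IsLocalRing

namespace Groth.Agent.RGCore

set_option maxHeartbeats 1000000 in
/-- An element which is nonzero at a generisation of a point is not divisible by all scalars which are nonzero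
at the generisation. -/
theorem false_of_divisible {A S : Type u} [CommRing A] [CommRing S] [Algebra A S] [Algebra.FiniteType A S]
    (y Q : Ideal S) [y.IsPrime] [Q.IsPrime] (hQy : Q ≤ y)
    (p r : Ideal A) [p.IsPrime] [r.IsPrime] (hp : y.comap (algebraMap A S) = p)
    (hr : Q.comap (algebraMap A S) = r) (a : A) (hap : a ∈ p) (har : a ∉ r)
    {N G : Type u} [AddCommGroup N] [Module A N] [Module S N] [IsScalarTower A S N] [Module.Finite S N]
    [AddCommGroup G] [Module A G] [Module S G] [IsScalarTower A S G] [Module.Flat A G]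
    (l : N →ₗ[S] G) [IsLocalizedModule y.primeCompl l]
    (x : N) (hx : ∀ t ∉ Q, (1 : r.ResidueField) ⊗ₜ[A] (t • x) ≠ 0)
    (hdiv : ∀ d ∉ r, ∃ s ∉ y, ∃ x' : N, (1 : A ⧸ r) ⊗ₜ[A] l (s • x) = (1 : A ⧸ r) ⊗ₜ[A] l (d • x')) :
    False := by
  classical
  -- a valuation ring of `κ(Q)` centred at `y`
  let K := Q.ResidueField
  let ψ : S →+* K := algebraMap S K
  let I : Ideal ψ.range := y.map ψ.rangeRestrict
  have hIc : I.comap ψ.rangeRestrict = y := by
    rw [Ideal.comap_map_of_surjective _ ψ.rangeRestrict_surjective, sup_eq_left]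
    intro s hs
    rw [Ideal.mem_comap, Ideal.mem_bot] at hs
    exact hQy (Ideal.algebraMap_residueField_eq_zero.1 (congrArg Subtype.val hs))
  have : I.IsPrime := Ideal.map_isPrime_of_surjective ψ.rangeRestrict_surjective fun s hs =>
    hQy (Ideal.algebraMap_residueField_eq_zero.1 (congrArg Subtype.val (RingHom.mem_ker.1 hs)))
  obtain ⟨W, hW, hWloc⟩ := (LocalSubring.ofPrime ψ.range I).exists_le_valuationSubring
  have hψW : ∀ s, ψ s ∈ W := fun s => hW (LocalSubring.le_ofPrime _ _ ⟨s, rfl⟩)
  let φW : S →+* W := ψ.codRestrict W.toSubring hψW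
  have hφW : ∀ s, φW s ∈ maximalIdeal W ↔ s ∈ y := by
    intro s
    let e := LocalSubring.ofPrimeEquiv ψ.range I
    have h1 : IsUnit (algebraMap ψ.range (Localization.AtPrime I) (ψ.rangeRestrict s)) ↔ s ∉ y := by
      rw [IsLocalization.AtPrime.isUnit_to_map_iff (Localization.AtPrime I) I]
      show ψ.rangeRestrict s ∉ I ↔ _
      rw [← Ideal.mem_comap, hIc]
    have h2 : IsUnit (φW s) ↔ IsUnit (algebraMap ψ.range (Localization.AtPrime I) (ψ.rangeRestrict s)) := by
      constructor
      · intro hu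
        have hx : IsUnit (algebraMap ψ.range (LocalSubring.ofPrime ψ.range I).toSubring (ψ.rangeRestrict s)) :=
          hWloc.map_nonunit _ hu
        rw [← e.commutes] at hx
        exact (isUnit_map_iff e _).1 hx
      · intro hu
        have hx := hu.map e
        rw [e.commutes] at hx
        exact hx.map (Subring.inclusion hW)
    rw [mem_maximalIdeal, mem_nonunits_iff, h2, h1, not_not]
  -- the valuation ring of `κ(r)` below it
  let fK : r.ResidueField →ₐ[A] K := Ideal.ResidueField.mapₐ r Q (Algebra.ofId A S) hr.symm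
  let V : ValuationSubring r.ResidueField := W.comap fK.toRingHom
  let φA : A →+* V := (algebraMap A r.ResidueField).codRestrict V.toSubring fun b => by
    show fK (algebraMap A r.ResidueField b) ∈ W
    rw [AlgHom.commutes, IsScalarTower.algebraMap_apply A S K]
    exact hψW _
  let : Algebra A V := φA.toAlgebra
  let gW : V →+* W := (fK.toRingHom.comp V.subtype).codRestrict W.toSubring fun v => v.2
  have hgW : ∀ v : V, gW v ∈ maximalIdeal W ↔ v ∈ maximalIdeal V := by
    intro v
    rw [mem_maximalIdeal, mem_maximalIdeal, mem_nonunits_iff, mem_nonunits_iff, not_iff_not]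
    refine ⟨fun hu => ?_, fun hu => hu.map gW⟩
    obtain ⟨w, hw⟩ := isUnit_iff_exists_inv.1 hu
    have hw' : fK v.1 * w.1 = 1 := congrArg Subtype.val hw
    have hv : (v.1)⁻¹ ∈ V := by
      show fK (v.1)⁻¹ ∈ W
      rw [map_inv₀, ← eq_inv_of_mul_eq_one_right hw']
      exact w.2
    have hv0 : v.1 ≠ 0 := fun h0 => by rw [h0, map_zero, zero_mul] at hw'; exact zero_ne_one hw'
    exact isUnit_iff_exists_inv.2 ⟨⟨_, hv⟩, Subtype.ext (mul_inv_cancel₀ hv0)⟩
  have hgWA : ∀ b : A, gW (algebraMap A V b) = φW (algebraMap A S b) := fun b => Subtype.ext (by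
    show fK (algebraMap A r.ResidueField b) = ψ (algebraMap A S b)
    rw [AlgHom.commutes, IsScalarTower.algebraMap_apply A S K])
  have hmV : ∀ b : A, algebraMap A V b ∈ maximalIdeal V ↔ b ∈ p := fun b => by
    rw [← hgW, hgWA, hφW, ← hp, Ideal.mem_comap]
  -- the base change
  let C := V ⊗[A] S
  let MV := V ⊗[A] N
  let : Module C MV := tauModule V N
  have hsmul : ∀ (v : V) (z : MV), tau V N (algebraMap V C v) z = v • z := by
    intro v z
    induction z using TensorProduct.induction_on with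
    | zero => simp
    | add b c hb hc => simp only [map_add, smul_add, hb, hc]
    | tmul w x =>
      rw [show algebraMap V C v = v ⊗ₜ[A] (1 : S) from rfl, tau_tmul, one_smul]
      exact (TensorProduct.smul_tmul' v w x).symm
  have : IsScalarTower V C MV := .of_algebraMap_smul fun v z => hsmul v z
  let inclA : V →ₐ[A] r.ResidueField := { toRingHom := V.subtype, commutes' := fun b => rfl }
  let θ : C →ₐ[A] K := Algebra.TensorProduct.productMap (fK.comp inclA) (IsScalarTower.toAlgHom A S K)
  have hθt : ∀ (v : V) (s : S), θ (v ⊗ₜ[A] s) = fK v.1 * ψ s := fun v s =>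
    Algebra.TensorProduct.productMap_apply_tmul _ _ v s
  have hθmem : ∀ t, θ t ∈ W := by
    intro t
    induction t using TensorProduct.induction_on with
    | zero => rw [map_zero]; exact W.zero_mem
    | add b c hb hc => rw [map_add]; exact W.add_mem _ _ hb hc
    | tmul v s => rw [hθt]; exact W.mul_mem _ _ v.2 (hψW s)
  let θW : C →+* W := θ.toRingHom.codRestrict W.toSubring hθmem
  let yV : Ideal C := (maximalIdeal W).comap θW
  have hyV : ∀ s : S, (1 : V) ⊗ₜ[A] s ∈ yV ↔ s ∈ y := fun s => by
    rw [← hφW, Ideal.mem_comap, show θW ((1 : V) ⊗ₜ[A] s) = φW s from Subtype.ext (by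
      show θ ((1 : V) ⊗ₜ[A] s) = ψ s
      rw [hθt, OneMemClass.coe_one, map_one, one_mul])]
  have hyVm : ∀ v ∈ maximalIdeal V, algebraMap V C v ∈ yV := fun v hv => by
    rw [Ideal.mem_comap, show θW (algebraMap V C v) = gW v from Subtype.ext (by
      show θ (v ⊗ₜ[A] (1 : S)) = fK v.1
      rw [hθt, map_one, mul_one])]
    exact (hgW v).2 hv
  have : Module.Finite C MV := by
    obtain ⟨gens, hgens⟩ := (Module.Finite.fg_top : (⊤ : Submodule S N).FG)
    refine ⟨⟨gens.image fun g => ((1 : V) ⊗ₜ[A] g : MV), eq_top_iff.2 fun z htop => ?_⟩⟩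
    clear htop
    rw [Finset.coe_image]
    induction z using TensorProduct.induction_on with
    | zero => exact zero_mem _
    | add b c hb hc => exact add_mem hb hc
    | tmul v z =>
      have hz : z ∈ Submodule.span S (gens : Set N) := hgens ▸ trivial
      induction hz using Submodule.span_induction with
      | mem g hg =>
        have : (v ⊗ₜ[A] g : MV) = (v ⊗ₜ[A] (1 : S) : C) • ((1 : V) ⊗ₜ[A] g : MV) := by
          show _ = tau V N (v ⊗ₜ[A] (1 : S)) ((1 : V) ⊗ₜ[A] g)
          rw [tau_tmul, smul_eq_mul, mul_one, one_smul]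
        rw [this]
        exact Submodule.smul_mem _ _ (Submodule.subset_span ⟨g, hg, rfl⟩)
      | zero => rw [tmul_zero]; exact zero_mem _
      | add b c _ _ hb hc => rw [tmul_add]; exact add_mem hb hc
      | smul s b _ hb =>
        have : (v ⊗ₜ[A] (s • b) : MV) = ((1 : V) ⊗ₜ[A] s : C) • (v ⊗ₜ[A] b : MV) := by
          show _ = tau V N ((1 : V) ⊗ₜ[A] s) (v ⊗ₜ[A] b)
          rw [tau_tmul, one_smul]
        rw [this]
        exact Submodule.smul_mem _ _ hb
  -- what dies in `V ⊗ G` dies in the local module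
  let L := LocalizedModule yV.primeCompl MV
  let lM := LocalizedModule.mkLinearMap yV.primeCompl MV
  have hkill : ∀ w : MV, (l.restrictScalars A).lTensor V w = 0 → lM w = 0 := by
    intro w hw
    obtain ⟨t, ht, htw⟩ := exists_smul_eq_zero_of_lTensor y.primeCompl l w hw
    refine (IsLocalizedModule.eq_zero_iff yV.primeCompl lM).2
      ⟨⟨(1 : V) ⊗ₜ[A] t, fun h' => ht ((hyV t).1 h')⟩, ?_⟩
    show tau V N ((1 : V) ⊗ₜ[A] t) w = 0
    rw [← htw]
    clear htw hw
    induction w using TensorProduct.induction_on with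
    | zero => simp
    | add b c hb hc => simp only [map_add, hb, hc]
    | tmul v z => simp [tau_tmul]
  have hlin : ∀ (v : V) (w : MV), (l.restrictScalars A).lTensor V (v • w) = v • (l.restrictScalars A).lTensor V w := by
    intro v w
    induction w using TensorProduct.induction_on with
    | zero => simp
    | add b c hb hc => simp only [map_add, smul_add, hb, hc]
    | tmul v' z =>
      rw [show v • (v' ⊗ₜ[A] z : MV) = (v • v') ⊗ₜ[A] z from TensorProduct.smul_tmul' v v' z, LinearMap.lTensor_tmul,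
        LinearMap.lTensor_tmul]
      exact (TensorProduct.smul_tmul' v v' _).symm
  have : Module.Flat V L := by
    refine (Module.Flat.flat_iff_torsion_eq_bot_of_isBezout (R := V) (M := L)).2 ?_
    rw [eq_bot_iff]
    rintro z ⟨⟨v, hv⟩, hz⟩
    obtain ⟨⟨w, c⟩, hc⟩ := IsLocalizedModule.surj yV.primeCompl lM z
    have hc' : (c : C) • z = lM w := hc
    have h1 : lM (v • w) = 0 := by
      rw [LinearMap.map_smul_of_tower, ← hc', smul_comm, show v • z = 0 from hz, smul_zero]
    obtain ⟨c', hc''⟩ := (IsLocalizedModule.eq_zero_iff yV.primeCompl lM).1 h1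
    have h2 : (l.restrictScalars A).lTensor V ((c' : C) • w) = 0 := by
      have h3 : v • (l.restrictScalars A).lTensor V ((c' : C) • w) = 0 := by
        rw [← hlin, smul_comm, show (c' : C) • v • w = 0 from hc'', map_zero]
      have h4 : (l.restrictScalars A).lTensor V ((c' : C) • w) ∈ Submodule.torsion V (V ⊗[A] G) :=
        ⟨⟨v, hv⟩, h3⟩
      rwa [Module.Flat.torsion_eq_bot, Submodule.mem_bot] at h4
    have h5 : ((c' * c : yV.primeCompl) : C) • z = 0 := by
      rw [Submonoid.coe_mul, mul_smul, hc', ← map_smul, hkill _ h2]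
    rw [Submodule.mem_bot]
    exact ((Module.End.isUnit_iff _).1 (IsLocalizedModule.map_units lM (c' * c))).1 (h5.trans (map_zero _).symm)
  -- the local algebra
  let Cy := Localization yV.primeCompl
  have : IsLocalHom (algebraMap V Cy) := ⟨fun v hv => by
    by_contra hnu
    rw [IsScalarTower.algebraMap_apply V C Cy] at hv
    exact (IsLocalization.AtPrime.isUnit_to_map_iff Cy yV _).1 hv (hyVm v hnu)⟩
  have : Algebra.EssFiniteType C Cy := Algebra.EssFiniteType.of_isLocalization _ yV.primeCompl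
  have : Algebra.EssFiniteType V Cy := Algebra.EssFiniteType.comp V C Cy
  -- the element
  let x₁ : L := lM ((1 : V) ⊗ₜ[A] x)
  have hne : x₁ ≠ 0 := by
    intro h0
    obtain ⟨c, hc⟩ := (IsLocalizedModule.eq_zero_iff yV.primeCompl lM).1 h0
    have hθc : θ (c : C) ≠ 0 := fun h' => c.2 (by
      show θW (c : C) ∈ maximalIdeal W
      rw [show θW (c : C) = 0 from Subtype.ext h']
      exact zero_mem _)
    let c₁ : r.ResidueField ⊗[A] S := Algebra.TensorProduct.map inclA (AlgHom.id A S) (c : C)
    obtain ⟨b, hb, s, hbs⟩ := AssFiber.exists_smul_eq_includeRight r (S := S) c₁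
    let θ' : r.ResidueField ⊗[A] S →ₐ[A] K := Algebra.TensorProduct.productMap fK (IsScalarTower.toAlgHom A S K)
    have hθ'c : θ' c₁ = θ (c : C) := by
      show θ' (Algebra.TensorProduct.map inclA (AlgHom.id A S) (c : C)) = θ (c : C)
      generalize (c : V ⊗[A] S) = c
      induction c using TensorProduct.induction_on with
      | zero => simp
      | add b c hb hc => simp only [map_add, hb, hc]
      | tmul v z => rw [hθt]; exact Algebra.TensorProduct.productMap_apply_tmul _ _ _ z
    refine hx s (fun hsQ => ?_) ?_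
    · have h1 := congr(θ' $hbs)
      rw [map_mul, hθ'c] at h1
      simp only [θ', Algebra.TensorProduct.productMap_apply_tmul, map_one, one_mul] at h1
      rw [show (IsScalarTower.toAlgHom A S K) s = 0 from Ideal.algebraMap_residueField_eq_zero.2 hsQ,
        mul_eq_zero] at h1
      exact h1.elim (fun h' => hb (hr.le (Ideal.mem_comap.2 (Ideal.algebraMap_residueField_eq_zero.1 h')))) hθc
    · have hj : ∀ c : C, tau (B₀ := r.ResidueField) r.ResidueField N
          (Algebra.TensorProduct.map inclA (AlgHom.id A S) c) ((1 : r.ResidueField) ⊗ₜ[A] x) =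
            inclA.toLinearMap.rTensor N (tau V N c ((1 : V) ⊗ₜ[A] x)) := by
        intro c
        induction c using TensorProduct.induction_on with
        | zero => simp
        | add b c hb hc => simp only [map_add, LinearMap.add_apply, hb, hc]
        | tmul v z => simp [tau_tmul, inclA]
      have h2 : tau r.ResidueField N ((1 : r.ResidueField) ⊗ₜ[A] s) ((1 : r.ResidueField) ⊗ₜ[A] x) = 0 := by
        rw [← hbs, tau_mul, hj, show tau V N (c : C) ((1 : V) ⊗ₜ[A] x) = 0 from hc, map_zero, map_zero]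
      simpa [tau_tmul] using h2
  obtain ⟨b, hb0, hbd⟩ := exists_bound V Cy x₁ hne
  obtain ⟨num, den, hden, hnd⟩ := IsFractionRing.div_surjective (A := A ⧸ r) (b : r.ResidueField)
  obtain ⟨num, rfl⟩ := Ideal.Quotient.mk_surjective num
  obtain ⟨den, rfl⟩ := Ideal.Quotient.mk_surjective den
  have hal : ∀ c : A, algebraMap (A ⧸ r) r.ResidueField (Ideal.Quotient.mk r c) = algebraMap A r.ResidueField c :=
    fun c => (IsScalarTower.algebraMap_apply A (A ⧸ r) r.ResidueField c).symm
  rw [hal, hal] at hnd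
  have hden0 : algebraMap A r.ResidueField den ≠ 0 := fun h0 =>
    nonZeroDivisors.ne_zero hden (Ideal.Quotient.eq_zero_iff_mem.2 (Ideal.algebraMap_residueField_eq_zero.1 h0))
  have hnum : algebraMap A r.ResidueField num = (b : r.ResidueField) * algebraMap A r.ResidueField den := by
    rw [← hnd, div_mul_cancel₀ _ hden0]
  have hnum0 : num ∉ r := fun h0 => by
    rw [Ideal.algebraMap_residueField_eq_zero.2 h0] at hnum
    exact mul_ne_zero (fun h => hb0 (Subtype.ext h)) hden0 hnum.symm
  obtain ⟨s, hs, x', hsx⟩ := hdiv (num * a) (Ideal.IsPrime.mul_notMem ‹_› hnum0 har)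
  let e : (A ⧸ r) →ₗ[A] V := Submodule.liftQ r (LinearMap.toSpanSingleton A V 1) fun c hc => by
    show c • (1 : V) = 0
    rw [Algebra.smul_def, mul_one]
    exact Subtype.ext (Ideal.algebraMap_residueField_eq_zero.2 hc)
  have he1 : e 1 = 1 := one_smul A (1 : V)
  have hVG : (l.restrictScalars A).lTensor V ((1 : V) ⊗ₜ[A] (s • x)) =
      (l.restrictScalars A).lTensor V ((1 : V) ⊗ₜ[A] ((num * a) • x')) := by
    have := congr(e.rTensor G $hsx)
    simpa [he1] using this
  have hLeq : lM ((1 : V) ⊗ₜ[A] (s • x)) = lM ((1 : V) ⊗ₜ[A] ((num * a) • x')) := by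
    rw [← sub_eq_zero]
    exact (map_sub lM _ _).symm.trans (hkill _ (((l.restrictScalars A).lTensor V).map_sub _ _ |>.trans (sub_eq_zero.2 hVG)))
  have hs1 : ((1 : V) ⊗ₜ[A] s : C) • x₁ = algebraMap A V (num * a) • lM ((1 : V) ⊗ₜ[A] x') := by
    rw [← map_smul, ← LinearMap.map_smul_of_tower, show ((1 : V) ⊗ₜ[A] s : C) • ((1 : V) ⊗ₜ[A] x : MV) =
      (1 : V) ⊗ₜ[A] (s • x) from (show tau V N ((1 : V) ⊗ₜ[A] s) ((1 : V) ⊗ₜ[A] x) = _ by rw [tau_tmul, one_smul]),
      hLeq, tmul_smul, algebraMap_smul]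
  obtain ⟨u', hu'⟩ := IsLocalization.map_units Cy (⟨(1 : V) ⊗ₜ[A] s, fun h' => hs ((hyV s).1 h')⟩ : yV.primeCompl)
  have hdvd : algebraMap A V (num * a) ∣ b := by
    refine hbd _ ((↑u'⁻¹ : Cy) • lM ((1 : V) ⊗ₜ[A] x')) ?_
    rw [smul_comm, ← hs1, ← algebraMap_smul Cy ((1 : V) ⊗ₜ[A] s : C), smul_smul]
    rw [show algebraMap C Cy ((1 : V) ⊗ₜ[A] s) = ↑u' from hu'.symm, Units.inv_mul, one_smul]
  obtain ⟨c, hc⟩ := hdvd
  have hca : algebraMap A r.ResidueField a * ((c : r.ResidueField) * algebraMap A r.ResidueField den) = 1 := by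
    have h1 := congrArg Subtype.val hc
    rw [map_mul] at h1
    refine mul_left_cancel₀ (fun h0 => hnum0 (Ideal.algebraMap_residueField_eq_zero.1 h0) :
      algebraMap A r.ResidueField num ≠ 0) ?_
    rw [mul_one, ← mul_assoc, ← mul_assoc]
    conv_rhs => rw [hnum, h1]
    rfl
  have hunit : IsUnit (algebraMap A V a) := IsUnit.of_mul_eq_one (c * algebraMap A V den) (Subtype.ext hca)
  exact ((hmV a).2 hap) hunit

variable {A : Type u} [CommRing A] {n : ℕ}

/-- An element in the kernel of a map into a flat module gives an element of a quotient by a prime which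
is killed by the map and divisible by all scalars outside the prime. -/
theorem exists_prime_witness {N₀ : Type u} [AddCommGroup N₀] [Module A N₀] [Module (MvPolynomial (Fin n) A) N₀]
    [IsScalarTower A (MvPolynomial (Fin n) A) N₀] [Module.FinitePresentation (MvPolynomial (Fin n) A) N₀]
    {N : Type u} [AddCommGroup N] [Module A N] [Module (MvPolynomial (Fin n) A) N]
    [IsScalarTower A (MvPolynomial (Fin n) A) N] [Module.Flat A N]
    (T : Submonoid (MvPolynomial (Fin n) A)) (l : N₀ →ₗ[MvPolynomial (Fin n) A] N) [IsLocalizedModule T l]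
    {M : Type u} [AddCommGroup M] [Module A M] [Module.Flat A M] (u : N →ₗ[A] M)
    {Z : Type u} [AddCommGroup Z] [Module A Z] (v : N ⊗[A] Z) (hv : u.rTensor Z v = 0) (hv0 : v ≠ 0) :
    ∃ (Q : Ideal (MvPolynomial (Fin n) A)) (_ : Q.IsPrime), (∀ t ∈ T, t ∉ Q) ∧ ∃ m : N,
      u m ⊗ₜ[A] (1 : A ⧸ Q.comap MvPolynomial.C) = 0 ∧
      (∀ t ∉ Q, (t • m) ⊗ₜ[A] (1 : A ⧸ Q.comap MvPolynomial.C) ≠ 0) ∧
      ∀ d ∉ Q.comap MvPolynomial.C, ∃ m' : N,
        m ⊗ₜ[A] (1 : A ⧸ Q.comap MvPolynomial.C) = (d • m') ⊗ₜ[A] (1 : A ⧸ Q.comap MvPolynomial.C) := by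
  obtain ⟨Z'', hZ'', hmax⟩ := exists_maximal_not_mem v hv0
  let π := Z''.mkQ
  let v' := π.lTensor N v
  have hker : LinearMap.ker (π.lTensor N) = LinearMap.range (Z''.subtype.lTensor N) :=
    (lTensor_exact N (LinearMap.exact_subtype_mkQ Z'') (Submodule.mkQ_surjective _)).linearMap_ker_eq
  have hv' : v' ≠ 0 := fun h0 => hZ'' (hker ▸ LinearMap.mem_ker.2 h0)
  have huv : u.rTensor (Z ⧸ Z'') v' = 0 := by rw [rTensor_lTensor_comm, hv, map_zero]
  have hY : ∀ Y : Submodule A (Z ⧸ Z''), Y ≠ ⊥ → v' ∈ LinearMap.range (Y.subtype.lTensor N) := by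
    intro Y hY
    have hlt : Z'' < Y.comap π := by
      refine lt_of_le_of_ne (fun z hz => ?_) fun h => hY ?_
      · show π z ∈ Y
        rw [show π z = 0 from (Submodule.Quotient.mk_eq_zero Z'').2 hz]
        exact Y.zero_mem
      · rw [eq_bot_iff]
        intro y hy
        obtain ⟨z, rfl⟩ := Z''.mkQ_surjective y
        exact (Submodule.mem_bot A).2 ((Submodule.Quotient.mk_eq_zero Z'').2 (h ▸ hy : z ∈ Z''))
    obtain ⟨y, hy⟩ := hmax _ hlt
    have hc : ∀ z : Y.comap π, π.comp (Y.comap π).subtype z ∈ Y := fun z => z.2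
    refine ⟨((π.comp (Y.comap π).subtype).codRestrict Y hc).lTensor N y, ?_⟩
    rw [← LinearMap.lTensor_comp_apply, LinearMap.subtype_comp_codRestrict, LinearMap.lTensor_comp_apply, hy]
  have hann : WeakAss.annEl (MvPolynomial (Fin n) A) v' ≠ ⊤ := fun hc => hv' (by
    simpa using WeakAss.mem_annEl.1 (hc ▸ Submodule.mem_top : (1 : MvPolynomial (Fin n) A) ∈ _))
  obtain ⟨Q, hQ⟩ := Ideal.nonempty_minimalPrimes hann
  have := hQ.1.1
  have hne : ∀ t ∉ Q, t • v' ≠ 0 := fun t ht => WeakAss.smul_ne_zero_of_notMem hQ.1.2 ht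
  have hpow : ∀ a ∈ Q, ∃ k, ∃ t ∉ Q, t • a ^ k • v' = 0 := fun a ha => by
    obtain ⟨s, hs, k, hk⟩ := WeakAss.exists_mul_pow_mem hQ ha
    exact ⟨k, s, hs, by rw [smul_smul]; exact WeakAss.mem_annEl.1 hk⟩
  have hQT : ∀ t ∈ T, t ∉ Q := by
    intro t ht htQ
    obtain ⟨k, s, hs, hk⟩ := hpow t htQ
    rw [smul_comm] at hk
    have := (IsLocalizedModule.map_units
      (AlgebraTensorModule.rTensor (A := MvPolynomial (Fin n) A) A (Z ⧸ Z'') l) (⟨t, ht⟩ ^ k : T))
    exact hne s hs (((Module.End.isUnit_iff _).1 this).1 (hk.trans (map_zero _).symm))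
  obtain ⟨x, hx, hcont⟩ := exists_content_localized T l Q hQT (flat_localized_of_flat T l Q hQT) _ v' hne hpow
  let p : Ideal A := Q.comap MvPolynomial.C
  have h1 : (1 : MvPolynomial (Fin n) A) ∉ Q := (Ideal.ne_top_iff_one Q).1 this.ne_top
  have hx0 : x ≠ 0 := fun h0 => hx 1 (by rw [Ideal.mem_comap, map_one]; exact h1) (by rw [h0, smul_zero])
  have hpx : ∀ a ∈ p, a • x = 0 := by
    intro a ha
    by_contra hax
    obtain ⟨s, hs, hsx⟩ := hcont (Submodule.span A {a • x}) 1 h1
      (by rw [one_smul]; exact hY _ (by rwa [Ne, Submodule.span_singleton_eq_bot]))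
    obtain ⟨r, hr⟩ := Submodule.mem_span_singleton.1 hsx
    refine hx (s - r * a) (fun h => hs ?_) (by rw [sub_smul, mul_smul, hr, sub_self])
    have := p.add_mem h (p.mul_mem_left r ha)
    rwa [sub_add_cancel] at this
  have hgen : ∀ (z : Z ⧸ Z'') (y : N ⊗[A] (Submodule.span A {z})),
      ∃ m : N, (Submodule.span A {z}).subtype.lTensor N y = m ⊗ₜ z := by
    intro z y
    induction y with
    | zero => exact ⟨0, by simp⟩
    | tmul m w =>
      obtain ⟨r, hr⟩ := Submodule.mem_span_singleton.1 w.2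
      exact ⟨r • m, by rw [LinearMap.lTensor_tmul, Submodule.subtype_apply, ← hr, tmul_smul, smul_tmul']⟩
    | add a b ha hb =>
      obtain ⟨m, hm⟩ := ha
      obtain ⟨m', hm'⟩ := hb
      exact ⟨m + m', by rw [map_add, hm, hm', add_tmul]⟩
  have hrep : ∀ z : Z ⧸ Z'', z ≠ 0 → ∃ m : N, v' = m ⊗ₜ[A] z := fun z hz => by
    obtain ⟨y, hy⟩ := hY (Submodule.span A {z}) (by rwa [Ne, Submodule.span_singleton_eq_bot])
    obtain ⟨m, hm⟩ := hgen z y
    exact ⟨m, hy.symm.trans hm⟩
  obtain ⟨m, hvm⟩ := hrep x hx0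
  let e : (A ⧸ p) →ₗ[A] (Z ⧸ Z'') := Submodule.liftQ p (LinearMap.toSpanSingleton A _ x) fun a ha => hpx a ha
  have he1 : e 1 = x := one_smul A x
  have he : Function.Injective e := by
    rw [injective_iff_map_eq_zero]
    intro r hr
    obtain ⟨r, rfl⟩ := Submodule.Quotient.mk_surjective p r
    rw [Submodule.Quotient.mk_eq_zero]
    by_contra hrp
    exact hx r hrp hr
  refine ⟨Q, inferInstance, hQT, m, ?_, fun t ht h0 => hne t ht ?_, fun d hd => ?_⟩
  · apply Module.Flat.lTensor_preserves_injective_linearMap (M := M) e he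
    rw [LinearMap.lTensor_tmul, map_zero, he1]
    simpa [hvm] using huv
  · rw [hvm, smul_tmul', ← he1, ← LinearMap.lTensor_tmul, h0, map_zero]
  · obtain ⟨m', hm'⟩ := hrep (d • x) (hx d hd)
    refine ⟨m', Module.Flat.lTensor_preserves_injective_linearMap (M := N) e he ?_⟩
    rw [LinearMap.lTensor_tmul, LinearMap.lTensor_tmul, he1, ← hvm, hm', smul_tmul]

/-- A map, linear over the base only, to a flat module which is injective on the closed fibre is universally
injective on a module which is flat and relatively finitely presented at a point over the closed point. -/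
theorem univInj_of_injective_residue [IsLocalRing A] (y : Ideal (MvPolynomial (Fin n) A)) [y.IsPrime]
    (hy : y.comap MvPolynomial.C = maximalIdeal A)
    {N₀ : Type u} [AddCommGroup N₀] [Module A N₀] [Module (MvPolynomial (Fin n) A) N₀]
    [IsScalarTower A (MvPolynomial (Fin n) A) N₀] [Module.FinitePresentation (MvPolynomial (Fin n) A) N₀]
    {N : Type u} [AddCommGroup N] [Module A N] [Module (MvPolynomial (Fin n) A) N]
    [IsScalarTower A (MvPolynomial (Fin n) A) N] [Module.Flat A N]
    (l : N₀ →ₗ[MvPolynomial (Fin n) A] N) [IsLocalizedModule y.primeCompl l]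
    {M : Type u} [AddCommGroup M] [Module A M] [Module.Flat A M] (u : N →ₗ[A] M)
    (h : Function.Injective (u.lTensor (IsLocalRing.ResidueField A))) : FlatCA.UnivInj A u := by
  intro Z _ _
  suffices H : ∀ v : N ⊗[A] Z, u.rTensor Z v = 0 → v = 0 by
    rw [injective_iff_map_eq_zero]
    intro w hw
    apply (TensorProduct.comm A Z N).injective
    rw [map_zero]
    refine H _ ?_
    have : u.rTensor Z (TensorProduct.comm A Z N w) = TensorProduct.comm A Z M (u.lTensor Z w) := by
      clear hw
      induction w with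
      | zero => simp
      | add a b ha hb => simp only [map_add, ha, hb]
      | tmul m x => simp
    rw [this, hw, map_zero]
  intro v hv
  by_contra hv0
  obtain ⟨Q, _, hQT, m, hum, hm, hdiv⟩ := exists_prime_witness y.primeCompl l u v hv hv0
  have hQy : Q ≤ y := fun t ht => by
    by_contra hty
    exact hQT t hty ht
  have h1 : (1 : MvPolynomial (Fin n) A) ∉ Q := (Ideal.ne_top_iff_one Q).1 ‹Q.IsPrime›.ne_top
  let r : Ideal A := Q.comap MvPolynomial.C
  have hrp : r ≤ maximalIdeal A := hy ▸ Ideal.comap_mono hQy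
  rcases hrp.eq_or_lt with hreq | hlt
  · -- the closed fibre
    let e : (A ⧸ r) →ₗ[A] ResidueField A := Submodule.factor hreq.le
    have he : Function.Injective e := by
      rw [injective_iff_map_eq_zero]
      intro c hc
      obtain ⟨c, rfl⟩ := Submodule.Quotient.mk_surjective r c
      have hc' : c ∈ maximalIdeal A := (Submodule.Quotient.mk_eq_zero _).1 hc
      exact (Submodule.Quotient.mk_eq_zero _).2 (hreq ▸ hc')
    have h2 : (1 : ResidueField A) ⊗ₜ[A] m = 0 := h (by
      rw [map_zero, LinearMap.lTensor_tmul]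
      have := congr(TensorProduct.comm A M _ (e.lTensor M $hum))
      simpa [show e 1 = 1 from rfl] using this)
    refine hm 1 h1 (Module.Flat.lTensor_preserves_injective_linearMap (M := N) e he ?_)
    rw [one_smul, LinearMap.lTensor_tmul, map_zero]
    have := congr(TensorProduct.comm A _ N $h2)
    simpa [show e 1 = 1 from rfl] using this
  · obtain ⟨a, hap, har⟩ := SetLike.exists_of_lt hlt
    obtain ⟨⟨x₀, s₀⟩, hs₀⟩ := IsLocalizedModule.surj y.primeCompl l m
    have hs₀' : (s₀ : MvPolynomial (Fin n) A) • m = l x₀ := hs₀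
    have hact : ∀ (t : MvPolynomial (Fin n) A) (z z' : N),
        z ⊗ₜ[A] (1 : A ⧸ r) = z' ⊗ₜ[A] (1 : A ⧸ r) → (t • z) ⊗ₜ[A] (1 : A ⧸ r) = (t • z') ⊗ₜ[A] (1 : A ⧸ r) :=
      fun t z z' hzz => by rw [← smul_tmul', ← smul_tmul', hzz]
    refine false_of_divisible y Q hQy (maximalIdeal A) r hy rfl a hap har l x₀ (fun t ht h0 => ?_) fun d hd => ?_
    · obtain ⟨s, hs, hsy⟩ := exists_smul_tmul_eq_zero r (t • x₀) h0
      have h2 := hsy (A ⧸ r) 1 fun c hc => by
        rw [Algebra.smul_def, mul_one]
        exact Ideal.Quotient.eq_zero_iff_mem.2 hc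
      refine hm (algebraMap A (MvPolynomial (Fin n) A) s * t * s₀)
        (Ideal.IsPrime.mul_notMem ‹_› (Ideal.IsPrime.mul_notMem ‹_› hs ht) (hQT _ s₀.2)) ?_
      rw [mul_smul, mul_smul, hs₀', algebraMap_smul]
      have := congr((l.restrictScalars A).rTensor (A ⧸ r) $h2)
      simpa [smul_tmul'] using this
    · obtain ⟨m', hm'⟩ := hdiv d hd
      obtain ⟨⟨x', s'⟩, hs'⟩ := IsLocalizedModule.surj y.primeCompl l m'
      have hs'' : (s' : MvPolynomial (Fin n) A) • m' = l x' := hs'
      refine ⟨s', s'.2, (s₀ : MvPolynomial (Fin n) A) • x', (TensorProduct.comm A (A ⧸ r) N).injective ?_⟩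
      simp only [TensorProduct.comm_tmul]
      rw [map_smul, ← hs₀', LinearMap.map_smul_of_tower, map_smul, ← hs'',
        smul_comm d (s₀ : MvPolynomial (Fin n) A), smul_comm d (s' : MvPolynomial (Fin n) A),
        smul_comm (s' : MvPolynomial (Fin n) A) (s₀ : MvPolynomial (Fin n) A)]
      exact hact _ _ _ (hact _ _ _ hm')

end Groth.Agent.RGCore
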