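import Groth.Agent.RGCore.FiniteAt
import Groth.Agent.RGCore.Fibrewise
import Groth.Agent.FlatMisc.ValuationLocalFP

/-!
Content ideals of elements of flat finite modules over valuation rings.
-/

set_option autoImplicit false
set_option linter.unusedSectionVars false

universe u

open TensorProduct IsLocalRing

namespace Groth.Agent.RGCore

section Bound

variable {A B : Type u} [CommRing A] [IsDomain A] [ValuationRing A] [CommRing B] [IsLocalRing B] [Algebra A B]
  [IsLocalHom (algebraMap A B)] [Algebra.EssFiniteType A B]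
  {N : Type u} [AddCommGroup N] [Module B N] [Module A N] [IsScalarTower A B N] [Module.Finite B N] [Module.Flat A N]

theorem eq_zero_of_smul_eq_zero {c : A} (hc : c ≠ 0) {n : N} (h : c • n = 0) : n = 0 := by
  have h3 : n ∈ Submodule.torsion A N := ⟨⟨c, mem_nonZeroDivisors_of_ne_zero hc⟩, h⟩
  rwa [Module.Flat.torsion_eq_bot, Submodule.mem_bot] at h3

variable (A B) in
include B in
/-- A nonzero element is divisible by bounded scalars only. -/
theorem exists_bound (g : N) (hg : g ≠ 0) : ∃ b : A, b ≠ 0 ∧ ∀ (d : A) (g' : N), g = d • g' → d ∣ b := by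
  classical
  let W : Submodule B N :=
    { carrier := {n | ∃ c : A, c ≠ 0 ∧ c • n ∈ Submodule.span B {g}}
      zero_mem' := ⟨1, one_ne_zero, by simp⟩
      add_mem' := by
        rintro n m ⟨c, hc, hn⟩ ⟨c', hc', hm⟩
        refine ⟨c * c', mul_ne_zero hc hc', ?_⟩
        rw [smul_add]
        refine add_mem ?_ ?_
        · rw [mul_comm, mul_smul]; exact Submodule.smul_of_tower_mem _ c' hn
        · rw [mul_smul]; exact Submodule.smul_of_tower_mem _ c hm
      smul_mem' := by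
        rintro β n ⟨c, hc, hn⟩
        exact ⟨c, hc, by rw [smul_comm]; exact Submodule.smul_mem _ β hn⟩ }
  have : Module.Flat A (N ⧸ W) := by
    rw [Module.Flat.flat_iff_torsion_eq_bot_of_isBezout, eq_bot_iff]
    rintro z ⟨⟨c, hc⟩, hz⟩
    obtain ⟨n, rfl⟩ := Submodule.Quotient.mk_surjective W z
    have hn : c • n ∈ W := by
      rw [← Submodule.Quotient.mk_eq_zero W, Submodule.Quotient.mk_smul]
      exact hz
    obtain ⟨c', hc', hmem⟩ := hn
    rw [Submodule.mem_bot, Submodule.Quotient.mk_eq_zero]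
    exact ⟨c' * c, mul_ne_zero hc' (nonZeroDivisors.ne_zero hc), by rwa [mul_smul]⟩
  have : Module.FinitePresentation B (N ⧸ W) := FlatMisc.ValuationLocalFP.finitePresentation (A := A)
  have hW : W.FG := W.ker_mkQ ▸ Module.FinitePresentation.fg_ker _ W.mkQ_surjective
  obtain ⟨G, hG⟩ := hW
  choose! c hc0 hc using fun n (hn : n ∈ G) => (show n ∈ W from hG.le (Submodule.subset_span hn))
  refine ⟨∏ n ∈ G, c n, Finset.prod_ne_zero_iff.2 hc0, fun d g' hd => ?_⟩
  set b := ∏ n ∈ G, c n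
  have hd0 : d ≠ 0 := fun h => hg (by rw [hd, h, zero_smul])
  have hg' : g' ∈ W := ⟨d, hd0, hd ▸ Submodule.mem_span_singleton_self g⟩
  have hkill : ∀ n ∈ W, b • n ∈ Submodule.span B {g} := by
    intro n hn
    rw [← hG] at hn
    induction hn using Submodule.span_induction with
    | mem x hx =>
      rw [show b = (∏ y ∈ G.erase x, c y) * c x from (Finset.prod_erase_mul _ _ hx).symm, mul_smul]
      exact Submodule.smul_of_tower_mem _ _ (hc x hx)
    | zero => rw [smul_zero]; exact zero_mem _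
    | add x y _ _ hx hy => rw [smul_add]; exact add_mem hx hy
    | smul β x _ hx => rw [smul_comm]; exact Submodule.smul_mem _ β hx
  obtain ⟨β, hβ⟩ := Submodule.mem_span_singleton.1 (hkill g' hg')
  rcases ValuationRing.dvd_total d b with h | ⟨e, he⟩
  · exact h
  by_cases hu : IsUnit e
  · exact he ▸ (IsUnit.mul_right_dvd hu).2 dvd_rfl
  exfalso
  have h1 : b • (g' - (β * algebraMap A B e) • g') = 0 := by
    rw [smul_sub, ← hβ, hd, he, mul_smul b e, mul_smul β, algebraMap_smul, ← smul_comm b β, sub_self]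
  have hb0 : b ≠ 0 := Finset.prod_ne_zero_iff.2 hc0
  have h2 : (1 - β * algebraMap A B e) • g' = 0 := by
    rw [sub_smul, one_smul]
    exact eq_zero_of_smul_eq_zero hb0 h1
  have hu' : IsUnit (1 - β * algebraMap A B e) :=
    isUnit_one_sub_self_of_mem_nonunits _ ((maximalIdeal B).mul_mem_left β (fun h => hu (isUnit_of_map_unit _ _ h)))
  exact hg (by rw [hd, hu'.smul_eq_zero.1 h2, smul_zero])

variable (B) in
include B in
/-- The bound modulo a prime. -/
theorem exists_bound_mod (r : Ideal A) [r.IsPrime] (g : N) (hg : g ∉ r • (⊤ : Submodule A N)) :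
    ∃ b ∉ r, ∀ (d : A) (g' : N), d ∉ r → g = d • g' → d ∣ b := by
  let J : Ideal B := r.map (algebraMap A B)
  have hdiv : ∀ d ∉ r, ∀ a ∈ r, ∃ a' ∈ r, a = d * a' := fun d hd a ha => by
    rcases ValuationRing.dvd_total d a with ⟨a', rfl⟩ | ⟨e, rfl⟩
    · exact ⟨a', (‹r.IsPrime›.mem_or_mem ha).resolve_left hd, rfl⟩
    · exact absurd (r.mul_mem_right e ha) hd
  have hJ : J ≤ maximalIdeal B := Ideal.map_le_iff_le_comap.2 fun a ha =>
    fun h => ‹r.IsPrime›.ne_top (r.eq_top_of_isUnit_mem ha (isUnit_of_map_unit (algebraMap A B) a h))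
  have : Nontrivial (B ⧸ J) := Ideal.Quotient.nontrivial_iff.2 fun h => (maximalIdeal.isMaximal B).ne_top (top_le_iff.1 (h ▸ hJ))
  have : IsLocalRing (B ⧸ J) := .of_surjective' (Ideal.Quotient.mk J) Ideal.Quotient.mk_surjective
  have : ValuationRing (A ⧸ r) := ValuationRing.iff_dvd_total.2 ⟨fun a b => by
    obtain ⟨a, rfl⟩ := Ideal.Quotient.mk_surjective a
    obtain ⟨b, rfl⟩ := Ideal.Quotient.mk_surjective b
    exact (ValuationRing.dvd_total a b).imp (map_dvd _) (map_dvd _)⟩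
  let : Algebra (A ⧸ r) (B ⧸ J) := (Ideal.quotientMap J (algebraMap A B) Ideal.le_comap_map).toAlgebra
  have : IsScalarTower A (A ⧸ r) (B ⧸ J) := .of_algebraMap_eq fun _ => rfl
  have : IsLocalHom (algebraMap (A ⧸ r) (B ⧸ J)) := ⟨fun a ha => by
    obtain ⟨a, rfl⟩ := Ideal.Quotient.mk_surjective a
    refine (isUnit_of_map_unit (algebraMap A B) a ?_).map _
    by_contra hnu
    have : Ideal.Quotient.mk J (algebraMap A B a) ∈ (maximalIdeal B).map (Ideal.Quotient.mk J) :=
      Ideal.mem_map_of_mem _ hnu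
    have htop := Ideal.eq_top_of_isUnit_mem _ this ha
    have := congrArg (Ideal.comap (Ideal.Quotient.mk J)) htop
    rw [Ideal.comap_top, Ideal.comap_map_of_surjective' _ Ideal.Quotient.mk_surjective, Ideal.mk_ker, sup_eq_left.2 hJ] at this
    exact (maximalIdeal.isMaximal B).ne_top this⟩
  have : Algebra.EssFiniteType A (B ⧸ J) := inferInstance
  have : Algebra.EssFiniteType (A ⧸ r) (B ⧸ J) := Algebra.EssFiniteType.of_comp A (A ⧸ r) (B ⧸ J)
  let N' := N ⧸ (J • ⊤ : Submodule B N)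
  let : Module (A ⧸ r) N' := Module.compHom N' (algebraMap (A ⧸ r) (B ⧸ J))
  have : IsScalarTower (A ⧸ r) (B ⧸ J) N' := .of_algebraMap_smul fun _ _ => rfl
  have hsmul : ∀ (a : A) (n : N), (Ideal.Quotient.mk r a) • (Submodule.Quotient.mk n : N') = Submodule.Quotient.mk (a • n) := by
    intro a n
    show (Ideal.Quotient.mk J (algebraMap A B a)) • (Submodule.Quotient.mk n : N') = _
    rw [← algebraMap_smul B a n]
    rfl
  have : Module.Finite (B ⧸ J) N' := Module.Finite.of_restrictScalars_finite B _ _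
  have : Module.Flat (A ⧸ r) N' := by
    rw [Module.Flat.flat_iff_torsion_eq_bot_of_isBezout, eq_bot_iff]
    rintro z ⟨⟨c, hc⟩, hz⟩
    obtain ⟨c, rfl⟩ := Ideal.Quotient.mk_surjective c
    have hcr : c ∉ r := fun h => nonZeroDivisors.ne_zero hc (Ideal.Quotient.eq_zero_iff_mem.2 h)
    obtain ⟨n, rfl⟩ := Submodule.Quotient.mk_surjective _ z
    have hn : c • n ∈ J • (⊤ : Submodule B N) := by
      rw [← Submodule.Quotient.mk_eq_zero, ← hsmul]
      exact hz
    rw [Submodule.mem_bot, Submodule.Quotient.mk_eq_zero]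
    obtain ⟨h, hh, hch⟩ : ∃ h ∈ r • (⊤ : Submodule A N), c • n = c • h := by
      have := AssFiber.mem_smul_top_of_mem_pN r (S := B) N hn
      generalize c • n = w at this
      induction this using Submodule.smul_induction_on' with
      | smul a ha v _ =>
        obtain ⟨a', ha', rfl⟩ := hdiv c hcr a ha
        exact ⟨a' • v, Submodule.smul_mem_smul ha' Submodule.mem_top, mul_smul c a' v⟩
      | add v _ w _ hv hw =>
        obtain ⟨h, hh, rfl⟩ := hv
        obtain ⟨h', hh', rfl⟩ := hw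
        exact ⟨h + h', add_mem hh hh', (smul_add c h h').symm⟩
    have : n = h := sub_eq_zero.1 (eq_zero_of_smul_eq_zero (c := c) (fun h0 => hcr (h0 ▸ r.zero_mem))
      (by rw [smul_sub, hch, sub_self]))
    exact AssFiber.smul_mem_pN r (S := B) N (this ▸ hh)
  obtain ⟨b, hb, hbd⟩ := exists_bound (A ⧸ r) (B ⧸ J) (Submodule.Quotient.mk g : N') (fun h => hg
    (AssFiber.mem_smul_top_of_mem_pN r (S := B) N ((Submodule.Quotient.mk_eq_zero _).1 h)))
  obtain ⟨b, rfl⟩ := Ideal.Quotient.mk_surjective b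
  refine ⟨b, fun h => hb (Ideal.Quotient.eq_zero_iff_mem.2 h), fun d g' hd hgd => ?_⟩
  obtain ⟨e, he⟩ := hbd (Ideal.Quotient.mk r d) (Submodule.Quotient.mk g') (by rw [hsmul, hgd])
  obtain ⟨e, rfl⟩ := Ideal.Quotient.mk_surjective e
  rw [← map_mul, Ideal.Quotient.eq] at he
  obtain ⟨a', -, ha'⟩ := hdiv d hd _ he
  exact ⟨e + a', by rw [mul_add, ← ha', add_sub_cancel]⟩

end Bound

/-- Content ideals over a valuation ring. -/
theorem exists_content_valuation {A B : Type u} [CommRing A] [IsDomain A] [ValuationRing A] [CommRing B]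
    [IsLocalRing B] [Algebra A B] [IsLocalHom (algebraMap A B)] [Algebra.EssFiniteType A B]
    (N : Type u) [AddCommGroup N] [Module B N] [Module A N] [IsScalarTower A B N] [Module.Finite B N]
    [Module.Flat A N] (x : N) :
    ∃ I : Ideal A, I.IsPrincipal ∧ x ∈ I • (⊤ : Submodule A N) ∧
      ∀ J : Ideal A, x ∈ J • (⊤ : Submodule A N) → I ≤ J := by
  classical
  have hone : ∀ (J : Ideal A) (v : N), v ∈ J • (⊤ : Submodule A N) → ∃ a ∈ J, ∃ g : N, v = a • g := by
    intro J v hv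
    induction hv using Submodule.smul_induction_on' with
    | smul a ha v _ => exact ⟨a, ha, v, rfl⟩
    | add v _ w _ hv hw =>
      obtain ⟨a, ha, g, rfl⟩ := hv
      obtain ⟨a', ha', g', rfl⟩ := hw
      rcases ValuationRing.dvd_total a a' with ⟨e, rfl⟩ | ⟨e, rfl⟩
      · exact ⟨a, ha, g + e • g', by rw [smul_add, mul_smul]⟩
      · exact ⟨a', ha', e • g + g', by rw [smul_add, mul_smul]⟩
  let 𝒜 : Set A := {a | ∃ g : N, x = a • g}
  suffices ∃ a₀ ∈ 𝒜, ∀ a ∈ 𝒜, a ∣ a₀ by
    obtain ⟨a₀, ⟨g, hg⟩, hmin⟩ := this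
    refine ⟨Ideal.span {a₀}, ⟨a₀, rfl⟩, ?_, fun J hJ => ?_⟩
    · rw [hg]
      exact Submodule.smul_mem_smul (Ideal.mem_span_singleton_self a₀) Submodule.mem_top
    · obtain ⟨a, ha, g', hg'⟩ := hone J x hJ
      obtain ⟨e, he⟩ := hmin a ⟨g', hg'⟩
      rw [Ideal.span_singleton_le_iff_mem, he]
      exact J.mul_mem_right e ha
  by_cases hx : x = 0
  · exact ⟨0, ⟨0, by rw [hx, smul_zero]⟩, fun a _ => dvd_zero a⟩
  by_contra hno
  push Not at hno
  -- a polynomial presentation
  let B₀ := Algebra.EssFiniteType.subalgebra A B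
  obtain ⟨n, π₀, hπ₀⟩ := Algebra.FiniteType.iff_quotient_mvPolynomial''.mp (inferInstance : Algebra.FiniteType A B₀)
  let ι : MvPolynomial (Fin n) A →ₐ[A] B := B₀.val.comp π₀
  let : Module (MvPolynomial (Fin n) A) N := Module.compHom N ι.toRingHom
  have : IsScalarTower A (MvPolynomial (Fin n) A) N := .of_algebraMap_smul fun a v => by
    show ι (algebraMap A _ a) • v = a • v
    rw [AlgHom.commutes, algebraMap_smul]
  let y : Ideal (MvPolynomial (Fin n) A) := (maximalIdeal B).comap ι.toRingHom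
  have hyu : ∀ t : y.primeCompl, IsUnit (ι t) := fun t => not_not.1 t.2
  obtain ⟨G, hG⟩ := (Module.Finite.fg_top : (⊤ : Submodule B N).FG)
  let N' : Submodule (MvPolynomial (Fin n) A) N := Submodule.span _ (G : Set N)
  have : Module.Finite (MvPolynomial (Fin n) A) N' := Module.Finite.span_of_finite _ G.finite_toSet
  have hden : ∀ b : B, ∃ t : MvPolynomial (Fin n) A, t ∉ y ∧ ∃ t', ι t * b = ι t' := by
    intro b
    obtain ⟨⟨c, ⟨s, hs⟩⟩, hcs⟩ := IsLocalization.surj (Algebra.EssFiniteType.submonoid A B) b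
    obtain ⟨t, rfl⟩ := hπ₀ s
    obtain ⟨t', rfl⟩ := hπ₀ c
    exact ⟨t, fun h => h hs, t', (mul_comm _ _).trans hcs⟩
  have hN : IsLocalizedModule y.primeCompl N'.subtype :=
    { map_units := fun s => (Module.End.isUnit_iff _).2 ((hyu s).smul_bijective (β := N))
      surj := fun z => by
        have hz : z ∈ Submodule.span B (G : Set N) := hG ▸ trivial
        induction hz using Submodule.span_induction with
        | mem v hv => exact ⟨⟨⟨v, Submodule.subset_span hv⟩, 1⟩, one_smul _ v⟩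
        | zero => exact ⟨⟨0, 1⟩, by simp⟩
        | add v w _ _ hv hw =>
          obtain ⟨⟨a, s⟩, ha⟩ := hv
          obtain ⟨⟨c, t⟩, hc⟩ := hw
          refine ⟨⟨(t : MvPolynomial (Fin n) A) • a + (s : MvPolynomial (Fin n) A) • c, s * t⟩, ?_⟩
          show ((s : MvPolynomial (Fin n) A) * t) • (v + w) = _ • (a : N) + _ • (c : N)
          rw [smul_add, show (a : N) = (s : MvPolynomial (Fin n) A) • v from ha.symm,
            show (c : N) = (t : MvPolynomial (Fin n) A) • w from hc.symm, smul_smul, smul_smul, mul_comm]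
        | smul b v _ hv =>
          obtain ⟨⟨a, s⟩, ha⟩ := hv
          obtain ⟨t, ht, t', htt⟩ := hden b
          refine ⟨⟨t' • a, ⟨t, ht⟩ * s⟩, ?_⟩
          show ι (t * s) • b • v = ι t' • (a : N)
          rw [show (a : N) = ι (s : MvPolynomial (Fin n) A) • v from ha.symm, smul_smul, smul_smul, ← htt, map_mul]
          congr 1
          ring
      exists_of_eq := fun {a c} h => ⟨1, by rw [Subtype.ext h]⟩ }
  obtain ⟨-, -, N₀, _, _, _, _, π, _, hπ, hker⟩ := finite_at_poly y (y.comap MvPolynomial.C) rfl N'.subtype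
    fun w hw => exists_smul_eq_zero_of_lTensor y.primeCompl N'.subtype w hw
  let l := N'.subtype ∘ₗ π
  have hl : IsLocalizedModule y.primeCompl l := isLocalizedModule_comp_surjective y.primeCompl N'.subtype π hπ hker
  let I : Ideal A := ⨅ a ∈ 𝒜, Ideal.span {a}
  have hI : ∀ {e}, e ∈ I ↔ ∀ a ∈ 𝒜, a ∣ e := fun {e} => by simp [I, Submodule.mem_iInf, Ideal.mem_span_singleton]
  let z : N ⊗[A] (A ⧸ I) := x ⊗ₜ[A] 1
  have hz : z ≠ 0 := fun h => by
    obtain ⟨a, ha, g, hg⟩ := hone I x (mem_smul_top_of_tmul_one I x h)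
    obtain ⟨a', ha', hna⟩ := hno a ⟨g, hg⟩
    exact hna (hI.1 ha a' ha')
  have hann : WeakAss.annEl (MvPolynomial (Fin n) A) z ≤ y := fun t ht => by
    by_contra hty
    let e : N ≃ₗ[A] N := LinearEquiv.ofBijective ((LinearMap.lsmul (MvPolynomial (Fin n) A) N t).restrictScalars A)
      ((hyu ⟨t, hty⟩).smul_bijective (β := N))
    exact hz ((LinearEquiv.rTensor (A ⧸ I) e).injective (by
      rw [map_zero, ← WeakAss.mem_annEl.1 ht]
      rfl))
  have : y.IsPrime := Ideal.IsPrime.comap _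
  obtain ⟨Q, hQ, hQy⟩ := Ideal.exists_minimalPrimes_le hann
  have : Q.IsPrime := hQ.1.1
  have hQT : ∀ t ∈ y.primeCompl, t ∉ Q := fun t ht h => ht (hQy h)
  obtain ⟨x', hx', hY⟩ := exists_content_localized y.primeCompl l Q hQT
    (flat_localized_of_flat y.primeCompl l Q hQT) (A ⧸ I) z
    (fun t ht h => ht (hQ.1.2 (WeakAss.mem_annEl.2 h)))
    (fun t ht => by
      obtain ⟨s, hs, k, hk⟩ := WeakAss.exists_mul_pow_mem hQ ht
      exact ⟨k, s, hs, by rw [← mul_smul]; exact WeakAss.mem_annEl.1 hk⟩)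
  obtain ⟨e₀, rfl⟩ := Ideal.Quotient.mk_surjective x'
  let r : Ideal A := Q.comap MvPolynomial.C
  have : r.IsPrime := Ideal.IsPrime.comap _
  have hs : ∀ a ∈ 𝒜, ∃ s ∉ r, a ∣ s * e₀ := by
    rintro a ⟨g, hg⟩
    obtain ⟨s, hs, hmem⟩ := hY (Submodule.span A {Ideal.Quotient.mk I a}) 1
      (fun h => ‹Q.IsPrime›.ne_top ((Ideal.eq_top_iff_one Q).2 h))
      ⟨g ⊗ₜ[A] ⟨_, Submodule.mem_span_singleton_self _⟩, by
        rw [one_smul, LinearMap.lTensor_tmul, Submodule.subtype_apply]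
        show g ⊗ₜ[A] Ideal.Quotient.mk I a = x ⊗ₜ[A] (1 : A ⧸ I)
        rw [hg, smul_tmul, Algebra.smul_def, mul_one, Ideal.Quotient.algebraMap_eq]⟩
    obtain ⟨c, hc⟩ := Submodule.mem_span_singleton.1 hmem
    rw [Algebra.smul_def, Algebra.smul_def, Ideal.Quotient.algebraMap_eq, ← map_mul, ← map_mul, Ideal.Quotient.eq] at hc
    refine ⟨s, hs, ?_⟩
    have := dvd_sub (Dvd.intro_left c rfl : a ∣ c * a) (hI.1 hc a ⟨g, hg⟩)
    rwa [sub_sub_cancel] at this
  have hnI : ∀ s ∉ r, ∃ a ∈ 𝒜, ¬ a ∣ s * e₀ := fun s hs => by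
    have h := hx' s hs
    rw [Algebra.smul_def, Ideal.Quotient.algebraMap_eq, ← map_mul, Ne, Ideal.Quotient.eq_zero_iff_mem, hI] at h
    push Not at h
    exact h
  obtain ⟨a₀, ⟨g, hg⟩, hna₀⟩ := hnI 1 fun h => ‹r.IsPrime›.ne_top ((Ideal.eq_top_iff_one r).2 h)
  rw [one_mul] at hna₀
  obtain ⟨e, rfl⟩ := (ValuationRing.dvd_total e₀ a₀).resolve_right hna₀
  have he₀ : e₀ ≠ 0 := fun h => hna₀ (h ▸ dvd_zero _)
  have hnr : ∀ d g', x = (e₀ * e * d) • g' → e * d ∉ r := fun d g' hd hmem => by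
    obtain ⟨s, hs', hsd⟩ := hs _ ⟨g', hd⟩
    rw [mul_assoc, mul_comm s, mul_dvd_mul_iff_left he₀] at hsd
    exact hs' (r.mem_of_dvd hsd hmem)
  have he : e ∉ r := fun h => hnr 1 g (by rw [mul_one]; exact hg) (r.mul_mem_right 1 h)
  have hgr : g ∉ r • (⊤ : Submodule A N) := fun h => by
    obtain ⟨c, hc, g', rfl⟩ := hone r g h
    exact hnr c g' (by rw [mul_smul, hg]) (r.mul_mem_left e hc)
  obtain ⟨b, hb, hbd⟩ := exists_bound_mod B r g hgr
  have hkey : ∀ a ∈ 𝒜, a ∣ e * b * e₀ := by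
    rintro a ⟨g', hg'⟩
    rcases ValuationRing.dvd_total a (e₀ * e) with ⟨d, hd⟩ | ⟨d, rfl⟩
    · exact ⟨d * b, by rw [← mul_assoc, ← hd]; ring⟩
    · have hed : e * d ∉ r := hnr d g' hg'
      have hne : e₀ * e ≠ 0 := mul_ne_zero he₀ (fun h => he (h ▸ r.zero_mem))
      have hgd : g = d • g' := sub_eq_zero.1 (eq_zero_of_smul_eq_zero hne
        (by rw [smul_sub, ← hg, smul_smul, ← hg', sub_self]))
      obtain ⟨w, hw⟩ := hbd d g' (fun h => hed (r.mul_mem_left e h)) hgd
      exact ⟨w, by rw [hw]; ring⟩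
  obtain ⟨a, ha, hna⟩ := hnI (e * b) (‹r.IsPrime›.mul_notMem he hb)
  exact hna (hkey a ha)

end Groth.Agent.RGCore
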